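import Cfsg.Agent.L0.RAct
import Cfsg.Agent.L0.J4.Rel0

/-! Generated action table. -/

set_option autoImplicit false
set_option maxRecDepth 100000

namespace Cfsg.Agent.L0.J4Act0

noncomputable def t0 : BT := .leaf (nat_lit 0x648f440d4b4552b52e266c996b524c8364a5aae8982777c511210f6a240382d0f9ceb7a8587a96c95ade8b20544d14368848a86663420a24682682600b446314aa2084e704e7a92cf085e18d6f252cb62b1872d9569b2f5926562b175756e38c2601800624572bc491852e09d6e66b4d724863a118e708e9b42002a14b73981648c0221ed0b8f449e8508669b88e78a81083cc38b9c213c63248b06b5af726899bd2f414c3)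

noncomputable def tree : BT := t0

noncomputable def row : ℕ → ℕ := rowOf tree (nat_lit 5) (nat_lit 31) (nat_lit 55) (nat_lit 0x7fffffffffffff)

/-- image of the point `c` under letter `i` -/
noncomputable def T : ℕ → ℕ → ℕ := pT row (nat_lit 5) (nat_lit 31)

noncomputable def chk : ℕ → Bool := relChk T (nat_lit 24) [nat_lit 0, nat_lit 1, nat_lit 2, nat_lit 3, nat_lit 4, nat_lit 5, nat_lit 6, nat_lit 7, nat_lit 8, nat_lit 9, nat_lit 10] J40.R

theorem b0 : allR chk 5 0 = true := by decide +kernel

theorem all : ∀ c < 24, chk c = true := fun c hc =>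
  allR_glue (d := 5) (n := 1) (forall_lt_succ' forall_lt_zero' b0) c (lt_of_lt_of_le hc (by norm_num))

theorem ex : ∃ A : RAct (PG 11 J40.R) 24, A.Tab (PG.gen 11 J40.R) 11 T :=
  exists_ract_PG (by decide +kernel) (by decide +kernel) le_rfl all

end Cfsg.Agent.L0.J4Act0
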