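import Cfsg.Agent.L0.J4.ActNC0
import Cfsg.Agent.L0.J4.ActNC1
import Cfsg.Agent.L0.J4.ActNC2

/-! Generated action table. -/

set_option autoImplicit false
set_option maxRecDepth 100000

namespace Cfsg.Agent.L0.J4ActN

theorem all : ∀ c < 15180, chk c = true := fun c hc =>
  allR_glue (d := 9) (n := 30) (forall_lt_succ' (forall_lt_succ' (forall_lt_succ' (forall_lt_succ' (forall_lt_succ' (forall_lt_succ' (forall_lt_succ' (forall_lt_succ' (forall_lt_succ' (forall_lt_succ' (forall_lt_succ' (forall_lt_succ' (forall_lt_succ' (forall_lt_succ' (forall_lt_succ' (forall_lt_succ' (forall_lt_succ' (forall_lt_succ' (forall_lt_succ' (forall_lt_succ' (forall_lt_succ' (forall_lt_succ' (forall_lt_succ' (forall_lt_succ' (forall_lt_succ' (forall_lt_succ' (forall_lt_succ' (forall_lt_succ' (forall_lt_succ' (forall_lt_succ' forall_lt_zero' b0) b1) b2) b3) b4) b5) b6) b7) b8) b9) b10) b11) b12) b13) b14) b15) b16) b17) b18) b19) b20) b21) b22) b23) b24) b25) b26) b27) b28) b29) c (lt_of_lt_of_le hc (by norm_num))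

theorem ex : ∃ A : RAct (PG 13 J4H.R) 15180, A.Tab (PG.gen 13 J4H.R) 13 T :=
  exists_ract_PG (by decide +kernel) (by decide +kernel) le_rfl all

end Cfsg.Agent.L0.J4ActN
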