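import Cfsg.Agent.L0.ChainT
import Cfsg.Agent.L0.J4.Act0

/-! Generated stabiliser chain. -/

set_option autoImplicit false
set_option maxRecDepth 100000

namespace Cfsg.Agent.L0.J4Ch0

def S0 : List (List ℕ) := [[nat_lit 0], [nat_lit 1], [nat_lit 2], [nat_lit 3], [nat_lit 4], [nat_lit 5], [nat_lit 6], [nat_lit 7], [nat_lit 8], [nat_lit 9], [nat_lit 10]]

noncomputable def r0t0 : BT := .leaf (nat_lit 0x96685a6248634e78a3aa25948d2460426a40)

noncomputable def r0tree : BT := r0t0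

noncomputable def r0 : ℕ → ℕ := rowOf r0tree (nat_lit 5) (nat_lit 31) (nat_lit 6) (nat_lit 63)

noncomputable def chk0 : ℕ → Bool := RAct.levI (J4Act0.T) S0 r0 (nat_lit 15) (nat_lit 4) (nat_lit 0) (nat_lit 24) (nat_lit 0)

def S1 : List (List ℕ) := [[nat_lit 6, nat_lit 3], [nat_lit 8, nat_lit 6], [nat_lit 10, nat_lit 6], [nat_lit 4, nat_lit 5], [nat_lit 5, nat_lit 7], [nat_lit 5, nat_lit 9]]

noncomputable def r1t0 : BT := .leaf (nat_lit 0x82dea3b20359ca938cd0394e91e660803d047418da819382f5154da98251529f93354458209458d0210001)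

noncomputable def r1tree : BT := r1t0

noncomputable def r1 : ℕ → ℕ := rowOf r1tree (nat_lit 5) (nat_lit 31) (nat_lit 15) (nat_lit 32767)

def L1 : LvP := ⟨nat_lit 31, nat_lit 5, nat_lit 7, nat_lit 8, nat_lit 31, nat_lit 13, nat_lit 23, nat_lit 1⟩

noncomputable def chk1 : ℕ → Bool := levT (J4Act0.T) S1 r1 L1 (nat_lit 24)

def S2 : List (List ℕ) := [[nat_lit 0, nat_lit 4, nat_lit 4, nat_lit 0], [nat_lit 1, nat_lit 7, nat_lit 4, nat_lit 0], [nat_lit 2, nat_lit 0, nat_lit 1, nat_lit 10], [nat_lit 9, nat_lit 0, nat_lit 6, nat_lit 2], [nat_lit 9, nat_lit 2, nat_lit 0, nat_lit 1], [nat_lit 4, nat_lit 7, nat_lit 6, nat_lit 0], [nat_lit 0, nat_lit 3, nat_lit 8, nat_lit 2], [nat_lit 0, nat_lit 5, nat_lit 8, nat_lit 3], [nat_lit 1, nat_lit 5, nat_lit 0, nat_lit 10], [nat_lit 2, nat_lit 9, nat_lit 1, nat_lit 7], [nat_lit 0, nat_lit 9, nat_lit 1, nat_lit 5], [nat_lit 8, nat_lit 9, nat_lit 6, nat_lit 3], [nat_lit 8, nat_lit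 2, nat_lit 10, nat_lit 1], [nat_lit 4, nat_lit 5, nat_lit 10, nat_lit 7], [nat_lit 6, nat_lit 2, nat_lit 10, nat_lit 0]]

noncomputable def r2t0 : BT := .leaf (nat_lit 0x41178896419590f49293923240514170884f41ae89adabac402b40ca9f2989c8406740068825894488a30002)

noncomputable def r2tree : BT := r2t0

noncomputable def r2 : ℕ → ℕ := rowOf r2tree (nat_lit 5) (nat_lit 31) (nat_lit 16) (nat_lit 65535)

def L2 : LvP := ⟨nat_lit 31, nat_lit 5, nat_lit 15, nat_lit 9, nat_lit 31, nat_lit 14, nat_lit 22, nat_lit 2⟩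

noncomputable def chk2 : ℕ → Bool := levT (J4Act0.T) S2 r2 L2 (nat_lit 24)

def S3 : List (List ℕ) := [[nat_lit 0, nat_lit 9, nat_lit 1, nat_lit 5], [nat_lit 6, nat_lit 2, nat_lit 10, nat_lit 0], [nat_lit 0, nat_lit 2, nat_lit 0, nat_lit 2, nat_lit 3]]

noncomputable def r3t0 : BT := .leaf (nat_lit 0x5437a82d51561aa3633206588453e8254fd49c4035b46484bc454daa60d450c76c8cd8160c20003)

noncomputable def r3tree : BT := r3t0

noncomputable def r3 : ℕ → ℕ := rowOf r3tree (nat_lit 5) (nat_lit 31) (nat_lit 15) (nat_lit 32767)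

def L3 : LvP := ⟨nat_lit 31, nat_lit 5, nat_lit 3, nat_lit 7, nat_lit 31, nat_lit 12, nat_lit 21, nat_lit 3⟩

noncomputable def chk3 : ℕ → Bool := levT (J4Act0.T) S3 r3 L3 (nat_lit 24)

def S4 : List (List ℕ) := [[nat_lit 0, nat_lit 2, nat_lit 0, nat_lit 2, nat_lit 3], [nat_lit 4, nat_lit 1, nat_lit 0, nat_lit 1, nat_lit 0], [nat_lit 8, nat_lit 6, nat_lit 1, nat_lit 4, nat_lit 4, nat_lit 2, nat_lit 5, nat_lit 7], [nat_lit 4, nat_lit 5, nat_lit 5, nat_lit 9, nat_lit 2, nat_lit 9, nat_lit 1, nat_lit 5, nat_lit 2]]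

noncomputable def r4t0 : BT := .leaf (nat_lit 0x4d2e87d99cac2346766e448828b930425e9ab9086b0cc46d640aa104b4e8200e41993728004)

noncomputable def r4tree : BT := r4t0

noncomputable def r4 : ℕ → ℕ := rowOf r4tree (nat_lit 5) (nat_lit 31) (nat_lit 15) (nat_lit 32767)

def L4 : LvP := ⟨nat_lit 31, nat_lit 5, nat_lit 3, nat_lit 7, nat_lit 31, nat_lit 12, nat_lit 20, nat_lit 4⟩

noncomputable def chk4 : ℕ → Bool := levT (J4Act0.T) S4 r4 L4 (nat_lit 24)

def S5 : List (List ℕ) := [[nat_lit 8, nat_lit 6, nat_lit 0, nat_lit 3, nat_lit 0, nat_lit 3, nat_lit 1, nat_lit 0, nat_lit 8, nat_lit 8], [nat_lit 0, nat_lit 7, nat_lit 5, nat_lit 2, nat_lit 0, nat_lit 5, nat_lit 7, nat_lit 2, nat_lit 2, nat_lit 0, nat_lit 1, nat_lit 10], [nat_lit 10, nat_lit 6, nat_lit 3, nat_lit 7, nat_lit 4, nat_lit 9, nat_lit 7, nat_lit 1, nat_lit 0, nat_lit 3, nat_lit 8, nat_lit 2]]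

noncomputable def r5t0 : BT := .leaf (nat_lit 0x715d6367c54834214d89270451309e3d58e6cb628b58248085918005)

noncomputable def r5tree : BT := r5t0

noncomputable def r5 : ℕ → ℕ := rowOf r5tree (nat_lit 4) (nat_lit 15) (nat_lit 14) (nat_lit 16383)

def L5 : LvP := ⟨nat_lit 31, nat_lit 5, nat_lit 3, nat_lit 7, nat_lit 15, nat_lit 11, nat_lit 16, nat_lit 5⟩

noncomputable def chk5 : ℕ → Bool := levT (J4Act0.T) S5 r5 L5 (nat_lit 24)

def S6 : List (List ℕ) := [[nat_lit 8, nat_lit 9, nat_lit 6, nat_lit 3, nat_lit 0, nat_lit 4, nat_lit 4, nat_lit 0, nat_lit 4, nat_lit 5, nat_lit 10, nat_lit 7, nat_lit 4, nat_lit 1, nat_lit 0, nat_lit 1, nat_lit 0], [nat_lit 0, nat_lit 2, nat_lit 0, nat_lit 2, nat_lit 3, nat_lit 8, nat_lit 9, nat_lit 6, nat_lit 3, nat_lit 0, nat_lit 4, nat_lit 4, nat_lit 0, nat_lit 4, nat_lit 5, nat_lit 10, nat_lit 7]]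

noncomputable def r6t0 : BT := .leaf (nat_lit 0x4d62006)

noncomputable def r6tree : BT := r6t0

noncomputable def r6 : ℕ → ℕ := rowOf r6tree (nat_lit 3) (nat_lit 7) (nat_lit 9) (nat_lit 511)

def L6 : LvP := ⟨nat_lit 31, nat_lit 5, nat_lit 1, nat_lit 6, nat_lit 3, nat_lit 8, nat_lit 3, nat_lit 6⟩

noncomputable def chk6 : ℕ → Bool := levT (J4Act0.T) S6 r6 L6 (nat_lit 24)

theorem b0_0 : allR chk0 5 0 = true := by decide +kernel
theorem b1_0 : allR chk1 5 0 = true := by decide +kernel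
theorem b2_0 : allR chk2 5 0 = true := by decide +kernel
theorem b3_0 : allR chk3 5 0 = true := by decide +kernel
theorem b4_0 : allR chk4 5 0 = true := by decide +kernel
theorem b5_0 : allR chk5 4 0 = true := by decide +kernel
theorem b6_0 : allR chk6 2 0 = true := by decide +kernel

theorem all0 : ∀ t < 1 * 2 ^ 5, chk0 t = true := allR_glue (forall_lt_succ' forall_lt_zero' b0_0)

theorem all1 : ∀ t < 1 * 2 ^ 5, chk1 t = true := allR_glue (forall_lt_succ' forall_lt_zero' b1_0)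

theorem all2 : ∀ t < 1 * 2 ^ 5, chk2 t = true := allR_glue (forall_lt_succ' forall_lt_zero' b2_0)

theorem all3 : ∀ t < 1 * 2 ^ 5, chk3 t = true := allR_glue (forall_lt_succ' forall_lt_zero' b3_0)

theorem all4 : ∀ t < 1 * 2 ^ 5, chk4 t = true := allR_glue (forall_lt_succ' forall_lt_zero' b4_0)

theorem all5 : ∀ t < 1 * 2 ^ 4, chk5 t = true := allR_glue (forall_lt_succ' forall_lt_zero' b5_0)

theorem all6 : ∀ t < 1 * 2 ^ 2, chk6 t = true := allR_glue (forall_lt_succ' forall_lt_zero' b6_0)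

/-- the base -/
def B : List ℕ := [nat_lit 0, nat_lit 1, nat_lit 2, nat_lit 3, nat_lit 4, nat_lit 5, nat_lit 6]

theorem ch {G : Type*} [Group G] [Finite G] {A : RAct G 24} {g : ℕ → G}
    (h : A.Tab g 11 (J4Act0.T)) (hc : Nat.card G ≤ 244823040) :
    A.IsBase B ∧ Nat.card G = 244823040 :=
  RAct.Ch.exact (RAct.ch_cons (h.lev_all (by decide +kernel) all0)
    (RAct.ch_cons (h.lev_tree (by decide +kernel) all1)
    (RAct.ch_cons (h.lev_tree (by decide +kernel) all2)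
    (RAct.ch_cons (h.lev_tree (by decide +kernel) all3)
    (RAct.ch_cons (h.lev_tree (by decide +kernel) all4)
    (RAct.ch_cons (h.lev_tree (by decide +kernel) all5)
    (RAct.ch_cons (h.lev_tree (by decide +kernel) all6)
    (RAct.ch_nil)))))))) (by decide +kernel) hc

end Cfsg.Agent.L0.J4Ch0
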