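import Cfsg.Agent.L0.Dce
import Cfsg.Agent.L0.J4.Act0

/-! Generated: double coset enumeration. -/

set_option autoImplicit false
set_option maxRecDepth 100000

namespace Cfsg.Agent.L0.J4FA

open Dce

noncomputable def F0 : GT Fa := .node (.node (.node (.node (.node (.leaf ⟨nat_lit 1, nat_lit 0, nat_lit 1, nat_lit 0, nat_lit 0, nat_lit 0, [], [], []⟩) (.leaf ⟨nat_lit 0, nat_lit 1, nat_lit 1, nat_lit 0, nat_lit 0x342c4858c84, nat_lit 0x5289491a922, [nat_lit 0, nat_lit 6, nat_lit 50, nat_lit 1], [], []⟩)) (.node (.leaf ⟨nat_lit 0, nat_lit 1, nat_lit 1, nat_lit 0, nat_lit 0x118503420c9, nat_lit 0x83a52248441, [nat_lit 0, nat_lit 18, nat_lit 14], [], []⟩) (.leaf ⟨nat_lit 1, nat_lit 2, nat_lit 1, nat_lit 0x5505625a4e8, nat_lit 0x12096348561, nat_lit 0x324ca1a526, [nat_lit 0, nat_lit 0, nat_lit 1], [], []⟩))) (.node (.node (.leaf ⟨nat_lit 0, nat_lit 1, nat_lit 1, nat_lit 0, nat_lit 0x2c4420963, nat_lit 0x9432946a, [], [nat_lit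 0, nat_lit 26, nat_lit 96], []⟩) (.leaf ⟨nat_lit 0, nat_lit 0, nat_lit 0, nat_lit 0, nat_lit 0x20a0c332465, nat_lit 0x4120e23a423, [], [], []⟩)) (.node (.leaf ⟨nat_lit 2, nat_lit 0, nat_lit 0, nat_lit 0x20a0c332465, nat_lit 0, nat_lit 0, [nat_lit 0, nat_lit 0, nat_lit 19], [nat_lit 0, nat_lit 11, nat_lit 0, nat_lit 1], [nat_lit 0x51a0a13a425, nat_lit 7270]⟩) (.leaf ⟨nat_lit 1, nat_lit 3, nat_lit 3, nat_lit 0xb390e910523, nat_lit 0x621d023852a, nat_lit 0x946a30cc3, [], [], []⟩)))) (.node (.node (.node (.leaf ⟨nat_lit 2, nat_lit 0, nat_lit 0, nat_lit 7270, nat_lit 0, nat_lit 0, [], [nat_lit 0, nat_lit 0, nat_lit 0, nat_lit 1], [nat_lit 7270, nat_lit 7270]⟩) (.leaf ⟨nat_lit 0, nat_lit 0, nat_lit 0, nat_lit 0, nat_lit 0x1320a920927, nat_lit 0x640ca8224e1, [], [], []⟩)) (.node (.leaf ⟨nat_lit 0, nat_lit 1, nat_lit 1, nat_lit 0, nat_lit 0x31904328e4, nat_lit 0x299672a4e7, [nat_lit 0, nat_lit 3], [nat_lit 0, nat_lit 0, nat_lit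 36], []⟩) (.leaf ⟨nat_lit 0, nat_lit 3, nat_lit 3, nat_lit 0, nat_lit 0x342d2b1242b, nat_lit 0x25050352149, [nat_lit 0, nat_lit 0, nat_lit 1], [], []⟩))) (.node (.node (.leaf ⟨nat_lit 0, nat_lit 1, nat_lit 1, nat_lit 0, nat_lit 0x83a52248441, nat_lit 0x118503420c9, [], [nat_lit 0, nat_lit 18, nat_lit 14], []⟩) (.leaf ⟨nat_lit 0, nat_lit 0, nat_lit 0, nat_lit 0, nat_lit 0, nat_lit 0, [nat_lit 0, nat_lit 0, nat_lit 0, nat_lit 1], [], []⟩)) (.node (.leaf ⟨nat_lit 0, nat_lit 1, nat_lit 1, nat_lit 0, nat_lit 0xa48c28310c2, nat_lit 0x3394e90890b, [nat_lit 0, nat_lit 1], [nat_lit 0, nat_lit 0, nat_lit 11], []⟩) (.leaf ⟨nat_lit 0, nat_lit 0, nat_lit 0, nat_lit 0, nat_lit 0, nat_lit 0, [nat_lit 0, nat_lit 0, nat_lit 1], [], []⟩))))) (.node (.node (.node (.node (.leaf ⟨nat_lit 2, nat_lit 0, nat_lit 0, nat_lit 1, nat_lit 0, nat_lit 0, [], [nat_lit 0, nat_lit 0, nat_lit 1], [nat_lit 1]⟩) (.leaf ⟨nat_lit 0, nat_lit 0, nat_lit 0, nat_lit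 0, nat_lit 0, nat_lit 0, [], [nat_lit 0, nat_lit 4, nat_lit 720, nat_lit 8], []⟩)) (.node (.leaf ⟨nat_lit 0, nat_lit 1, nat_lit 1, nat_lit 0, nat_lit 0x221c291986a, nat_lit 0xb11c48098a3, [nat_lit 0, nat_lit 2], [nat_lit 0, nat_lit 0, nat_lit 27], []⟩) (.leaf ⟨nat_lit 0, nat_lit 2, nat_lit 2, nat_lit 0, nat_lit 0x51846758481, nat_lit 0xe73a4a8, [nat_lit 0, nat_lit 0, nat_lit 1], [], []⟩))) (.node (.node (.leaf ⟨nat_lit 0, nat_lit 1, nat_lit 1, nat_lit 0, nat_lit 0x9432106a, nat_lit 0x2c4528963, [nat_lit 0, nat_lit 11, nat_lit 29], [], []⟩) (.leaf ⟨nat_lit 0, nat_lit 0, nat_lit 0, nat_lit 0, nat_lit 0, nat_lit 0, [nat_lit 0, nat_lit 0, nat_lit 0, nat_lit 41], [], []⟩)) (.node (.leaf ⟨nat_lit 0, nat_lit 1, nat_lit 1, nat_lit 0, nat_lit 0x69090234a861, nat_lit 0x225a04128502, [], [nat_lit 0, nat_lit 0, nat_lit 11], []⟩) (.leaf ⟨nat_lit 0, nat_lit 3, nat_lit 3, nat_lit 0, nat_lit 0, nat_lit 0, [nat_lit 1], [], []⟩)))) (.node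 (.node (.node (.leaf ⟨nat_lit 0, nat_lit 1, nat_lit 1, nat_lit 0, nat_lit 0x6a1256612ce2, nat_lit 0x6650cea40d62, [], [nat_lit 0, nat_lit 3, nat_lit 9], []⟩) (.leaf ⟨nat_lit 0, nat_lit 0, nat_lit 0, nat_lit 0, nat_lit 0, nat_lit 0, [nat_lit 0, nat_lit 0, nat_lit 2, nat_lit 19], [], []⟩)) (.node (.leaf ⟨nat_lit 0, nat_lit 0, nat_lit 0, nat_lit 0, nat_lit 0x4120e23a423, nat_lit 0x20a0c332465, [], [], []⟩) (.leaf ⟨nat_lit 1, nat_lit 3, nat_lit 3, nat_lit 0xa3289290a0e1, nat_lit 0x2a82a20525, nat_lit 0x4b48d6331523, [nat_lit 1, nat_lit 0, nat_lit 1], [], []⟩))) (.node (.node (.leaf ⟨nat_lit 0, nat_lit 1, nat_lit 1, nat_lit 0, nat_lit 0x528c2432d01, nat_lit 0x14a8e508884, [nat_lit 0, nat_lit 9, nat_lit 55], [], []⟩) (.leaf ⟨nat_lit 0, nat_lit 2, nat_lit 2, nat_lit 0, nat_lit 0x34ad0a320cb, nat_lit 0x11852119c69, [], [], []⟩)) (.leaf ⟨nat_lit 0, nat_lit 1, nat_lit 1, nat_lit 0, nat_lit 0x7390cb1a0e3, nat_lit 0x23244a394c6, [],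 [nat_lit 0, nat_lit 16, nat_lit 8], []⟩))))

noncomputable def F1 : GT Fa := .node (.node (.node (.node (.node (.leaf ⟨nat_lit 2, nat_lit 0, nat_lit 0, nat_lit 5, nat_lit 0, nat_lit 0, [], [nat_lit 0, nat_lit 1], [nat_lit 4]⟩) (.leaf ⟨nat_lit 0, nat_lit 1, nat_lit 1, nat_lit 0, nat_lit 0, nat_lit 0, [nat_lit 0, nat_lit 26, nat_lit 132, nat_lit 1], [], []⟩)) (.node (.leaf ⟨nat_lit 0, nat_lit 1, nat_lit 1, nat_lit 0, nat_lit 0xa258cca310c2, nat_lit 0x6729d6712864, [nat_lit 0, nat_lit 0, nat_lit 16], [nat_lit 0, nat_lit 1], []⟩) (.leaf ⟨nat_lit 0, nat_lit 2, nat_lit 2, nat_lit 0, nat_lit 0x12a324c6588e3, nat_lit 0x40ce252541, [nat_lit 0, nat_lit 0, nat_lit 1], [], []⟩))) (.node (.node (.leaf ⟨nat_lit 0, nat_lit 1, nat_lit 1, nat_lit 0, nat_lit 0x11290b31961, nat_lit 0x151cea4ac61, [nat_lit 0, nat_lit 2, nat_lit 6], [], []⟩) (.leaf ⟨nat_lit 0, nat_lit 0, nat_lit 0, nat_lit 0, nat_lit 0, nat_lit 0, [nat_lit 0, nat_lit 0, nat_lit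 0, nat_lit 723], [], []⟩)) (.node (.leaf ⟨nat_lit 0, nat_lit 1, nat_lit 1, nat_lit 0, nat_lit 0x8842d0a4ad22, nat_lit 0x685216952525, [], [nat_lit 0, nat_lit 29, nat_lit 7, nat_lit 1], []⟩) (.leaf ⟨nat_lit 0, nat_lit 0, nat_lit 0, nat_lit 0, nat_lit 0x221612a82a, nat_lit 0x585640a925, [], [], []⟩)))) (.node (.node (.node (.leaf ⟨nat_lit 2, nat_lit 0, nat_lit 0, nat_lit 299, nat_lit 0, nat_lit 0, [nat_lit 1], [nat_lit 0, nat_lit 0, nat_lit 0, nat_lit 3], [nat_lit 8, nat_lit 299, nat_lit 8]⟩) (.leaf ⟨nat_lit 0, nat_lit 1, nat_lit 1, nat_lit 0, nat_lit 0x27410ca38541, nat_lit 0x2b099672a4c1, [nat_lit 0, nat_lit 1], [nat_lit 0, nat_lit 0, nat_lit 306, nat_lit 1], []⟩)) (.node (.leaf ⟨nat_lit 0, nat_lit 1, nat_lit 1, nat_lit 0, nat_lit 36, nat_lit 161, [nat_lit 0, nat_lit 1], [nat_lit 0, nat_lit 0, nat_lit 1], []⟩) (.leaf ⟨nat_lit 0, nat_lit 3, nat_lit 3, nat_lit 0, nat_lit 0x32ce4490e9, nat_lit 0x228ceb09946, [], [], []⟩)))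 (.node (.node (.leaf ⟨nat_lit 0, nat_lit 1, nat_lit 1, nat_lit 0, nat_lit 0x4388a948929, nat_lit 0x840d0820cc5, [], [nat_lit 0, nat_lit 27, nat_lit 21], []⟩) (.leaf ⟨nat_lit 1, nat_lit 1, nat_lit 2, nat_lit 263, nat_lit 0, nat_lit 0, [], [], []⟩)) (.node (.leaf ⟨nat_lit 0, nat_lit 1, nat_lit 1, nat_lit 0, nat_lit 5157, nat_lit 4132, [], [nat_lit 0, nat_lit 2, nat_lit 1], []⟩) (.leaf ⟨nat_lit 0, nat_lit 0, nat_lit 0, nat_lit 0, nat_lit 0, nat_lit 0, [nat_lit 0, nat_lit 1], [], []⟩))))) (.node (.node (.node (.node (.leaf ⟨nat_lit 0, nat_lit 0, nat_lit 0, nat_lit 0, nat_lit 1, nat_lit 1, [], [], []⟩) (.leaf ⟨nat_lit 0, nat_lit 0, nat_lit 0, nat_lit 0, nat_lit 0, nat_lit 0, [nat_lit 0, nat_lit 4, nat_lit 720, nat_lit 8], [], []⟩)) (.node (.leaf ⟨nat_lit 0, nat_lit 1, nat_lit 1, nat_lit 0, nat_lit 0x27210e240ca3, nat_lit 0x4412466294c1, [nat_lit 0, nat_lit 7, nat_lit 33], [], []⟩) (.leaf ⟨nat_lit 1, nat_lit 1, nat_lit 3, nat_lit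 2, nat_lit 0, nat_lit 0, [], [], []⟩))) (.node (.node (.leaf ⟨nat_lit 0, nat_lit 1, nat_lit 1, nat_lit 0, nat_lit 0x14a90238562, nat_lit 0x3504c34ad01, [nat_lit 0, nat_lit 2], [nat_lit 0, nat_lit 0, nat_lit 26], []⟩) (.leaf ⟨nat_lit 0, nat_lit 0, nat_lit 0, nat_lit 0, nat_lit 0, nat_lit 0, [], [nat_lit 0, nat_lit 0, nat_lit 0, nat_lit 14], []⟩)) (.node (.leaf ⟨nat_lit 0, nat_lit 1, nat_lit 1, nat_lit 0, nat_lit 0x50a0c239c22, nat_lit 0x3098c33a424, [], [nat_lit 0, nat_lit 10, nat_lit 39], []⟩) (.leaf ⟨nat_lit 0, nat_lit 3, nat_lit 3, nat_lit 0, nat_lit 0xa54630548, nat_lit 0x909ca939c29, [], [], []⟩)))) (.node (.node (.node (.leaf ⟨nat_lit 0, nat_lit 1, nat_lit 1, nat_lit 0, nat_lit 0x240ac6850922, nat_lit 0x681ad22504a1, [nat_lit 0, nat_lit 2, nat_lit 9], [], []⟩) (.leaf ⟨nat_lit 0, nat_lit 0, nat_lit 0, nat_lit 0, nat_lit 0, nat_lit 0, [], [nat_lit 0, nat_lit 0, nat_lit 0, nat_lit 9590], []⟩)) (.node (.leaf ⟨nat_lit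 1, nat_lit 1, nat_lit 1, nat_lit 0x40a0c122444, nat_lit 7270, nat_lit 0x20a0c332465, [nat_lit 0, nat_lit 0, nat_lit 19], [nat_lit 0, nat_lit 11], []⟩) (.leaf ⟨nat_lit 1, nat_lit 2, nat_lit 3, nat_lit 0x2859d623a0c1, nat_lit 0x1128e91150a, nat_lit 0xb089433ad22, [], [], []⟩))) (.node (.node (.leaf ⟨nat_lit 0, nat_lit 1, nat_lit 1, nat_lit 0, nat_lit 0x6a08ca229881, nat_lit 0x253906410562, [], [nat_lit 0, nat_lit 7, nat_lit 1], []⟩) (.leaf ⟨nat_lit 0, nat_lit 2, nat_lit 2, nat_lit 0, nat_lit 0x132d2b4a484, nat_lit 0x142528481, [], [], []⟩)) (.leaf ⟨nat_lit 0, nat_lit 1, nat_lit 1, nat_lit 0, nat_lit 0x24094c3508e1, nat_lit 0x261ac47204a1, [], [nat_lit 0, nat_lit 1, nat_lit 16], []⟩))))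

noncomputable def F2 : GT Fa := .node (.node (.node (.node (.node (.leaf ⟨nat_lit 0, nat_lit 0, nat_lit 0, nat_lit 0, nat_lit 5, nat_lit 4, [], [], []⟩) (.leaf ⟨nat_lit 0, nat_lit 0, nat_lit 0, nat_lit 0, nat_lit 0, nat_lit 0, [], [nat_lit 0, nat_lit 10, nat_lit 284, nat_lit 3], []⟩)) (.node (.leaf ⟨nat_lit 0, nat_lit 1, nat_lit 1, nat_lit 0, nat_lit 0x204a128564, nat_lit 0x2a82409025, [nat_lit 0, nat_lit 2, nat_lit 22], [], []⟩) (.leaf ⟨nat_lit 0, nat_lit 2, nat_lit 2, nat_lit 0, nat_lit 0x128cc621846, nat_lit 0x44986149066, [nat_lit 0, nat_lit 0, nat_lit 1], [], []⟩))) (.node (.node (.leaf ⟨nat_lit 0, nat_lit 1, nat_lit 1, nat_lit 0, nat_lit 0x8630d0542d22, nat_lit 0x685248911ce5, [nat_lit 0, nat_lit 1], [nat_lit 0, nat_lit 0, nat_lit 10], []⟩) (.leaf ⟨nat_lit 0, nat_lit 0, nat_lit 0, nat_lit 0, nat_lit 0, nat_lit 0, [nat_lit 0, nat_lit 0, nat_lit 0, nat_lit 191], [], []⟩)) (.node (.leaf ⟨nat_lit 0, nat_lit 1, nat_lit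 1, nat_lit 0, nat_lit 0, nat_lit 0, [], [nat_lit 0, nat_lit 94, nat_lit 244, nat_lit 1], []⟩) (.leaf ⟨nat_lit 0, nat_lit 3, nat_lit 3, nat_lit 0, nat_lit 0x119524420e1, nat_lit 0x4738d023ac41, [nat_lit 1, nat_lit 0, nat_lit 1], [], []⟩)))) (.node (.node (.node (.leaf ⟨nat_lit 2, nat_lit 0, nat_lit 0, nat_lit 299, nat_lit 0, nat_lit 0, [nat_lit 1], [nat_lit 0, nat_lit 0, nat_lit 0, nat_lit 3], [nat_lit 8, nat_lit 299, nat_lit 8]⟩) (.leaf ⟨nat_lit 0, nat_lit 1, nat_lit 1, nat_lit 0, nat_lit 0, nat_lit 0, [nat_lit 0, nat_lit 1, nat_lit 433, nat_lit 8], [], []⟩)) (.node (.leaf ⟨nat_lit 0, nat_lit 1, nat_lit 1, nat_lit 0, nat_lit 0x67518a33ac61, nat_lit 0x22518443acc2, [nat_lit 0, nat_lit 3], [nat_lit 0, nat_lit 0, nat_lit 4], []⟩) (.leaf ⟨nat_lit 0, nat_lit 3, nat_lit 3, nat_lit 0, nat_lit 0x11accb21d42, nat_lit 0x95252a081, [], [], []⟩))) (.node (.node (.leaf ⟨nat_lit 0, nat_lit 1, nat_lit 1, nat_lit 0, nat_lit 37, nat_lit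 129, [], [nat_lit 0, nat_lit 1, nat_lit 1], []⟩) (.leaf ⟨nat_lit 0, nat_lit 2, nat_lit 2, nat_lit 0, nat_lit 0x225263210a, nat_lit 0x1941314c6, [], [], []⟩)) (.node (.leaf ⟨nat_lit 0, nat_lit 1, nat_lit 1, nat_lit 0, nat_lit 0xb39c8948c23, nat_lit 0x208908298ca, [nat_lit 0, nat_lit 2], [nat_lit 0, nat_lit 0, nat_lit 11], []⟩) (.leaf ⟨nat_lit 0, nat_lit 0, nat_lit 0, nat_lit 0, nat_lit 0, nat_lit 0, [nat_lit 1], [], []⟩))))) (.node (.node (.node (.node (.leaf ⟨nat_lit 0, nat_lit 1, nat_lit 1, nat_lit 0, nat_lit 1, nat_lit 1, [], [nat_lit 0, nat_lit 0, nat_lit 1], []⟩) (.leaf ⟨nat_lit 0, nat_lit 0, nat_lit 0, nat_lit 0, nat_lit 0, nat_lit 0, [nat_lit 0, nat_lit 2], [nat_lit 0, nat_lit 0, nat_lit 1156, nat_lit 13], []⟩)) (.node (.leaf ⟨nat_lit 0, nat_lit 1, nat_lit 1, nat_lit 0, nat_lit 0x7224a9210c1, nat_lit 0x1394a8220a6, [nat_lit 0, nat_lit 3], [nat_lit 0, nat_lit 0, nat_lit 26], []⟩) (.leaf ⟨nat_lit 0, nat_lit 3, nat_lit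 3, nat_lit 0, nat_lit 0x52a48440484, nat_lit 0xac2550541, [nat_lit 0, nat_lit 0, nat_lit 1], [], []⟩))) (.node (.node (.leaf ⟨nat_lit 0, nat_lit 1, nat_lit 1, nat_lit 0, nat_lit 0xa8e752563, nat_lit 0x1290b31961, [], [nat_lit 0, nat_lit 2, nat_lit 7], []⟩) (.leaf ⟨nat_lit 0, nat_lit 0, nat_lit 0, nat_lit 0, nat_lit 0, nat_lit 0, [nat_lit 0, nat_lit 0, nat_lit 0, nat_lit 14], [], []⟩)) (.node (.leaf ⟨nat_lit 0, nat_lit 1, nat_lit 1, nat_lit 0, nat_lit 0x95246b48501, nat_lit 0x14850a12168, [], [nat_lit 0, nat_lit 9, nat_lit 55], []⟩) (.leaf ⟨nat_lit 0, nat_lit 3, nat_lit 3, nat_lit 0, nat_lit 0, nat_lit 0, [nat_lit 0, nat_lit 0, nat_lit 1], [], []⟩)))) (.node (.node (.node (.leaf ⟨nat_lit 0, nat_lit 1, nat_lit 1, nat_lit 0, nat_lit 0x22320c840563, nat_lit 0x4a0a52749c61, [nat_lit 0, nat_lit 3, nat_lit 5], [], []⟩) (.leaf ⟨nat_lit 0, nat_lit 0, nat_lit 0, nat_lit 0, nat_lit 0, nat_lit 0, [nat_lit 0, nat_lit 0, nat_lit 0,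 nat_lit 9590], [], []⟩)) (.node (.leaf ⟨nat_lit 2, nat_lit 0, nat_lit 0, nat_lit 0x4120e23a423, nat_lit 0, nat_lit 0, [nat_lit 0, nat_lit 11], [nat_lit 0, nat_lit 0, nat_lit 19], [nat_lit 7238, nat_lit 0x40a0c122444]⟩) (.leaf ⟨nat_lit 0, nat_lit 3, nat_lit 3, nat_lit 0, nat_lit 0x4a90b22568, nat_lit 0x49520aa4ad03, [nat_lit 0, nat_lit 0, nat_lit 1], [], []⟩))) (.node (.node (.leaf ⟨nat_lit 0, nat_lit 1, nat_lit 1, nat_lit 0, nat_lit 0x815046819083, nat_lit 0x45289220ac25, [nat_lit 0, nat_lit 13, nat_lit 3], [], []⟩) (.leaf ⟨nat_lit 0, nat_lit 2, nat_lit 2, nat_lit 0, nat_lit 0x119d043a523, nat_lit 0x1409082ad05, [], [], []⟩)) (.leaf ⟨nat_lit 0, nat_lit 1, nat_lit 1, nat_lit 0, nat_lit 0x11290b31964, nat_lit 0x551cea4ac61, [nat_lit 0, nat_lit 3, nat_lit 5], [], []⟩))))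

noncomputable def F3 : GT Fa := .node (.node (.node (.node (.node (.leaf ⟨nat_lit 0, nat_lit 1, nat_lit 1, nat_lit 0, nat_lit 5, nat_lit 4, [], [nat_lit 0, nat_lit 1], []⟩) (.leaf ⟨nat_lit 0, nat_lit 0, nat_lit 0, nat_lit 0, nat_lit 0, nat_lit 0, [nat_lit 0, nat_lit 10, nat_lit 284, nat_lit 3], [], []⟩)) (.node (.leaf ⟨nat_lit 0, nat_lit 1, nat_lit 1, nat_lit 0, nat_lit 0x234216709024, nat_lit 0xa1284ca4a441, [], [nat_lit 0, nat_lit 13, nat_lit 3], []⟩) (.leaf ⟨nat_lit 0, nat_lit 2, nat_lit 2, nat_lit 0, nat_lit 0xb1150830c82, nat_lit 0xa4acc322424, [nat_lit 0, nat_lit 0, nat_lit 1], [], []⟩))) (.node (.node (.leaf ⟨nat_lit 0, nat_lit 1, nat_lit 1, nat_lit 0, nat_lit 0x1284841a163, nat_lit 0x25244528481, [], [nat_lit 0, nat_lit 9, nat_lit 7], []⟩) (.leaf ⟨nat_lit 0, nat_lit 0, nat_lit 0, nat_lit 0, nat_lit 0, nat_lit 0, [], [nat_lit 0, nat_lit 0, nat_lit 0, nat_lit 41], []⟩)) (.node (.leaf ⟨nat_lit 0, nat_lit 0, nat_lit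 0, nat_lit 0, nat_lit 0, nat_lit 0, [nat_lit 0, nat_lit 94, nat_lit 244, nat_lit 1], [], []⟩) (.leaf ⟨nat_lit 0, nat_lit 3, nat_lit 3, nat_lit 0, nat_lit 0x2559ca249901, nat_lit 0xd262a045, [], [], []⟩)))) (.node (.node (.node (.leaf ⟨nat_lit 0, nat_lit 1, nat_lit 1, nat_lit 0, nat_lit 36993, nat_lit 38049, [nat_lit 0, nat_lit 2, nat_lit 4], [], []⟩) (.leaf ⟨nat_lit 0, nat_lit 0, nat_lit 0, nat_lit 0, nat_lit 0, nat_lit 0, [nat_lit 0, nat_lit 0, nat_lit 1010, nat_lit 5], [], []⟩)) (.node (.leaf ⟨nat_lit 0, nat_lit 1, nat_lit 1, nat_lit 0, nat_lit 0xb390c43a163, nat_lit 0x2524c5394ca, [], [nat_lit 0, nat_lit 6, nat_lit 11], []⟩) (.leaf ⟨nat_lit 0, nat_lit 3, nat_lit 3, nat_lit 0, nat_lit 0x102b12922, nat_lit 0x88158949, [nat_lit 0, nat_lit 0, nat_lit 1], [], []⟩))) (.node (.node (.leaf ⟨nat_lit 0, nat_lit 1, nat_lit 1, nat_lit 0, nat_lit 0x1510ca41d42, nat_lit 0x35992b39561, [nat_lit 0, nat_lit 3], [nat_lit 0, nat_lit 0,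 nat_lit 4], []⟩) (.leaf ⟨nat_lit 0, nat_lit 2, nat_lit 2, nat_lit 0, nat_lit 0x318c128481, nat_lit 0x39c481ac45, [], [], []⟩)) (.leaf ⟨nat_lit 0, nat_lit 1, nat_lit 1, nat_lit 0, nat_lit 0x2248ce939081, nat_lit 0x252990612061, [nat_lit 0, nat_lit 1, nat_lit 6], [], []⟩)))) (.node (.node (.node (.node (.leaf ⟨nat_lit 2, nat_lit 0, nat_lit 0, nat_lit 7270, nat_lit 0, nat_lit 0, [], [nat_lit 0, nat_lit 0, nat_lit 0, nat_lit 1], [nat_lit 7270, nat_lit 7270]⟩) (.leaf ⟨nat_lit 0, nat_lit 0, nat_lit 0, nat_lit 0, nat_lit 0, nat_lit 0, [nat_lit 0, nat_lit 0, nat_lit 3032, nat_lit 34], [], []⟩)) (.node (.leaf ⟨nat_lit 0, nat_lit 1, nat_lit 1, nat_lit 0, nat_lit 0x51290b3942b, nat_lit 0xa090ca4ac64, [nat_lit 0, nat_lit 0, nat_lit 9], [nat_lit 0, nat_lit 1], []⟩) (.leaf ⟨nat_lit 0, nat_lit 3, nat_lit 3, nat_lit 0, nat_lit 0xb4286b48d22, nat_lit 0x51846288c9, [], [], []⟩))) (.node (.node (.leaf ⟨nat_lit 0, nat_lit 1, nat_lit 1, nat_lit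 0, nat_lit 0x413a90721d63, nat_lit 0x4a314c959823, [nat_lit 0, nat_lit 0, nat_lit 32], [], []⟩) (.leaf ⟨nat_lit 0, nat_lit 0, nat_lit 0, nat_lit 0, nat_lit 0, nat_lit 0, [], [nat_lit 0, nat_lit 0, nat_lit 0, nat_lit 1], []⟩)) (.node (.leaf ⟨nat_lit 0, nat_lit 1, nat_lit 1, nat_lit 0, nat_lit 161, nat_lit 36, [], [nat_lit 0, nat_lit 1, nat_lit 1], []⟩) (.leaf ⟨nat_lit 0, nat_lit 0, nat_lit 0, nat_lit 0, nat_lit 0, nat_lit 0, [nat_lit 0, nat_lit 0, nat_lit 0, nat_lit 1], [], []⟩)))) (.node (.node (.node (.leaf ⟨nat_lit 0, nat_lit 1, nat_lit 1, nat_lit 0, nat_lit 0x1253890149881, nat_lit 0x253a02919888, [], [nat_lit 0, nat_lit 10, nat_lit 36], []⟩) (.leaf ⟨nat_lit 0, nat_lit 0, nat_lit 0, nat_lit 0, nat_lit 0x4120e23a423, nat_lit 0x20a0c332465, [nat_lit 0, nat_lit 0, nat_lit 0, nat_lit 723], [], []⟩)) (.node (.leaf ⟨nat_lit 2, nat_lit 0, nat_lit 0, nat_lit 7238, nat_lit 0, nat_lit 0, [nat_lit 0, nat_lit 11], [nat_lit 0, nat_lit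 0, nat_lit 19], [nat_lit 0x40a0c122444, nat_lit 0x4120e23a423]⟩) (.leaf ⟨nat_lit 0, nat_lit 3, nat_lit 3, nat_lit 0, nat_lit 0x95206a31823, nat_lit 0x495206a31822, [nat_lit 0, nat_lit 0, nat_lit 1], [], []⟩))) (.node (.node (.leaf ⟨nat_lit 0, nat_lit 1, nat_lit 1, nat_lit 0, nat_lit 0x24394c628ce1, nat_lit 0x26110e7218a1, [nat_lit 0, nat_lit 3, nat_lit 6], [], []⟩) (.leaf ⟨nat_lit 0, nat_lit 2, nat_lit 2, nat_lit 0, nat_lit 0x33908741923, nat_lit 0x59ce728561, [], [], []⟩)) (.leaf ⟨nat_lit 0, nat_lit 0, nat_lit 0, nat_lit 0, nat_lit 0x619104318c1, nat_lit 0x139ce549447, [], [], []⟩))))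

noncomputable def F : GT Fa := (.node (.node F0 F2) (.node F1 F3))

noncomputable def W0 : GT (List ℕ) := .node (.node (.leaf ([])) (.leaf ([nat_lit 11, nat_lit 6, nat_lit 7, nat_lit 11]))) (.node (.leaf ([nat_lit 11])) (.leaf ([nat_lit 11, nat_lit 1, nat_lit 11])))

noncomputable def W : GT (List ℕ) := W0

/-- the relators with the new generator -/
def R : List (List ℕ × List ℕ × List ℕ) := [([nat_lit 11, nat_lit 11], [nat_lit 0, nat_lit 0, nat_lit 0, nat_lit 1], []),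
  ([nat_lit 12, nat_lit 4, nat_lit 11, nat_lit 3], [nat_lit 0, nat_lit 1], []),
  ([nat_lit 12, nat_lit 0, nat_lit 11, nat_lit 0], [nat_lit 0, nat_lit 0, nat_lit 1], []),
  ([nat_lit 1, nat_lit 6, nat_lit 11, nat_lit 5, nat_lit 1, nat_lit 6, nat_lit 11, nat_lit 5, nat_lit 1, nat_lit 6, nat_lit 11, nat_lit 5], [nat_lit 0, nat_lit 0, nat_lit 0, nat_lit 1], []),
  ([nat_lit 9, nat_lit 11, nat_lit 8, nat_lit 11, nat_lit 7, nat_lit 9, nat_lit 11, nat_lit 8, nat_lit 11, nat_lit 7], [nat_lit 1], [])]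

/-- the data -/
noncomputable def P : Par := ⟨J4Act0.T, nat_lit 11, fun y => Nat.land (Nat.shiftRight (nat_lit 0xb62547414c320440) (Nat.mul (nat_lit 5) y)) (nat_lit 31), [nat_lit 0, nat_lit 1, nat_lit 2, nat_lit 3, nat_lit 4, nat_lit 5, nat_lit 6], nat_lit 0, nat_lit 0, [], [nat_lit 0, nat_lit 0, nat_lit 0, nat_lit 1], F.get, W.get, R⟩

def D0 : List De := [⟨nat_lit 2, nat_lit 0, nat_lit 0, nat_lit 0, false, nat_lit 0⟩,
  ⟨nat_lit 3, nat_lit 0, nat_lit 0, nat_lit 1, false, nat_lit 0⟩,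
  ⟨nat_lit 1, nat_lit 0, nat_lit 0, nat_lit 0, false, nat_lit 0⟩,
  ⟨nat_lit 0, nat_lit 4, nat_lit 0x2000000000020000000000013000000000004, nat_lit 0, false, nat_lit 0⟩,
  ⟨nat_lit 3, nat_lit 0, nat_lit 0, nat_lit 2, false, nat_lit 0⟩,
  ⟨nat_lit 1, nat_lit 0, nat_lit 0, nat_lit 0, false, nat_lit 0⟩,
  ⟨nat_lit 0, nat_lit 4, nat_lit 0x2000000000050000000000043000000000004, nat_lit 0, false, nat_lit 0⟩,
  ⟨nat_lit 3, nat_lit 0, nat_lit 0, nat_lit 3, true, nat_lit 5⟩,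
  ⟨nat_lit 3, nat_lit 0, nat_lit 0, nat_lit 3, true, nat_lit 9⟩,
  ⟨nat_lit 3, nat_lit 0, nat_lit 0, nat_lit 4, true, nat_lit 3⟩,
  ⟨nat_lit 3, nat_lit 0, nat_lit 0, nat_lit 4, true, nat_lit 8⟩,
  ⟨nat_lit 0, nat_lit 10, nat_lit 0x68000000000060000000000068000000000038000000000068000000000038000000000030000000000068000000000038000000000068, nat_lit 0, false, nat_lit 0⟩,
  ⟨nat_lit 0, nat_lit 13, nat_lit 0x300000000000680000000000380000000000b80000000000680000000000380000000000680000000000380000000000300000000000b80000000000380000000000380000000000b8, nat_lit 0, false, nat_lit 0⟩,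
  ⟨nat_lit 0, nat_lit 14, nat_lit 0x380000000000380000000000380000000000b80000000000c80000000000b80000000000300000000000680000000000380000000000680000000000b80000000000c8000000000030000000000068, nat_lit 0, false, nat_lit 0⟩,
  ⟨nat_lit 0, nat_lit 13, nat_lit 0xd00000000000d00000000000300000000000c00000000000b80000000000c00000000000380000000000c80000000000380000000000c80000000000d8000000000038000000000038, nat_lit 0, false, nat_lit 0⟩,
  ⟨nat_lit 0, nat_lit 18, nat_lit 0xe00000000000c00000000000e00000000000380000000000c80000000000e80000000000c00000000000b80000000000680000000000380000000000c00000000000680000000000b80000000000e00000000000d80000000000e80000000000680000000000c0, nat_lit 0, false, nat_lit 0⟩,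
  ⟨nat_lit 0, nat_lit 21, nat_lit 0xf00000000000f00000000000f00000000000b80000000000c00000000000d80000000000300000000000380000000000e80000000000c80000000000d80000000000300000000000680000000000380000000000f80000000000e00000000000c80000000000d80000000000680000000000380000000000b8, nat_lit 0, false, nat_lit 0⟩,
  ⟨nat_lit 0, nat_lit 12, nat_lit 0x38000000000068000000000038000000000068000000000038000000000068000000000030000000000068000000000030000000000068000000000038000000000068, nat_lit 0, false, nat_lit 0⟩,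
  ⟨nat_lit 0, nat_lit 11, nat_lit 0x38000000000118000000000068000000000030000000000038000000000068000000000038000000000038000000000038000000000118000000000038, nat_lit 0, false, nat_lit 0⟩,
  ⟨nat_lit 0, nat_lit 15, nat_lit 0x128000000000118000000000128000000000038000000000118000000000128000000000118000000000120000000000068000000000038000000000068000000000118000000000038000000000118000000000068, nat_lit 0, false, nat_lit 0⟩,
  ⟨nat_lit 0, nat_lit 21, nat_lit 0x138000000000138000000000128000000000110000000000128000000000038000000000068000000000038000000000118000000000138000000000118000000000038000000000128000000000068000000000030000000000130000000000130000000000118000000000138000000000068000000000118, nat_lit 0, false, nat_lit 0⟩,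
  ⟨nat_lit 0, nat_lit 19, nat_lit 0x138000000000138000000000118000000000138000000000128000000000068000000000118000000000038000000000148000000000118000000000138000000000068000000000038000000000068000000000130000000000130000000000118000000000038000000000038, nat_lit 0, false, nat_lit 0⟩,
  ⟨nat_lit 0, nat_lit 2, nat_lit 0x118000000000060, nat_lit 0, false, nat_lit 0⟩,
  ⟨nat_lit 0, nat_lit 2, nat_lit 0x158000000000110, nat_lit 0, false, nat_lit 0⟩,
  ⟨nat_lit 0, nat_lit 2, nat_lit 0x130000000000130, nat_lit 0, false, nat_lit 0⟩,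
  ⟨nat_lit 0, nat_lit 2, nat_lit 0x130000000000180, nat_lit 0, false, nat_lit 0⟩,
  ⟨nat_lit 0, nat_lit 2, nat_lit 0x60000000000030, nat_lit 0, false, nat_lit 0⟩,
  ⟨nat_lit 0, nat_lit 2, nat_lit 0x110000000000120, nat_lit 0, false, nat_lit 0⟩,
  ⟨nat_lit 0, nat_lit 2, nat_lit 0x140000000000158, nat_lit 0, false, nat_lit 0⟩,
  ⟨nat_lit 0, nat_lit 2, nat_lit 0x130000000000110, nat_lit 0, false, nat_lit 0⟩,
  ⟨nat_lit 0, nat_lit 2, nat_lit 0x140000000000150, nat_lit 0, false, nat_lit 0⟩,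
  ⟨nat_lit 0, nat_lit 2, nat_lit 0x110000000000038, nat_lit 0, false, nat_lit 0⟩,
  ⟨nat_lit 0, nat_lit 2, nat_lit 0x138000000000138, nat_lit 0, false, nat_lit 0⟩,
  ⟨nat_lit 0, nat_lit 2, nat_lit 0x158000000000120, nat_lit 0, false, nat_lit 0⟩,
  ⟨nat_lit 0, nat_lit 2, nat_lit 0x140000000000130, nat_lit 0, false, nat_lit 0⟩,
  ⟨nat_lit 0, nat_lit 2, nat_lit 0x148000000000158, nat_lit 0, false, nat_lit 0⟩,
  ⟨nat_lit 0, nat_lit 2, nat_lit 0x150000000000060, nat_lit 0, false, nat_lit 0⟩,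
  ⟨nat_lit 0, nat_lit 2, nat_lit 0x158000000000138, nat_lit 0, false, nat_lit 0⟩,
  ⟨nat_lit 0, nat_lit 2, nat_lit 0x150000000000038, nat_lit 0, false, nat_lit 0⟩,
  ⟨nat_lit 0, nat_lit 2, nat_lit 0x128000000000060, nat_lit 0, false, nat_lit 0⟩,
  ⟨nat_lit 0, nat_lit 2, nat_lit 0x150000000000120, nat_lit 0, false, nat_lit 0⟩,
  ⟨nat_lit 0, nat_lit 2, nat_lit 0x60000000000038, nat_lit 0, false, nat_lit 0⟩,
  ⟨nat_lit 0, nat_lit 2, nat_lit 0x120000000000110, nat_lit 0, false, nat_lit 0⟩,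
  ⟨nat_lit 0, nat_lit 2, nat_lit 0x1200000000001d0, nat_lit 0, false, nat_lit 0⟩,
  ⟨nat_lit 1, nat_lit 0, nat_lit 0, nat_lit 0, false, nat_lit 0⟩,
  ⟨nat_lit 0, nat_lit 9, nat_lit 0x20000000002c000000000000a0000000000390000000002b1000000000251000000000159000000000149000000000073, nat_lit 0, false, nat_lit 0⟩,
  ⟨nat_lit 4, nat_lit 0, nat_lit 0, nat_lit 45, false, nat_lit 10⟩,
  ⟨nat_lit 4, nat_lit 0, nat_lit 0, nat_lit 45, false, nat_lit 20⟩,
  ⟨nat_lit 4, nat_lit 0, nat_lit 0, nat_lit 45, true, nat_lit 3⟩,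
  ⟨nat_lit 0, nat_lit 8, nat_lit 0x2d20000000000310000000002810000000002510000000001490000000000b80000000000c00000000002dc, nat_lit 0, false, nat_lit 0⟩,
  ⟨nat_lit 0, nat_lit 8, nat_lit 0x1000000000000f00000000001000000000000e00000000000d80000000000e8000000000030000000000310, nat_lit 0, false, nat_lit 0⟩,
  ⟨nat_lit 0, nat_lit 1, nat_lit 0x100032d, nat_lit 0, false, nat_lit 0⟩,
  ⟨nat_lit 0, nat_lit 2, nat_lit 0x1200000000001a0, nat_lit 0, false, nat_lit 0⟩,
  ⟨nat_lit 0, nat_lit 2, nat_lit 0x148000000000120, nat_lit 0, false, nat_lit 0⟩,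
  ⟨nat_lit 0, nat_lit 2, nat_lit 0x148000000000150, nat_lit 0, false, nat_lit 0⟩,
  ⟨nat_lit 0, nat_lit 2, nat_lit 0x30000000000060, nat_lit 0, false, nat_lit 0⟩,
  ⟨nat_lit 0, nat_lit 2, nat_lit 0x120000000000060, nat_lit 0, false, nat_lit 0⟩,
  ⟨nat_lit 0, nat_lit 2, nat_lit 0x300000000001a0, nat_lit 0, false, nat_lit 0⟩,
  ⟨nat_lit 0, nat_lit 2, nat_lit 0x120000000000290, nat_lit 0, false, nat_lit 0⟩,
  ⟨nat_lit 0, nat_lit 2, nat_lit 0x110000000000030, nat_lit 0, false, nat_lit 0⟩,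
  ⟨nat_lit 0, nat_lit 2, nat_lit 0x1300000000001d0, nat_lit 0, false, nat_lit 0⟩,
  ⟨nat_lit 0, nat_lit 2, nat_lit 0x118000000000120, nat_lit 0, false, nat_lit 0⟩,
  ⟨nat_lit 0, nat_lit 2, nat_lit 0x110000000000290, nat_lit 0, false, nat_lit 0⟩,
  ⟨nat_lit 1, nat_lit 0, nat_lit 0, nat_lit 0, false, nat_lit 0⟩,
  ⟨nat_lit 0, nat_lit 17, nat_lit 0x20000000003f000000000000a0000000002710000000002a10000000001810000000001590000000001410000000002e30000000003910000000001d10000000002210000000002310000000001410000000000c00000000000e00000000002d4, nat_lit 0, false, nat_lit 0⟩,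
  ⟨nat_lit 0, nat_lit 5, nat_lit 0x1080000000000e80000000000d8000000000030000000000400, nat_lit 0, false, nat_lit 0⟩,
  ⟨nat_lit 0, nat_lit 2, nat_lit 0x400041d000001000335, nat_lit 0, false, nat_lit 0⟩,
  ⟨nat_lit 0, nat_lit 1, nat_lit 0x100042d, nat_lit 0, false, nat_lit 0⟩,
  ⟨nat_lit 0, nat_lit 2, nat_lit 0x300043d000001000415, nat_lit 0, false, nat_lit 0⟩,
  ⟨nat_lit 0, nat_lit 1, nat_lit 0x100044d, nat_lit 0, false, nat_lit 0⟩,
  ⟨nat_lit 0, nat_lit 2, nat_lit 0x200045d000001000435, nat_lit 0, false, nat_lit 0⟩,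
  ⟨nat_lit 0, nat_lit 2, nat_lit 0x200046d000001000455, nat_lit 0, false, nat_lit 0⟩,
  ⟨nat_lit 1, nat_lit 0, nat_lit 0, nat_lit 0, false, nat_lit 0⟩,
  ⟨nat_lit 0, nat_lit 17, nat_lit 0x300047500000800046500000000000200000000048000000000000a0000000003a10000000002b10000000001910000000003610000000001490000000002f30000000003b10000000002810000000002510000000000c80000000000600000000002d4, nat_lit 0, false, nat_lit 0⟩,
  ⟨nat_lit 0, nat_lit 10, nat_lit 0x600047500000f0004650000000001000000000000e00000000000d80000000000e80000000000680000000000380000000000c0000000000490, nat_lit 0, false, nat_lit 0⟩,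
  ⟨nat_lit 0, nat_lit 3, nat_lit 0x10004750000020004ad000001000465, nat_lit 0, false, nat_lit 0⟩,
  ⟨nat_lit 0, nat_lit 2, nat_lit 0x30004bd000001000475, nat_lit 0, false, nat_lit 0⟩,
  ⟨nat_lit 0, nat_lit 2, nat_lit 0x1f90004cd0000010004b5, nat_lit 0, false, nat_lit 0⟩,
  ⟨nat_lit 0, nat_lit 1, nat_lit 0x10004dd, nat_lit 0, false, nat_lit 0⟩,
  ⟨nat_lit 0, nat_lit 20, nat_lit 0x150004e50029560004cd0000310004a500000000000a0000000003410000000003c10000000001590000000001490000000002d200000000037100000000012100000000018100000000023100000000008300000000026100000000028100000000020100000000023100000000014100000000000c, nat_lit 0, false, nat_lit 0⟩,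
  ⟨nat_lit 1, nat_lit 0, nat_lit 0, nat_lit 0, false, nat_lit 0⟩,
  ⟨nat_lit 0, nat_lit 2, nat_lit 0x5000000000004f0, nat_lit 0, false, nat_lit 0⟩,
  ⟨nat_lit 0, nat_lit 2, nat_lit 0xd00051d0000010004e5, nat_lit 0, false, nat_lit 0⟩,
  ⟨nat_lit 0, nat_lit 2, nat_lit 0x400052d000001000515, nat_lit 0, false, nat_lit 0⟩,
  ⟨nat_lit 0, nat_lit 1, nat_lit 0x100053d, nat_lit 0, false, nat_lit 0⟩,
  ⟨nat_lit 0, nat_lit 2, nat_lit 0x500054d000001000525, nat_lit 0, false, nat_lit 0⟩,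
  ⟨nat_lit 0, nat_lit 1, nat_lit 0x100055d, nat_lit 0, false, nat_lit 0⟩,
  ⟨nat_lit 0, nat_lit 2, nat_lit 0x300056d000001000545, nat_lit 0, false, nat_lit 0⟩,
  ⟨nat_lit 0, nat_lit 1, nat_lit 0x100057d, nat_lit 0, false, nat_lit 0⟩,
  ⟨nat_lit 2, nat_lit 0, nat_lit 0, nat_lit 0, false, nat_lit 0⟩,
  ⟨nat_lit 0, nat_lit 20, nat_lit 0x605f00058d0005150004c50000060004ad0000000005920000000000610000000001b10000000002010000000001c10000000001490000000000300000000000c00000000001080000000000f00000000001000000000000b80000000001080000000000c8000000000100000000000068000000000594, nat_lit 0, false, nat_lit 0⟩,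
  ⟨nat_lit 0, nat_lit 19, nat_lit 0x31cbc000585002a040004cd0000320004a50000000005920000000000610000000003510000000002210000000001c10000000001490000000000c00000000000d80000000001000000000000f80000000001000000000000d80000000000f8000000000030000000000068000000000594, nat_lit 0, false, nat_lit 0⟩,
  ⟨nat_lit 0, nat_lit 2, nat_lit 0x5a80000000005b0, nat_lit 0, false, nat_lit 0⟩,
  ⟨nat_lit 0, nat_lit 20, nat_lit 0x18cf50005850014ef0004cd0000190004a50000000005920000000000390000000003c10000000002010000000001490000000000e00000000000c80000000001000000000000f00000000000b80000000000e00000000000d80000000000e00000000000380000000000f8000000000068000000000594, nat_lit 0, false, nat_lit 0⟩,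
  ⟨nat_lit 0, nat_lit 9, nat_lit 0x5a80000000005c00000000005a00000000005d80000000005a80000000005d00000000005c00000000005a80000000005c8, nat_lit 0, false, nat_lit 0⟩,
  ⟨nat_lit 0, nat_lit 12, nat_lit 0x5c80000000005e80000000005a00000000005d00000000005a00000000005b00000000005e00000000005c80000000005e80000000005d00000000005c00000000005a0, nat_lit 0, false, nat_lit 0⟩,
  ⟨nat_lit 0, nat_lit 14, nat_lit 0xfd79000585000d5e0004cd0000100004a50000000002d20000000000610000000001210000000003610000000000b800000000059a0000000003710000000003d10000000002510000000001490000000002f3, nat_lit 0, false, nat_lit 0⟩,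
  ⟨nat_lit 0, nat_lit 11, nat_lit 0x4d7b0005850004160004cd0000050004a50000000005920000000000310000000003d10000000001390000000001510000000001490000000000c000000000060c, nat_lit 0, false, nat_lit 0⟩,
  ⟨nat_lit 0, nat_lit 4, nat_lit 0x5a80000000005c00000000005a0000000000610, nat_lit 0, false, nat_lit 0⟩,
  ⟨nat_lit 0, nat_lit 11, nat_lit 0x5a80000000005e00000000005c80000000005a80000000005c00000000006100000000005e80000000005f00000000005c80000000005e80000000005d8, nat_lit 0, false, nat_lit 0⟩,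
  ⟨nat_lit 0, nat_lit 16, nat_lit 0x2600058d0000020004c50000000005d80000000005a80000000005e80000000006280000000006380000000005d80000000005c80000000005a80000000005f00000000005c00000000006380000000005a80000000005e00000000005a0, nat_lit 0, false, nat_lit 0⟩,
  ⟨nat_lit 2, nat_lit 0, nat_lit 0, nat_lit 0, false, nat_lit 0⟩,
  ⟨nat_lit 0, nat_lit 21, nat_lit 0x1ecf50005850019ff0004cd00001f0004a50000000006520000000002410000000001710000000001390000000001490000000000300000000000e80000000000d00000000000680000000000f80000000001000000000000e80000000000f00000000000c80000000000d8000000000030000000000068000000000654, nat_lit 0, false, nat_lit 0⟩,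
  ⟨nat_lit 0, nat_lit 18, nat_lit 0x3f6930005850035810004cd0000400004a50000000006520000000000390000000002810000000001e10000000001490000000000e00000000000d00000000001000000000001000000000000f80000000001000000000000b80000000000e80000000000d8000000000654, nat_lit 0, false, nat_lit 0⟩,
  ⟨nat_lit 0, nat_lit 17, nat_lit 0x1eb070005850019e50004cd00001f0004a50000000006520000000001a10000000003510000000002010000000000680000000000c00000000001000000000000b80000000000e00000000000c80000000000f00000000000680000000000c0000000000654, nat_lit 0, false, nat_lit 0⟩,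
  ⟨nat_lit 0, nat_lit 3, nat_lit 0x678000000000668000000000680, nat_lit 0, false, nat_lit 0⟩,
  ⟨nat_lit 0, nat_lit 11, nat_lit 0x1300058d0000010004c5000000000678000000000698000000000688000000000678000000000668000000000660000000000698000000000668000000000678, nat_lit 0, false, nat_lit 0⟩,
  ⟨nat_lit 0, nat_lit 19, nat_lit 0x1debd00058500193f0004cd00001e0004a50000000006520000000003c10000000001390000000001590000000000e00000000000c00000000001000000000001080000000000f00000000000f00000000000d80000000000e00000000000680000000000380000000000c0000000000654, nat_lit 0, false, nat_lit 0⟩,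
  ⟨nat_lit 0, nat_lit 24, nat_lit 0x111dd000585000e710004cd0000110004a50000000006520000000003e10000000003510000000001810000000001490000000000300000000000d00000000000e00000000002d20000000002910000000001b10000000001810000000001c10000000001410000000000e80000000000c800000000065a0000000001a10000000002a10000000002010000000000a3, nat_lit 0, false, nat_lit 0⟩,
  ⟨nat_lit 0, nat_lit 18, nat_lit 0x370ab000585002e710004cd0000370004a50000000006520000000001f10000000001d10000000001310000000001490000000000680000000000380000000000f000000000059a0000000000310000000001d10000000001910000000001e1000000000141000000000303, nat_lit 0, false, nat_lit 0⟩,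
  ⟨nat_lit 0, nat_lit 16, nat_lit 0x6e970005850005d50004cd0000070004a50000000006d20000000000310000000003510000000002210000000001e10000000001490000000005d00000000006480000000005f80000000006480000000006200000000005a80000000006d4, nat_lit 0, false, nat_lit 0⟩,
  ⟨nat_lit 0, nat_lit 7, nat_lit 0x1300058d0000010004c50000000006980000000006b80000000006780000000006680000000006e0, nat_lit 0, false, nat_lit 0⟩,
  ⟨nat_lit 0, nat_lit 18, nat_lit 0x839100058d0006f00004c50000080004ad0000000006d20000000000390000000002a10000000001810000000001510000000001490000000005c00000000005e00000000006da0000000002610000000003510000000002010000000001590000000001410000000002e3, nat_lit 0, false, nat_lit 0⟩,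
  ⟨nat_lit 1, nat_lit 0, nat_lit 0, nat_lit 0, false, nat_lit 0⟩,
  ⟨nat_lit 0, nat_lit 29, nat_lit 0x41ccd00058d0037850004c50000420004ad0000000006520000000000390000000003d10000000002210000000001e10000000001410000000000680000000000380000000000c000000000003800000000000200000000071000000000000a0000000001a10000000001210000000001810000000001e10000000000930000000002410000000003d10000000002510000000001c10000000001080000000000b0000000000038000000000654, nat_lit 0, false, nat_lit 0⟩,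
  ⟨nat_lit 0, nat_lit 11, nat_lit 0x1db00058d0000190004c50000000006c20000000003e10000000002110000000002010000000003610000000001490000000007280000000006f8000000000704, nat_lit 0, false, nat_lit 0⟩,
  ⟨nat_lit 0, nat_lit 4, nat_lit 0x6a8000000000720000000000668000000000730, nat_lit 0, false, nat_lit 0⟩,
  ⟨nat_lit 0, nat_lit 33, nat_lit 0x3717f000585002e7c0004cd0000370004a500000200074d0000000006c20000000001610000000002110000000002210000000003610000000001490000000006680000000006520000000002710000000001110000000002210000000001590000000001490000000000d00000000000300000000002d20000000003810000000003c10000000002210000000002310000000000a30000000001610000000003d10000000001390000000001510000000000c80000000000300000000000d0000000000654, nat_lit 0, false, nat_lit 0⟩,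
  ⟨nat_lit 0, nat_lit 7, nat_lit 0x2600058d0000020004c50000000006b80000000006f8000000000668000000000678000000000750, nat_lit 0, false, nat_lit 0⟩,
  ⟨nat_lit 0, nat_lit 1, nat_lit 0x1000585, nat_lit 0, false, nat_lit 0⟩,
  ⟨nat_lit 0, nat_lit 1, nat_lit 0x1000765, nat_lit 0, false, nat_lit 0⟩,
  ⟨nat_lit 0, nat_lit 3, nat_lit 0x800077d0001b100078d0000010004a5, nat_lit 0, false, nat_lit 0⟩,
  ⟨nat_lit 0, nat_lit 1, nat_lit 0x1000745, nat_lit 0, false, nat_lit 0⟩]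

theorem c0 : P.chkL D0 0 = true := by decide +kernel


theorem val {H : Type} [Group H] {N : ℕ} {Γ : Type} [Group Γ] {A : RAct H N} {g : ℕ → H} {φ : H →* Γ} {z : Γ}
    {c : ℕ → Subgroup.center Γ} (h : CtxH P A g) (hG : CtxG P g φ z c) :
    ∀ x < 123, Val P g φ z c (P.F x) := by
  have h0 : ∀ x < 0, Val P g φ z c (P.F x) := forall_lt_zero'
  have h1 : ∀ x < 123, Val P g φ z c (P.F x) := chkL_spec h hG h0 c0
  exact h1

theorem rel {H : Type} [Group H] {N : ℕ} {Γ : Type} [Group Γ] {A : RAct H N} {g : ℕ → H} {φ : H →* Γ} {z : Γ}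
    {c : ℕ → Subgroup.center Γ} (h : CtxH P A g) (hG : CtxG P g φ z c) : ∀ i < 4, c i = 1 :=
  rel_unit (val h hG) (l := [nat_lit 122, nat_lit 121, nat_lit 120, nat_lit 119]) (by decide +kernel)

end Cfsg.Agent.L0.J4FA
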