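import Cfsg.Agent.L0.Dce
import Cfsg.Agent.L0.J4.Act

/-! Generated: double coset enumeration. -/

set_option autoImplicit false
set_option maxRecDepth 100000

namespace Cfsg.Agent.L0.J4FB

open Dce

noncomputable def F0 : GT Fa := .node (.node (.node (.node (.node (.leaf ⟨nat_lit 1, nat_lit 0, nat_lit 1, nat_lit 0, nat_lit 0, nat_lit 0, [], [], []⟩) (.leaf ⟨nat_lit 0, nat_lit 1, nat_lit 1, nat_lit 0, nat_lit 0x139c6811d62, nat_lit 0x351869118c1, [], [], []⟩)) (.leaf ⟨nat_lit 0, nat_lit 1, nat_lit 1, nat_lit 0, nat_lit 0x184e532c2953082, nat_lit 0x134644892d0a0e8, [], [], []⟩)) (.node (.node (.leaf ⟨nat_lit 0, nat_lit 1, nat_lit 1, nat_lit 0, nat_lit 0x1309a35844422464, nat_lit 0xa82a69d0d49ce5, [], [], []⟩) (.leaf ⟨nat_lit 2, nat_lit 0, nat_lit 0, nat_lit 0x1324681b08410501, nat_lit 0, nat_lit 0, [], [], [nat_lit 2471, nat_lit 0x14b5020992c508e1, nat_lit 6531]⟩)) (.leaf ⟨nat_lit 0, nat_lit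 1, nat_lit 1, nat_lit 0, nat_lit 0x394244910433162, nat_lit 0x4824152d3152b, [], [], []⟩))) (.node (.node (.node (.leaf ⟨nat_lit 0, nat_lit 1, nat_lit 1, nat_lit 0, nat_lit 0x688a72254c288e9, nat_lit 0x9ca169d22610c1, [], [], []⟩) (.leaf ⟨nat_lit 0, nat_lit 1, nat_lit 1, nat_lit 0, nat_lit 0x23096649901, nat_lit 0x149d0750ce3, [], [], []⟩)) (.leaf ⟨nat_lit 0, nat_lit 1, nat_lit 1, nat_lit 0, nat_lit 0x1408e432c24, nat_lit 0x50a8e530d21, [], [], []⟩)) (.node (.node (.leaf ⟨nat_lit 0, nat_lit 1, nat_lit 1, nat_lit 0, nat_lit 0x11902a4912433082, nat_lit 0x9cad4850b0a467, [], [], []⟩) (.leaf ⟨nat_lit 1, nat_lit 4, nat_lit 4, nat_lit 0xd24604a960481, nat_lit 0x2194d499476206a, nat_lit 0x9a9508e529d82, [], [], []⟩)) (.leaf ⟨nat_lit 0, nat_lit 1, nat_lit 1, nat_lit 0, nat_lit 0x341c4659d861b024, nat_lit 0x3535023a8e260d42, [], [], []⟩)))) (.node (.node (.node (.node (.leaf ⟨nat_lit 0, nat_lit 1,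 nat_lit 1, nat_lit 0, nat_lit 0xa24994443082, nat_lit 0x90e20a90d58506, [], [], []⟩) (.leaf ⟨nat_lit 0, nat_lit 1, nat_lit 1, nat_lit 0, nat_lit 0x26508a81a084, nat_lit 0xa5489241ace1, [], [], []⟩)) (.leaf ⟨nat_lit 0, nat_lit 1, nat_lit 1, nat_lit 0, nat_lit 0x40a8c3588e4, nat_lit 0x530d423ac25, [], [], []⟩)) (.node (.node (.leaf ⟨nat_lit 0, nat_lit 1, nat_lit 1, nat_lit 0, nat_lit 0x1ac4530ce2, nat_lit 0x1984720d42, [], [], []⟩) (.leaf ⟨nat_lit 1, nat_lit 3, nat_lit 2, nat_lit 0x1ad0a1204c19187, nat_lit 0x3598ad3b0e361881, nat_lit 0x54a4641b56c21d88, [], [], []⟩)) (.leaf ⟨nat_lit 0, nat_lit 1, nat_lit 1, nat_lit 0, nat_lit 0x324cb42849, nat_lit 0x40d6951d07, [], [], []⟩))) (.node (.node (.node (.leaf ⟨nat_lit 0, nat_lit 1, nat_lit 1, nat_lit 0, nat_lit 0x672848432104, nat_lit 0xa949ca5090c2, [], [], []⟩) (.leaf ⟨nat_lit 0, nat_lit 1, nat_lit 1, nat_lit 0, nat_lit 0x485462a0e233162, nat_lit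 0x1395a7285074a864, [], [], []⟩)) (.leaf ⟨nat_lit 0, nat_lit 1, nat_lit 1, nat_lit 0, nat_lit 0x119d695a4c2, nat_lit 0x33a14851841, [], [], []⟩)) (.node (.node (.leaf ⟨nat_lit 0, nat_lit 1, nat_lit 1, nat_lit 0, nat_lit 0x1d02324c9, nat_lit 0x20e838d26, [], [], []⟩) (.leaf ⟨nat_lit 1, nat_lit 5, nat_lit 5, nat_lit 0x30a0c6689874ac28, nat_lit 0x311a93044630483, nat_lit 0x1990b4208d208ea, [], [], []⟩)) (.leaf ⟨nat_lit 0, nat_lit 1, nat_lit 1, nat_lit 0, nat_lit 0x32cc240503, nat_lit 0x1242919d47, [], [], []⟩))))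

noncomputable def F1 : GT Fa := .node (.node (.node (.node (.node (.leaf ⟨nat_lit 2, nat_lit 0, nat_lit 0, nat_lit 5, nat_lit 0, nat_lit 0, [], [], [nat_lit 4]⟩) (.leaf ⟨nat_lit 0, nat_lit 1, nat_lit 1, nat_lit 0, nat_lit 0x13958431081, nat_lit 0x5234196768562, [], [], []⟩)) (.leaf ⟨nat_lit 0, nat_lit 1, nat_lit 1, nat_lit 0, nat_lit 0x39cea30d4c11d44, nat_lit 0x14b4cd29521598c2, [], [], []⟩)) (.node (.node (.leaf ⟨nat_lit 0, nat_lit 1, nat_lit 1, nat_lit 0, nat_lit 0xb5612186c430c3, nat_lit 0x3288c53b4843852c, [], [], []⟩) (.leaf ⟨nat_lit 2, nat_lit 0, nat_lit 0, nat_lit 2471, nat_lit 0, nat_lit 0, [], [], [nat_lit 0x14b5020992c508e1, nat_lit 6531, nat_lit 0x1324681b08410501]⟩)) (.leaf ⟨nat_lit 0, nat_lit 1, nat_lit 1, nat_lit 0, nat_lit 0x840902b, nat_lit 0x141284a5, [], [], []⟩))) (.node (.node (.node (.leaf ⟨nat_lit 0, nat_lit 1, nat_lit 1, nat_lit 0, nat_lit 0x1c864a4c543082, nat_lit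 0x9cad415634a8ea, [], [], []⟩) (.leaf ⟨nat_lit 0, nat_lit 1, nat_lit 1, nat_lit 0, nat_lit 0x285033214443162, nat_lit 0x329d666984461d81, [], [], []⟩)) (.leaf ⟨nat_lit 0, nat_lit 1, nat_lit 1, nat_lit 0, nat_lit 0x6590290ad01, nat_lit 0x14a82809547, [], [], []⟩)) (.node (.node (.leaf ⟨nat_lit 0, nat_lit 1, nat_lit 1, nat_lit 0, nat_lit 0x1ac4510522, nat_lit 0x1a02320d42, [], [], []⟩) (.leaf ⟨nat_lit 1, nat_lit 4, nat_lit 4, nat_lit 0xb4b5292118352561, nat_lit 0x328454052c498c4, nat_lit 0x22acc66992a414e8, [], [], []⟩)) (.leaf ⟨nat_lit 0, nat_lit 1, nat_lit 1, nat_lit 0, nat_lit 0x4912912d8641181, nat_lit 0x9d4d310c430ca2, [], [], []⟩)))) (.node (.node (.node (.node (.leaf ⟨nat_lit 0, nat_lit 1, nat_lit 1, nat_lit 0, nat_lit 161, nat_lit 36, [], [], []⟩) (.leaf ⟨nat_lit 0, nat_lit 1, nat_lit 1, nat_lit 0, nat_lit 0x104465a0a813082, nat_lit 0x1850239ce262467, [], [], []⟩)) (.leaf ⟨nat_lit 0,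 nat_lit 1, nat_lit 1, nat_lit 0, nat_lit 0x224a30acc143082, nat_lit 0x28823691a252422, [], [], []⟩)) (.node (.node (.leaf ⟨nat_lit 0, nat_lit 1, nat_lit 1, nat_lit 0, nat_lit 0xc958d6633162, nat_lit 0x3a48d5a067198a2, [], [], []⟩) (.leaf ⟨nat_lit 0, nat_lit 3, nat_lit 3, nat_lit 0, nat_lit 0x6488e82302931182, nat_lit 0x11a4672a5a253025, [], [], []⟩)) (.leaf ⟨nat_lit 0, nat_lit 1, nat_lit 1, nat_lit 0, nat_lit 0x1a02b32cc54b162, nat_lit 0x128c2858c8c220e1, [], [], []⟩))) (.node (.node (.node (.leaf ⟨nat_lit 0, nat_lit 1, nat_lit 1, nat_lit 0, nat_lit 0x81208828d21, nat_lit 0x1408892a469, [], [], []⟩) (.leaf ⟨nat_lit 0, nat_lit 1, nat_lit 1, nat_lit 0, nat_lit 0xb3082331941, nat_lit 0x159ce208cea, [], [], []⟩)) (.leaf ⟨nat_lit 0, nat_lit 1, nat_lit 1, nat_lit 0, nat_lit 0x6190e342107, nat_lit 0x64a52231447, [], [], []⟩)) (.node (.node (.leaf ⟨nat_lit 0, nat_lit 1, nat_lit 1, nat_lit 0, nat_lit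 0x15092b12424, nat_lit 0x50a06a40d61, [], [], []⟩) (.leaf ⟨nat_lit 1, nat_lit 3, nat_lit 6, nat_lit 34, nat_lit 0, nat_lit 0, [], [], []⟩)) (.leaf ⟨nat_lit 0, nat_lit 1, nat_lit 1, nat_lit 0, nat_lit 0x432cc240503, nat_lit 0x2485233a8e5, [], [], []⟩))))

noncomputable def F2 : GT Fa := .node (.node (.node (.node (.node (.leaf ⟨nat_lit 0, nat_lit 0, nat_lit 0, nat_lit 0, nat_lit 5, nat_lit 4, [], [], []⟩) (.leaf ⟨nat_lit 0, nat_lit 1, nat_lit 1, nat_lit 0, nat_lit 0x11a0e53ac65, nat_lit 0x4128c432441, [], [], []⟩)) (.leaf ⟨nat_lit 0, nat_lit 1, nat_lit 1, nat_lit 0, nat_lit 0x4124ca41047, nat_lit 0x61952b3a065, [], [], []⟩)) (.node (.node (.leaf ⟨nat_lit 0, nat_lit 1, nat_lit 1, nat_lit 0, nat_lit 37, nat_lit 129, [], [], []⟩) (.leaf ⟨nat_lit 2, nat_lit 0, nat_lit 0, nat_lit 0x14b5020992c508e1, nat_lit 0, nat_lit 0, [], [], [nat_lit 6531, nat_lit 0x1324681b08410501, nat_lit 2471]⟩)) (.leaf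 ⟨nat_lit 0, nat_lit 1, nat_lit 1, nat_lit 0, nat_lit 0x98a6285673b162, nat_lit 0x330d0d418a15a4ea, [], [], []⟩))) (.node (.node (.node (.leaf ⟨nat_lit 0, nat_lit 1, nat_lit 1, nat_lit 0, nat_lit 0x11c820a56153082, nat_lit 0xc2a40da6490e8, [], [], []⟩) (.leaf ⟨nat_lit 0, nat_lit 1, nat_lit 1, nat_lit 0, nat_lit 0x128224a563, nat_lit 0x1290818563, [], [], []⟩)) (.leaf ⟨nat_lit 0, nat_lit 1, nat_lit 1, nat_lit 0, nat_lit 0x48d4d13166210e8, nat_lit 0x268c8130d683b023, [], [], []⟩)) (.node (.node (.leaf ⟨nat_lit 0, nat_lit 1, nat_lit 1, nat_lit 0, nat_lit 0x1a10818522, nat_lit 0x1a0224a522, [], [], []⟩) (.leaf ⟨nat_lit 1, nat_lit 4, nat_lit 4, nat_lit 0x1a527220e22b083, nat_lit 0x3310283a58620921, nat_lit 0x33a526194ec32184, [], [], []⟩)) (.leaf ⟨nat_lit 0, nat_lit 1, nat_lit 1, nat_lit 0, nat_lit 0xca48d633ad22, nat_lit 0x685184a12167, [], [], []⟩)))) (.node (.node (.node (.node (.leaf ⟨nat_lit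 0, nat_lit 1, nat_lit 1, nat_lit 0, nat_lit 0x2a4683ac66, nat_lit 0x3894648904, [], [], []⟩) (.leaf ⟨nat_lit 0, nat_lit 1, nat_lit 1, nat_lit 0, nat_lit 0x505612102a, nat_lit 0x584a50a82b, [], [], []⟩)) (.leaf ⟨nat_lit 0, nat_lit 1, nat_lit 1, nat_lit 0, nat_lit 0x2a0ac6842ce1, nat_lit 0x265252250561, [], [], []⟩)) (.node (.node (.leaf ⟨nat_lit 0, nat_lit 1, nat_lit 1, nat_lit 0, nat_lit 0x32c2221123, nat_lit 0x120a518547, [], [], []⟩) (.leaf ⟨nat_lit 0, nat_lit 3, nat_lit 3, nat_lit 0, nat_lit 0xa4284b1a084, nat_lit 0x44094ca3214c, [], [], []⟩)) (.leaf ⟨nat_lit 0, nat_lit 1, nat_lit 1, nat_lit 0, nat_lit 0x15186b41c23, nat_lit 0x20992a11d61, [], [], []⟩))) (.node (.node (.node (.leaf ⟨nat_lit 0, nat_lit 1, nat_lit 1, nat_lit 0, nat_lit 0x14841ce560482, nat_lit 0x330d0d4988729c84, [], [], []⟩) (.leaf ⟨nat_lit 0, nat_lit 1, nat_lit 1, nat_lit 0, nat_lit 0x34ac28410e9, nat_lit 0x8315290a902,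 [], [], []⟩)) (.leaf ⟨nat_lit 0, nat_lit 1, nat_lit 1, nat_lit 0, nat_lit 0x32112a488a2, nat_lit 0x320d0b414a2, [], [], []⟩)) (.node (.node (.leaf ⟨nat_lit 0, nat_lit 1, nat_lit 1, nat_lit 0, nat_lit 0x2c4420963, nat_lit 0x9432946a, [], [], []⟩) (.leaf ⟨nat_lit 0, nat_lit 6, nat_lit 6, nat_lit 0, nat_lit 0x95a6130233b081, nat_lit 0x992a3a84961107, [], [], []⟩)) (.leaf ⟨nat_lit 0, nat_lit 1, nat_lit 1, nat_lit 0, nat_lit 0x9ca61a5632b082, nat_lit 0x9cad390e238547, [], [], []⟩))))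

noncomputable def F3 : GT Fa := .node (.node (.node (.node (.node (.leaf ⟨nat_lit 0, nat_lit 1, nat_lit 1, nat_lit 0, nat_lit 5, nat_lit 4, [], [], []⟩) (.leaf ⟨nat_lit 0, nat_lit 1, nat_lit 1, nat_lit 0, nat_lit 0x1524c60a084, nat_lit 0x52a4273a161, [], [], []⟩)) (.leaf ⟨nat_lit 0, nat_lit 1, nat_lit 1, nat_lit 0, nat_lit 0xb4ac8828541, nat_lit 0x1584892a90a, [], [], []⟩)) (.node (.node (.leaf ⟨nat_lit 0, nat_lit 1, nat_lit 1, nat_lit 0, nat_lit 0x390c930908, nat_lit 0x4a46741ca6, [], [], []⟩) (.leaf ⟨nat_lit 2, nat_lit 0, nat_lit 0, nat_lit 0x1484652b449120e1, nat_lit 0, nat_lit 0, [], [], [nat_lit 2471, nat_lit 0x130d6d41c234b101, nat_lit 6531]⟩)) (.leaf ⟨nat_lit 0, nat_lit 1, nat_lit 1, nat_lit 0, nat_lit 0xd641a102, nat_lit 0xd2911542, [], [], []⟩))) (.node (.node (.node (.leaf ⟨nat_lit 0, nat_lit 1, nat_lit 1, nat_lit 0, nat_lit 0x1124c55a06743082, nat_lit 0x185481b4c921d05, [], [],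 []⟩) (.leaf ⟨nat_lit 0, nat_lit 1, nat_lit 1, nat_lit 0, nat_lit 0x12944749047, nat_lit 0x61950619081, [], [], []⟩)) (.leaf ⟨nat_lit 0, nat_lit 1, nat_lit 1, nat_lit 0, nat_lit 0x134c53b10a60908, nat_lit 0x285a5434484310a, [], [], []⟩)) (.node (.node (.leaf ⟨nat_lit 0, nat_lit 1, nat_lit 1, nat_lit 0, nat_lit 0x484ac20501, nat_lit 0x12d0b0b4ed52543, [], [], []⟩) (.leaf ⟨nat_lit 1, nat_lit 4, nat_lit 4, nat_lit 0xac2b38ca7614c3, nat_lit 0x62a4c32b0eb41ca1, nat_lit 0x26410c33b4894b142, [], [], []⟩)) (.leaf ⟨nat_lit 0, nat_lit 1, nat_lit 1, nat_lit 0, nat_lit 0x9864688e95910a, nat_lit 0x5a4ab4186c508e1, [], [], []⟩)))) (.node (.node (.node (.node (.leaf ⟨nat_lit 0, nat_lit 1, nat_lit 1, nat_lit 0, nat_lit 0x108120561, nat_lit 0x541284a5, [], [], []⟩) (.leaf ⟨nat_lit 0, nat_lit 1, nat_lit 1, nat_lit 0, nat_lit 0xa82a318c1, nat_lit 0x9ce758561, [], [], []⟩)) (.leaf ⟨nat_lit 0, nat_lit 1, nat_lit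 1, nat_lit 0, nat_lit 0xa0ac6842ce1, nat_lit 0x1329291282b, [], [], []⟩)) (.node (.node (.leaf ⟨nat_lit 0, nat_lit 1, nat_lit 1, nat_lit 0, nat_lit 0xa48d262a464, nat_lit 0x5120874090b, [], [], []⟩) (.leaf ⟨nat_lit 0, nat_lit 3, nat_lit 3, nat_lit 0, nat_lit 0xa14890a10502, nat_lit 0x94d389071a44a, [], [], []⟩)) (.leaf ⟨nat_lit 0, nat_lit 1, nat_lit 1, nat_lit 0, nat_lit 0x5298c659024, nat_lit 0x50954739c84, [], [], []⟩))) (.node (.node (.node (.leaf ⟨nat_lit 0, nat_lit 1, nat_lit 1, nat_lit 0, nat_lit 0x72192612104, nat_lit 0x54a46741ca6, [], [], []⟩) (.leaf ⟨nat_lit 0, nat_lit 1, nat_lit 1, nat_lit 0, nat_lit 0x284840902b, nat_lit 0x504a129424, [], [], []⟩)) (.leaf ⟨nat_lit 0, nat_lit 1, nat_lit 1, nat_lit 0, nat_lit 0x3519256146961864, nat_lit 0x4c36ada23ad85, [], [], []⟩)) (.node (.node (.leaf ⟨nat_lit 0, nat_lit 1, nat_lit 1, nat_lit 0, nat_lit 0x3221073a8e8, nat_lit 0x932cc64a4a2, [],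 [], []⟩) (.leaf ⟨nat_lit 0, nat_lit 6, nat_lit 6, nat_lit 0, nat_lit 0x10464312630d4c, nat_lit 0x3509a8110c230984, [], [], []⟩)) (.leaf ⟨nat_lit 0, nat_lit 1, nat_lit 1, nat_lit 0, nat_lit 0x5a143230e9130e2, nat_lit 0x3598ad5256c3902a, [], [], []⟩))))

noncomputable def F4 : GT Fa := .node (.node (.node (.node (.node (.leaf ⟨nat_lit 2, nat_lit 0, nat_lit 0, nat_lit 1, nat_lit 0, nat_lit 0, [], [], [nat_lit 1]⟩) (.leaf ⟨nat_lit 0, nat_lit 1, nat_lit 1, nat_lit 0, nat_lit 0x28cb40d6c48c22, nat_lit 0x11344a1990860461, [], [], []⟩)) (.leaf ⟨nat_lit 0, nat_lit 1, nat_lit 1, nat_lit 0, nat_lit 0x48c862998b604a2, nat_lit 0x18566699ab42c87, [], [], []⟩)) (.node (.node (.leaf ⟨nat_lit 0, nat_lit 1, nat_lit 1, nat_lit 0, nat_lit 0x5b0686244b, nat_lit 0x51a1a26a0c120c23, [], [], []⟩) (.leaf ⟨nat_lit 2, nat_lit 0, nat_lit 0, nat_lit 2471, nat_lit 0, nat_lit 0, [], [], [nat_lit 0x130d6d41c234b101, nat_lit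 6531, nat_lit 0x1484652b449120e1]⟩)) (.leaf ⟨nat_lit 0, nat_lit 1, nat_lit 1, nat_lit 0, nat_lit 0x309a35844422464, nat_lit 0x1854769c83614ca, [], [], []⟩))) (.node (.node (.node (.leaf ⟨nat_lit 0, nat_lit 1, nat_lit 1, nat_lit 0, nat_lit 0x2b4c44a46713045, nat_lit 0x2986d2894948984, [], [], []⟩) (.leaf ⟨nat_lit 0, nat_lit 1, nat_lit 1, nat_lit 0, nat_lit 0x2598a61ad25, nat_lit 0x44284721d43, [], [], []⟩)) (.leaf ⟨nat_lit 0, nat_lit 1, nat_lit 1, nat_lit 0, nat_lit 0x28d0a3ad22, nat_lit 0x1a1465a444, [], [], []⟩)) (.node (.node (.leaf ⟨nat_lit 0, nat_lit 1, nat_lit 1, nat_lit 0, nat_lit 0x12c2b090cc52424, nat_lit 0x9435b50b31881, [], [], []⟩) (.leaf ⟨nat_lit 1, nat_lit 3, nat_lit 4, nat_lit 0x5b52b4096c12903, nat_lit 0x2b49da419ce912524, nat_lit 0x3519636906b1a985, [], [], []⟩)) (.leaf ⟨nat_lit 0, nat_lit 1, nat_lit 1, nat_lit 0, nat_lit 0x261112532104, nat_lit 0xa949c8828ce1, [], [], []⟩))))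 (.node (.node (.node (.node (.leaf ⟨nat_lit 0, nat_lit 1, nat_lit 1, nat_lit 0, nat_lit 0x2a8250a82a, nat_lit 0x5856120564, [], [], []⟩) (.leaf ⟨nat_lit 0, nat_lit 1, nat_lit 1, nat_lit 0, nat_lit 0x1298c628561, nat_lit 0x15048739c81, [], [], []⟩)) (.leaf ⟨nat_lit 0, nat_lit 1, nat_lit 1, nat_lit 0, nat_lit 0x44498c359c82, nat_lit 0x65328473a0a3, [], [], []⟩)) (.node (.node (.leaf ⟨nat_lit 0, nat_lit 1, nat_lit 1, nat_lit 0, nat_lit 0x51da2218a353101, nat_lit 0x110ed485a822585, [], [], []⟩) (.leaf ⟨nat_lit 2, nat_lit 0, nat_lit 0, nat_lit 3, nat_lit 0, nat_lit 0, [], [], [nat_lit 0x3694e80b4a930d07, nat_lit 2, nat_lit 0x40b5636208612041]⟩)) (.leaf ⟨nat_lit 0, nat_lit 1, nat_lit 1, nat_lit 0, nat_lit 0x3090cb41081, nat_lit 0x12952a39422, [], [], []⟩))) (.node (.node (.node (.leaf ⟨nat_lit 0, nat_lit 1, nat_lit 1, nat_lit 0, nat_lit 0x4318c158561, nat_lit 0x15054139ce5, [], [], []⟩) (.leaf ⟨nat_lit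 0, nat_lit 1, nat_lit 1, nat_lit 0, nat_lit 0x652522, nat_lit 0x342167, [], [], []⟩)) (.leaf ⟨nat_lit 0, nat_lit 1, nat_lit 1, nat_lit 0, nat_lit 0x125612b02b12824, nat_lit 0x9cad415634a8eb, [], [], []⟩)) (.node (.node (.leaf ⟨nat_lit 0, nat_lit 1, nat_lit 1, nat_lit 0, nat_lit 0x15848120484, nat_lit 0x5284a128541, [], [], []⟩) (.leaf ⟨nat_lit 0, nat_lit 6, nat_lit 6, nat_lit 0, nat_lit 0x468906521834a8c2, nat_lit 0x50b563090cc53101, [], [], []⟩)) (.leaf ⟨nat_lit 0, nat_lit 1, nat_lit 1, nat_lit 0, nat_lit 0x54ac880ac81, nat_lit 0x12a8292a904, [], [], []⟩))))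

noncomputable def F5 : GT Fa := .node (.node (.node (.node (.node (.leaf ⟨nat_lit 0, nat_lit 0, nat_lit 0, nat_lit 0, nat_lit 1, nat_lit 1, [], [], []⟩) (.leaf ⟨nat_lit 0, nat_lit 1, nat_lit 1, nat_lit 0, nat_lit 0x1a0224a52c13084, nat_lit 0x8da2585a461024, [], [], []⟩)) (.leaf ⟨nat_lit 0, nat_lit 1, nat_lit 1, nat_lit 0, nat_lit 0x1505612102a, nat_lit 0xb094a150561, [], [], []⟩)) (.node (.node (.leaf ⟨nat_lit 0, nat_lit 1, nat_lit 1, nat_lit 0, nat_lit 0x2b3146b39503, nat_lit 0x492194221d41, [], [], []⟩) (.leaf ⟨nat_lit 1, nat_lit 2, nat_lit 1, nat_lit 0x15050d488c15a582, nat_lit 0x161298893b142, nat_lit 0x350cc54a9a820907, [], [], []⟩)) (.leaf ⟨nat_lit 0, nat_lit 1, nat_lit 1, nat_lit 0, nat_lit 0x14184b4308629d42, nat_lit 0x50a08d51d6950ca3, [], [], []⟩))) (.node (.node (.node (.leaf ⟨nat_lit 0, nat_lit 1, nat_lit 1, nat_lit 0, nat_lit 0x54acc6104a8, nat_lit 0x9204673a904, [], [], []⟩)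 (.leaf ⟨nat_lit 0, nat_lit 1, nat_lit 1, nat_lit 0, nat_lit 0x6525a539c444acc2, nat_lit 0x2994d19c614b148, [], [], []⟩)) (.leaf ⟨nat_lit 0, nat_lit 1, nat_lit 1, nat_lit 0, nat_lit 0x15186b11c81, nat_lit 0x12986a11d61, [], [], []⟩)) (.node (.node (.leaf ⟨nat_lit 0, nat_lit 1, nat_lit 1, nat_lit 0, nat_lit 0x512c2b090cc52424, nat_lit 0x1286b6a16631024, [], [], []⟩) (.leaf ⟨nat_lit 1, nat_lit 4, nat_lit 4, nat_lit 0x6235064204c324a2, nat_lit 0x274a56761ca20ac61, nat_lit 0x1524a96a44622584, [], [], []⟩)) (.leaf ⟨nat_lit 0, nat_lit 1, nat_lit 1, nat_lit 0, nat_lit 0x1184b4190b23082, nat_lit 0x9cad410c632483, [], [], []⟩)))) (.node (.node (.node (.node (.leaf ⟨nat_lit 0, nat_lit 1, nat_lit 1, nat_lit 0, nat_lit 0x64a8644982b, nat_lit 0xa09d0512d07, [], [], []⟩) (.leaf ⟨nat_lit 0, nat_lit 1, nat_lit 1, nat_lit 0, nat_lit 0x251d6220d63, nat_lit 0x2508a351963, [], [], []⟩)) (.leaf ⟨nat_lit 0, nat_lit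 1, nat_lit 1, nat_lit 0, nat_lit 0x12986b208e5, nat_lit 0x430caa11c81, [], [], []⟩)) (.node (.node (.leaf ⟨nat_lit 0, nat_lit 1, nat_lit 1, nat_lit 0, nat_lit 0x294e7490233b162, nat_lit 0x299084356832c47, [], [], []⟩) (.leaf ⟨nat_lit 2, nat_lit 0, nat_lit 0, nat_lit 0x3694e80b4a930d07, nat_lit 0, nat_lit 0, [], [], [nat_lit 2, nat_lit 0x40b5636208612041, nat_lit 3]⟩)) (.leaf ⟨nat_lit 0, nat_lit 1, nat_lit 1, nat_lit 0, nat_lit 0x50d2460483628e1, nat_lit 0x9cad120e20ace7, [], [], []⟩))) (.node (.node (.node (.leaf ⟨nat_lit 0, nat_lit 1, nat_lit 1, nat_lit 0, nat_lit 0x3ac490a16460482, nat_lit 0x269c45125aa190c5, [], [], []⟩) (.leaf ⟨nat_lit 0, nat_lit 1, nat_lit 1, nat_lit 0, nat_lit 0xa2414e85a0a3, nat_lit 0x444a92622464, [], [], []⟩)) (.leaf ⟨nat_lit 0, nat_lit 1, nat_lit 1, nat_lit 0, nat_lit 0x4b0ac2432921, nat_lit 0x2859ca150543, [], [], []⟩)) (.node (.node (.leaf ⟨nat_lit 0, nat_lit 1,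 nat_lit 1, nat_lit 0, nat_lit 0x2550cc44ad24, nat_lit 0xa8520a712c81, [], [], []⟩) (.leaf ⟨nat_lit 0, nat_lit 6, nat_lit 6, nat_lit 0, nat_lit 0x2252163508e1, nat_lit 0x1a30a4a222445, [], [], []⟩)) (.leaf ⟨nat_lit 0, nat_lit 1, nat_lit 1, nat_lit 0, nat_lit 0x259d223a0c5, nat_lit 0x43a4c341943, [], [], []⟩))))

noncomputable def F6 : GT Fa := .node (.node (.node (.node (.node (.leaf ⟨nat_lit 0, nat_lit 1, nat_lit 1, nat_lit 0, nat_lit 1, nat_lit 1, [], [], []⟩) (.leaf ⟨nat_lit 0, nat_lit 1, nat_lit 1, nat_lit 0, nat_lit 0x92a1a04960964, nat_lit 0x368ceb6a48741823, [], [], []⟩)) (.leaf ⟨nat_lit 0, nat_lit 1, nat_lit 1, nat_lit 0, nat_lit 0x4ad25185662b082, nat_lit 0x18475b4c41a908, [], [], []⟩)) (.node (.node (.leaf ⟨nat_lit 0, nat_lit 1, nat_lit 1, nat_lit 0, nat_lit 0x833196251924, nat_lit 0xa83ac6a39c45, [], [], []⟩) (.leaf ⟨nat_lit 2, nat_lit 0, nat_lit 0, nat_lit 0x15050d488c15a582, nat_lit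 0, nat_lit 0, [], [], [nat_lit 6531, nat_lit 0x648ca962d0438962, nat_lit 0x6b699053902a]⟩)) (.leaf ⟨nat_lit 0, nat_lit 1, nat_lit 1, nat_lit 0, nat_lit 4133, nat_lit 4133, [], [], []⟩))) (.node (.node (.node (.leaf ⟨nat_lit 0, nat_lit 1, nat_lit 1, nat_lit 0, nat_lit 0x4acc6104a8, nat_lit 0x4902339d48, [], [], []⟩) (.leaf ⟨nat_lit 0, nat_lit 1, nat_lit 1, nat_lit 0, nat_lit 0x254ac880ac81, nat_lit 0x255052552081, [], [], []⟩)) (.leaf ⟨nat_lit 0, nat_lit 1, nat_lit 1, nat_lit 0, nat_lit 0xa3292711922, nat_lit 0x341c6642ceb, [], [], []⟩)) (.node (.node (.leaf ⟨nat_lit 0, nat_lit 1, nat_lit 1, nat_lit 0, nat_lit 0x1541284a32b082, nat_lit 0x30acc4405ab60d24, [], [], []⟩) (.leaf ⟨nat_lit 1, nat_lit 3, nat_lit 4, nat_lit 0x72b5085216c19c24, nat_lit 0x148ce462823210c1, nat_lit 0x3395046992538564, [], [], []⟩)) (.leaf ⟨nat_lit 0, nat_lit 1, nat_lit 1, nat_lit 0, nat_lit 0x641290659881, nat_lit 0x253a8e958ca2,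 [], [], []⟩)))) (.node (.node (.node (.node (.leaf ⟨nat_lit 0, nat_lit 0, nat_lit 0, nat_lit 0, nat_lit 0x119616a90720c88, nat_lit 0x494453256c0a8e3, [], [], []⟩) (.leaf ⟨nat_lit 0, nat_lit 1, nat_lit 1, nat_lit 0, nat_lit 0x220ea60ca91ac44, nat_lit 0x12da768da911d06, [], [], []⟩)) (.leaf ⟨nat_lit 0, nat_lit 1, nat_lit 1, nat_lit 0, nat_lit 0x439c6511c81, nat_lit 0x129864118c5, [], [], []⟩)) (.node (.node (.leaf ⟨nat_lit 0, nat_lit 1, nat_lit 1, nat_lit 0, nat_lit 0x240ac24318c1, nat_lit 0x2739ca1504a1, [], [], []⟩) (.leaf ⟨nat_lit 2, nat_lit 0, nat_lit 0, nat_lit 0x11a4672a5a253025, nat_lit 0, nat_lit 0, [], [], [nat_lit 3, nat_lit 0x6488e82302931182, nat_lit 2]⟩)) (.leaf ⟨nat_lit 0, nat_lit 1, nat_lit 1, nat_lit 0, nat_lit 0xa112922, nat_lit 0x6858c24, [], [], []⟩))) (.node (.node (.node (.leaf ⟨nat_lit 0, nat_lit 1, nat_lit 1, nat_lit 0, nat_lit 0x1284a6330c342d83, nat_lit 0x1195030b48348c81,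 [], [], []⟩) (.leaf ⟨nat_lit 0, nat_lit 1, nat_lit 1, nat_lit 0, nat_lit 0x1388c141942, nat_lit 0x359d2138cc1, [], [], []⟩)) (.leaf ⟨nat_lit 0, nat_lit 1, nat_lit 1, nat_lit 0, nat_lit 0x2712d23328c3, nat_lit 0x4759c4850cc1, [], [], []⟩)) (.node (.node (.leaf ⟨nat_lit 0, nat_lit 1, nat_lit 1, nat_lit 0, nat_lit 0xacca42cc34b162, nat_lit 0x335065204c114e1, [], [], []⟩) (.leaf ⟨nat_lit 1, nat_lit 6, nat_lit 4, nat_lit 0x6d134c90ad8250d01, nat_lit 0x15a4cd2a564120c4, nat_lit 0x1119a4689aa30508, [], [], []⟩)) (.leaf ⟨nat_lit 0, nat_lit 1, nat_lit 1, nat_lit 0, nat_lit 0x66488ad324c81b102, nat_lit 0x2d2894d4b445, [], [], []⟩))))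

noncomputable def F7 : GT Fa := .node (.node (.node (.node (.node (.leaf ⟨nat_lit 2, nat_lit 0, nat_lit 0, nat_lit 7270, nat_lit 0, nat_lit 0, [], [], [nat_lit 7270, nat_lit 7270]⟩) (.leaf ⟨nat_lit 0, nat_lit 1, nat_lit 1, nat_lit 0, nat_lit 0x40a06b41c61, nat_lit 0x11192a12425, [], [], []⟩)) (.leaf ⟨nat_lit 0, nat_lit 1, nat_lit 1, nat_lit 0, nat_lit 0xac8631884, nat_lit 0x294e739541, [], [], []⟩)) (.node (.node (.leaf ⟨nat_lit 0, nat_lit 1, nat_lit 1, nat_lit 0, nat_lit 0x3a1064308328483, nat_lit 0x369046125a539d03, [], [], []⟩) (.leaf ⟨nat_lit 2, nat_lit 0, nat_lit 0, nat_lit 0x648ca962d0438962, nat_lit 0, nat_lit 0, [], [], [nat_lit 0x6b699053902a, nat_lit 0x15050d488c15a582, nat_lit 6531]⟩)) (.leaf ⟨nat_lit 0, nat_lit 1, nat_lit 1, nat_lit 0, nat_lit 0x5124ca22082, nat_lit 0x32a4ab3a064, [], [], []⟩))) (.node (.node (.node (.leaf ⟨nat_lit 0, nat_lit 1, nat_lit 1, nat_lit 0, nat_lit 0x509024218c6,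 nat_lit 0x739ca509424, [], [], []⟩) (.leaf ⟨nat_lit 0, nat_lit 1, nat_lit 1, nat_lit 0, nat_lit 0x1142928d88394e3, nat_lit 0x1504a511da9608e1, [], [], []⟩)) (.leaf ⟨nat_lit 0, nat_lit 1, nat_lit 1, nat_lit 0, nat_lit 0x8d290ac4413162, nat_lit 0x134e22892d50c86, [], [], []⟩)) (.node (.node (.leaf ⟨nat_lit 0, nat_lit 1, nat_lit 1, nat_lit 0, nat_lit 0x141284a32b082, nat_lit 0x185662202d5b069, [], [], []⟩) (.leaf ⟨nat_lit 1, nat_lit 3, nat_lit 5, nat_lit 0x50d83, nat_lit 0, nat_lit 0, [], [], []⟩)) (.leaf ⟨nat_lit 0, nat_lit 1, nat_lit 1, nat_lit 0, nat_lit 0xacca428ea13162, nat_lit 0x1395a8219481a4a1, [], [], []⟩)))) (.node (.node (.node (.node (.leaf ⟨nat_lit 1, nat_lit 1, nat_lit 1, nat_lit 0x3695a9308a23a4a3, nat_lit 7270, nat_lit 0x30b4a23b56122061, [], [], []⟩) (.leaf ⟨nat_lit 0, nat_lit 1, nat_lit 1, nat_lit 0, nat_lit 0x6858c232b082, nat_lit 0x1135486a523318c3, [], [], []⟩)) (.leaf ⟨nat_lit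 0, nat_lit 1, nat_lit 1, nat_lit 0, nat_lit 0x5856120564, nat_lit 0x2a8250a82a, [], [], []⟩)) (.node (.node (.leaf ⟨nat_lit 0, nat_lit 1, nat_lit 1, nat_lit 0, nat_lit 0xc321c68420e4, nat_lit 0xa64a52231447, [], [], []⟩) (.leaf ⟨nat_lit 2, nat_lit 0, nat_lit 0, nat_lit 0x6488e82302931182, nat_lit 0, nat_lit 0, [], [], [nat_lit 2, nat_lit 0x11a4672a5a253025, nat_lit 3]⟩)) (.leaf ⟨nat_lit 0, nat_lit 1, nat_lit 1, nat_lit 0, nat_lit 0x23520c15a064, nat_lit 0xa24a8274ac41, [], [], []⟩))) (.node (.node (.node (.leaf ⟨nat_lit 0, nat_lit 1, nat_lit 1, nat_lit 0, nat_lit 0x8a5321835a107, nat_lit 0x13194d38ce932cc1, [], [], []⟩) (.leaf ⟨nat_lit 0, nat_lit 1, nat_lit 1, nat_lit 0, nat_lit 0x11d4449101, nat_lit 0xa4a82acc3, [], [], []⟩)) (.leaf ⟨nat_lit 0, nat_lit 1, nat_lit 1, nat_lit 0, nat_lit 0x2490ca110ea, nat_lit 0xb3146b39503, [], [], []⟩)) (.node (.node (.leaf ⟨nat_lit 0, nat_lit 1, nat_lit 1,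 nat_lit 0, nat_lit 0x4488e72098352163, nat_lit 0x14a36a1ab19181, [], [], []⟩) (.leaf ⟨nat_lit 0, nat_lit 6, nat_lit 6, nat_lit 0, nat_lit 0x7410676098758903, nat_lit 0x50a481534473a845, [], [], []⟩)) (.leaf ⟨nat_lit 0, nat_lit 1, nat_lit 1, nat_lit 0, nat_lit 0x128d0a3ad22, nat_lit 0x3428cb48881, [], [], []⟩))))

noncomputable def F8 : GT Fa := .node (.node (.node (.node (.node (.leaf ⟨nat_lit 2, nat_lit 0, nat_lit 0, nat_lit 9, nat_lit 0, nat_lit 0, [], [], [nat_lit 328, nat_lit 9, nat_lit 328]⟩) (.leaf ⟨nat_lit 0, nat_lit 1, nat_lit 1, nat_lit 0, nat_lit 0x41286631083, nat_lit 0x2294e712c65, [], [], []⟩)) (.leaf ⟨nat_lit 0, nat_lit 1, nat_lit 1, nat_lit 0, nat_lit 0x542ced2896961582, nat_lit 0x67499666952c50cc1, [], [], []⟩)) (.node (.node (.leaf ⟨nat_lit 0, nat_lit 1, nat_lit 1, nat_lit 0, nat_lit 0x4090895110b, nat_lit 0xa4956829425, [], [], []⟩) (.leaf ⟨nat_lit 2, nat_lit 0, nat_lit 0,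 nat_lit 0x6b699053902a, nat_lit 0, nat_lit 0, [], [], [nat_lit 0x15050d488c15a582, nat_lit 6531, nat_lit 0x648ca962d0438962]⟩)) (.leaf ⟨nat_lit 0, nat_lit 1, nat_lit 1, nat_lit 0, nat_lit 0x1508e259d62, nat_lit 0x35194330d61, [], [], []⟩))) (.node (.node (.node (.leaf ⟨nat_lit 0, nat_lit 1, nat_lit 1, nat_lit 0, nat_lit 0x6a3a8eb224c1, nat_lit 0x274154659962, [], [], []⟩) (.leaf ⟨nat_lit 0, nat_lit 1, nat_lit 1, nat_lit 0, nat_lit 0x15986511d61, nat_lit 0x15186411d41, [], [], []⟩)) (.leaf ⟨nat_lit 0, nat_lit 1, nat_lit 1, nat_lit 0, nat_lit 0x220e838d26, nat_lit 0x3a04649925, [], [], []⟩)) (.node (.node (.leaf ⟨nat_lit 0, nat_lit 1, nat_lit 1, nat_lit 0, nat_lit 0x441d071a4c4, nat_lit 0x53a04649925, [], [], []⟩) (.leaf ⟨nat_lit 0, nat_lit 5, nat_lit 5, nat_lit 0, nat_lit 0xa8c32b1051a041, nat_lit 0x120c6699222844b, [], [], []⟩)) (.leaf ⟨nat_lit 0, nat_lit 1, nat_lit 1, nat_lit 0, nat_lit 0x16a8c94a92c2a422,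 nat_lit 0x11a562699a659966, [], [], []⟩)))) (.node (.node (.node (.node (.leaf ⟨nat_lit 2, nat_lit 0, nat_lit 0, nat_lit 0x1124a1530c323022, nat_lit 0, nat_lit 0, [], [], [nat_lit 7238, nat_lit 0x3695a9308a23a4a3]⟩) (.leaf ⟨nat_lit 0, nat_lit 1, nat_lit 1, nat_lit 0, nat_lit 0x50a5253a8c4, nat_lit 0x53acc442024, [], [], []⟩)) (.leaf ⟨nat_lit 0, nat_lit 1, nat_lit 1, nat_lit 0, nat_lit 0x5408e430561, nat_lit 0x1504e530d24, [], [], []⟩)) (.node (.node (.leaf ⟨nat_lit 0, nat_lit 1, nat_lit 1, nat_lit 0, nat_lit 0x652a54911444, nat_lit 0xa320d0b41082, [], [], []⟩) (.leaf ⟨nat_lit 1, nat_lit 2, nat_lit 3, nat_lit 0x3434612b06959122, nat_lit 0x4b521331683acc2, nat_lit 0x9cad19caa30908, [], [], []⟩)) (.leaf ⟨nat_lit 0, nat_lit 1, nat_lit 1, nat_lit 0, nat_lit 0x59841198ca, nat_lit 0x59ce208cea, [], [], []⟩))) (.node (.node (.node (.leaf ⟨nat_lit 0, nat_lit 1, nat_lit 1, nat_lit 0, nat_lit 0x318a23a10753082,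 nat_lit 0x13a54d3346141c41, [], [], []⟩) (.leaf ⟨nat_lit 0, nat_lit 1, nat_lit 1, nat_lit 0, nat_lit 0x255a54619883, nat_lit 0x45388eb42881, [], [], []⟩)) (.leaf ⟨nat_lit 0, nat_lit 1, nat_lit 1, nat_lit 0, nat_lit 0x224c5415224b162, nat_lit 0x9d4d311270a483, [], [], []⟩)) (.node (.node (.leaf ⟨nat_lit 0, nat_lit 1, nat_lit 1, nat_lit 0, nat_lit 0x9c4a32448, nat_lit 0x48d0758cc1, [], [], []⟩) (.leaf ⟨nat_lit 1, nat_lit 5, nat_lit 6, nat_lit 0x6949948230ea088c2, nat_lit 0x599432110c51921, nat_lit 0x289672b4e828d81, [], [], []⟩)) (.leaf ⟨nat_lit 0, nat_lit 1, nat_lit 1, nat_lit 0, nat_lit 0x249948208e1, nat_lit 0x130ca959d03, [], [], []⟩))))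

noncomputable def F9 : GT Fa := .node (.node (.node (.node (.node (.leaf ⟨nat_lit 2, nat_lit 0, nat_lit 0, nat_lit 328, nat_lit 0, nat_lit 0, [], [], [nat_lit 9, nat_lit 328, nat_lit 9]⟩) (.leaf ⟨nat_lit 0, nat_lit 1, nat_lit 1, nat_lit 0, nat_lit 0x128c338522, nat_lit 0x1a02611d63, [], [], []⟩)) (.leaf ⟨nat_lit 0, nat_lit 1, nat_lit 1, nat_lit 0, nat_lit 0x4094c35918360ce1, nat_lit 0x561534ed3b0e1, [], [], []⟩)) (.node (.node (.leaf ⟨nat_lit 0, nat_lit 1, nat_lit 1, nat_lit 0, nat_lit 0x112922, nat_lit 0x342c61, [], [], []⟩) (.leaf ⟨nat_lit 2, nat_lit 0, nat_lit 0, nat_lit 0x49d434b0472a428, nat_lit 0, nat_lit 0, [], [], [nat_lit 2471, nat_lit 0x36a14138d0c48561, nat_lit 0x161298893b142]⟩)) (.leaf ⟨nat_lit 0, nat_lit 1, nat_lit 1, nat_lit 0, nat_lit 0x41c491944960482, nat_lit 0x5b46d4154c28d61, [], [], []⟩))) (.node (.node (.node (.leaf ⟨nat_lit 0, nat_lit 1, nat_lit 1, nat_lit 0, nat_lit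 0x8121d6622104, nat_lit 0xa9494ea31425, [], [], []⟩) (.leaf ⟨nat_lit 0, nat_lit 1, nat_lit 1, nat_lit 0, nat_lit 0x1505a439d494b044, nat_lit 0x12048d3292c19083, [], [], []⟩)) (.leaf ⟨nat_lit 0, nat_lit 1, nat_lit 1, nat_lit 0, nat_lit 0x54811c8353082, nat_lit 0x11944d429a330923, [], [], []⟩)) (.node (.node (.leaf ⟨nat_lit 0, nat_lit 1, nat_lit 1, nat_lit 0, nat_lit 0x9614cc39104, nat_lit 0x69448419a60a523, [], [], []⟩) (.leaf ⟨nat_lit 0, nat_lit 5, nat_lit 5, nat_lit 0, nat_lit 0x352b4304b3ad02, nat_lit 0x542c2469d6658882, [], [], []⟩)) (.leaf ⟨nat_lit 0, nat_lit 1, nat_lit 1, nat_lit 0, nat_lit 0x1102b12925, nat_lit 0x22163504a3, [], [], []⟩)))) (.node (.node (.node (.node (.leaf ⟨nat_lit 2, nat_lit 0, nat_lit 0, nat_lit 7238, nat_lit 0, nat_lit 0, [], [], [nat_lit 0x3695a9308a23a4a3, nat_lit 0x1124a1530c323022]⟩) (.leaf ⟨nat_lit 0, nat_lit 1, nat_lit 1, nat_lit 0, nat_lit 0x1346562825330e1,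 nat_lit 0xa68d0d3a84810441, [], [], []⟩)) (.leaf ⟨nat_lit 0, nat_lit 1, nat_lit 1, nat_lit 0, nat_lit 0x26525a539c444acc2, nat_lit 0x125a81986a130ea, [], [], []⟩)) (.node (.node (.leaf ⟨nat_lit 0, nat_lit 1, nat_lit 1, nat_lit 0, nat_lit 0x411848414e4, nat_lit 0x53112919c65, [], [], []⟩) (.leaf ⟨nat_lit 1, nat_lit 3, nat_lit 3, nat_lit 0x434e9584ac408c3, nat_lit 0x1418a339cac31461, nat_lit 0x112923521ab3a985, [], [], []⟩)) (.leaf ⟨nat_lit 0, nat_lit 1, nat_lit 1, nat_lit 0, nat_lit 0x20da33090829d84, nat_lit 0x90e2334c322185, [], [], []⟩))) (.node (.node (.node (.leaf ⟨nat_lit 0, nat_lit 1, nat_lit 1, nat_lit 0, nat_lit 0x418a72988433082, nat_lit 0x50b5632b56751022, [], [], []⟩) (.leaf ⟨nat_lit 0, nat_lit 1, nat_lit 1, nat_lit 0, nat_lit 0x24994441044, nat_lit 0x51952559d03, [], [], []⟩)) (.leaf ⟨nat_lit 0, nat_lit 1, nat_lit 1, nat_lit 0, nat_lit 0x94ad4b1646218b, nat_lit 0x1205ab185a431501,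 [], [], []⟩)) (.node (.node (.leaf ⟨nat_lit 0, nat_lit 1, nat_lit 1, nat_lit 0, nat_lit 0x28ca8198c843162, nat_lit 0x1accd434a342c8c, [], [], []⟩) (.leaf ⟨nat_lit 1, nat_lit 6, nat_lit 5, nat_lit 0x135636a983224ca, nat_lit 0x128ce71b02840c81, nat_lit 0x5124466896642089, [], [], []⟩)) (.leaf ⟨nat_lit 0, nat_lit 1, nat_lit 1, nat_lit 0, nat_lit 0x9198485a0a2, nat_lit 0x32254919c48, [], [], []⟩))))

noncomputable def F10 : GT Fa := .node (.node (.node (.node (.node (.leaf ⟨nat_lit 2, nat_lit 0, nat_lit 0, nat_lit 9, nat_lit 0, nat_lit 0, [], [], [nat_lit 328, nat_lit 9, nat_lit 328]⟩) (.leaf ⟨nat_lit 0, nat_lit 1, nat_lit 1, nat_lit 0, nat_lit 0xb46d5846142ceb, nat_lit 0x2acc92346a32d82, [], [], []⟩)) (.leaf ⟨nat_lit 0, nat_lit 1, nat_lit 1, nat_lit 0, nat_lit 0xa1a167488e4, nat_lit 0x530d065244b, [], [], []⟩)) (.node (.node (.leaf ⟨nat_lit 0, nat_lit 1, nat_lit 1, nat_lit 0, nat_lit 0x152341d6253082,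 nat_lit 0x9d4d3a4c838d2b, [], [], []⟩) (.leaf ⟨nat_lit 0, nat_lit 2, nat_lit 2, nat_lit 0, nat_lit 0x139c4460cc438881, nat_lit 0x33092619da421d2a, [], [], []⟩)) (.leaf ⟨nat_lit 0, nat_lit 1, nat_lit 1, nat_lit 0, nat_lit 0x20d240888660482, nat_lit 0x2da36a0aa6146b, [], [], []⟩))) (.node (.node (.node (.leaf ⟨nat_lit 0, nat_lit 1, nat_lit 1, nat_lit 0, nat_lit 11306, nat_lit 11306, [], [], []⟩) (.leaf ⟨nat_lit 0, nat_lit 1, nat_lit 1, nat_lit 0, nat_lit 0x35a0834a8e1, nat_lit 0x132d022a542, [], [], []⟩)) (.leaf ⟨nat_lit 0, nat_lit 1, nat_lit 1, nat_lit 0, nat_lit 0x15076146b094e2, nat_lit 0x1395a431425, [], [], []⟩)) (.node (.node (.leaf ⟨nat_lit 0, nat_lit 1, nat_lit 1, nat_lit 0, nat_lit 0x5a5856110b, nat_lit 0x1111ab1a46662c24, [], [], []⟩) (.leaf ⟨nat_lit 0, nat_lit 5, nat_lit 5, nat_lit 0, nat_lit 0x255054120561, nat_lit 0x16a56369da20ace4, [], [], []⟩)) (.leaf ⟨nat_lit 0, nat_lit 1, nat_lit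 1, nat_lit 0, nat_lit 0xa8c3288e5, nat_lit 0x2186411d61, [], [], []⟩)))) (.node (.node (.node (.node (.leaf ⟨nat_lit 2, nat_lit 0, nat_lit 0, nat_lit 0x2220c320ce861182, nat_lit 0, nat_lit 0, [], [], [nat_lit 7270, nat_lit 0x494453256c0a8e3]⟩) (.leaf ⟨nat_lit 0, nat_lit 1, nat_lit 1, nat_lit 0, nat_lit 0x428ea1152b, nat_lit 0x5208359969, [], [], []⟩)) (.leaf ⟨nat_lit 0, nat_lit 1, nat_lit 1, nat_lit 0, nat_lit 0x6105aa198ac0a8c2, nat_lit 0x52b44a6a0c90a925, [], [], []⟩)) (.node (.node (.leaf ⟨nat_lit 0, nat_lit 1, nat_lit 1, nat_lit 0, nat_lit 0x259d223a0c4, nat_lit 0x53a4c341943, [], [], []⟩) (.leaf ⟨nat_lit 1, nat_lit 3, nat_lit 3, nat_lit 0x16a0a51912b62084, nat_lit 0x251da35090b310e2, nat_lit 0x1b54d3284a41c81, [], [], []⟩)) (.leaf ⟨nat_lit 0, nat_lit 1, nat_lit 1, nat_lit 0, nat_lit 0xb088c251962, nat_lit 0x351d6338c2a, [], [], []⟩))) (.node (.node (.node (.leaf ⟨nat_lit 0, nat_lit 1,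 nat_lit 1, nat_lit 0, nat_lit 0x2c8128484, nat_lit 0x14a1204aa, [], [], []⟩) (.leaf ⟨nat_lit 0, nat_lit 1, nat_lit 1, nat_lit 0, nat_lit 0x2b484a859d02, nat_lit 0x69329240a141, [], [], []⟩)) (.leaf ⟨nat_lit 0, nat_lit 1, nat_lit 1, nat_lit 0, nat_lit 0x218c61a163, nat_lit 0x1292239ce5, [], [], []⟩)) (.node (.node (.leaf ⟨nat_lit 0, nat_lit 1, nat_lit 1, nat_lit 0, nat_lit 0x44a88929d46, nat_lit 0x7598882ad05, [], [], []⟩) (.leaf ⟨nat_lit 1, nat_lit 6, nat_lit 6, nat_lit 0x298661b0e53b0a1, nat_lit 0x54a9271204c4a861, nat_lit 0x4a9071352249c48, [], [], []⟩)) (.leaf ⟨nat_lit 0, nat_lit 1, nat_lit 1, nat_lit 0, nat_lit 0x95a93a983420a8, nat_lit 0x12a5676ac6961d82, [], [], []⟩))))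

noncomputable def F11 : GT Fa := .node (.node (.node (.node (.node (.leaf ⟨nat_lit 2, nat_lit 0, nat_lit 0, nat_lit 0x32b082, nat_lit 0, nat_lit 0, [], [], [nat_lit 0xe90ad850a0e7]⟩) (.leaf ⟨nat_lit 0, nat_lit 1, nat_lit 1, nat_lit 0, nat_lit 0x2a310243ac64, nat_lit 0xa2518a129d61, [], [], []⟩)) (.leaf ⟨nat_lit 0, nat_lit 1, nat_lit 1, nat_lit 0, nat_lit 0x142649d665b082, nat_lit 0x4e5699073a469, [], [], []⟩)) (.node (.node (.leaf ⟨nat_lit 0, nat_lit 1, nat_lit 1, nat_lit 0, nat_lit 0x12341d6253082, nat_lit 0x9d41690c8284a8, [], [], []⟩) (.leaf ⟨nat_lit 0, nat_lit 2, nat_lit 2, nat_lit 0, nat_lit 0x234210720942, nat_lit 0x2208e95192361d24, [], [], []⟩)) (.leaf ⟨nat_lit 0, nat_lit 1, nat_lit 1, nat_lit 0, nat_lit 0x12b5425244150d82, nat_lit 0x58c28411a2624e4, [], [], []⟩))) (.node (.node (.node (.leaf ⟨nat_lit 0, nat_lit 1, nat_lit 1, nat_lit 0, nat_lit 0x1492110b, nat_lit 0x1492950b, [],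 [], []⟩) (.leaf ⟨nat_lit 0, nat_lit 1, nat_lit 1, nat_lit 0, nat_lit 0x81112548d21, nat_lit 0x14090441469, [], [], []⟩)) (.leaf ⟨nat_lit 0, nat_lit 1, nat_lit 1, nat_lit 0, nat_lit 0x64ac6b31962, nat_lit 0x351cea12907, [], [], []⟩)) (.node (.node (.leaf ⟨nat_lit 0, nat_lit 1, nat_lit 1, nat_lit 0, nat_lit 0x11906d395870a4e8, nat_lit 0x13b4cb4b544404a1, [], [], []⟩) (.leaf ⟨nat_lit 0, nat_lit 5, nat_lit 5, nat_lit 0, nat_lit 0x3344b0b0882a066, nat_lit 0x23252329c8c09461, [], [], []⟩)) (.leaf ⟨nat_lit 0, nat_lit 1, nat_lit 1, nat_lit 0, nat_lit 0x3308e41a844, nat_lit 0x51ac4530ce2, [], [], []⟩)))) (.node (.node (.node (.node (.leaf ⟨nat_lit 2, nat_lit 0, nat_lit 0, nat_lit 7270, nat_lit 0, nat_lit 0, [], [], [nat_lit 0x494453256c0a8e3, nat_lit 0x2220c320ce861182]⟩) (.leaf ⟨nat_lit 0, nat_lit 1, nat_lit 1, nat_lit 0, nat_lit 0xd49d2950d8151942, nat_lit 0x20566699a662c2b, [], [], []⟩)) (.leaf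 ⟨nat_lit 0, nat_lit 1, nat_lit 1, nat_lit 0, nat_lit 0x23428e15a441, nat_lit 0x23428265a441, [], [], []⟩)) (.node (.node (.leaf ⟨nat_lit 0, nat_lit 1, nat_lit 1, nat_lit 0, nat_lit 0x118508585223b082, nat_lit 0x159d2a391a83a823, [], [], []⟩) (.leaf ⟨nat_lit 1, nat_lit 3, nat_lit 3, nat_lit 0xb548429893ad04, nat_lit 0x29d013314361866, nat_lit 0x26a1462a9a158906, [], [], []⟩)) (.leaf ⟨nat_lit 0, nat_lit 1, nat_lit 1, nat_lit 0, nat_lit 0x96158443024, nat_lit 0x28448419a60a523, [], [], []⟩))) (.node (.node (.node (.leaf ⟨nat_lit 0, nat_lit 1, nat_lit 1, nat_lit 0, nat_lit 0x1ad25091064b082, nat_lit 0x330d0d49963218c2, [], [], []⟩) (.leaf ⟨nat_lit 0, nat_lit 1, nat_lit 1, nat_lit 0, nat_lit 0x22308e920923, nat_lit 0x481950619c61, [], [], []⟩)) (.leaf ⟨nat_lit 0, nat_lit 1, nat_lit 1, nat_lit 0, nat_lit 0x2508a351963, nat_lit 0x251d6220d63, [], [], []⟩)) (.node (.node (.leaf ⟨nat_lit 0, nat_lit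 1, nat_lit 1, nat_lit 0, nat_lit 0x44090441469, nat_lit 0x81112548d25, [], [], []⟩) (.leaf ⟨nat_lit 1, nat_lit 6, nat_lit 6, nat_lit 0x1a0666990a30d48, nat_lit 0xb4e83946c1984a, nat_lit 0x51ad06409a2610e1, [], [], []⟩)) (.leaf ⟨nat_lit 0, nat_lit 1, nat_lit 1, nat_lit 0, nat_lit 0x91986a18506, nat_lit 0x74844b11c48, [], [], []⟩))))

noncomputable def F12 : GT Fa := .node (.node (.node (.node (.node (.leaf ⟨nat_lit 0, nat_lit 0, nat_lit 0, nat_lit 0, nat_lit 0xc64848d50506, nat_lit 0xe90ad850a0e7, [], [], []⟩) (.leaf ⟨nat_lit 0, nat_lit 1, nat_lit 1, nat_lit 0, nat_lit 0x254894951c61, nat_lit 0x2232d0b1a081, [], [], []⟩)) (.leaf ⟨nat_lit 0, nat_lit 1, nat_lit 1, nat_lit 0, nat_lit 0x3405674a58b0a904, nat_lit 0x528548235493a8eb, [], [], []⟩)) (.node (.node (.leaf ⟨nat_lit 0, nat_lit 1, nat_lit 1, nat_lit 0, nat_lit 1156, nat_lit 5281, [], [], []⟩) (.leaf ⟨nat_lit 0, nat_lit 2, nat_lit 2, nat_lit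 0, nat_lit 0x25204b38924, nat_lit 0x3205a93a92423101, [], [], []⟩)) (.leaf ⟨nat_lit 0, nat_lit 1, nat_lit 1, nat_lit 0, nat_lit 0x6a8c94a92c2a422, nat_lit 0x36a1424202a60944, [], [], []⟩))) (.node (.node (.node (.leaf ⟨nat_lit 0, nat_lit 0, nat_lit 0, nat_lit 0, nat_lit 0x50ad2d1b4c42192b, nat_lit 0xa41ca53b04c42824, [], [], []⟩) (.leaf ⟨nat_lit 0, nat_lit 1, nat_lit 1, nat_lit 0, nat_lit 0x51a0c111902, nat_lit 0x349c613a444, [], [], []⟩)) (.leaf ⟨nat_lit 0, nat_lit 1, nat_lit 1, nat_lit 0, nat_lit 0x14232b082, nat_lit 0x1944619942610c4, [], [], []⟩)) (.node (.node (.leaf ⟨nat_lit 0, nat_lit 1, nat_lit 1, nat_lit 0, nat_lit 0x481994340901, nat_lit 0x291a44b38923, [], [], []⟩) (.leaf ⟨nat_lit 0, nat_lit 5, nat_lit 5, nat_lit 0, nat_lit 0x8121025, nat_lit 0x644b4cd509840a561, [], [], []⟩)) (.leaf ⟨nat_lit 0, nat_lit 1, nat_lit 1, nat_lit 0, nat_lit 0x1a0a94a86c41901, nat_lit 0x26946d40ce922183,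 [], [], []⟩)))) (.node (.node (.node (.node (.leaf ⟨nat_lit 0, nat_lit 1, nat_lit 1, nat_lit 0, nat_lit 0x2390485a048, nat_lit 0x91a549194c3, [], [], []⟩) (.leaf ⟨nat_lit 0, nat_lit 1, nat_lit 1, nat_lit 0, nat_lit 0x994958c25, nat_lit 0x2044a42ce1, [], [], []⟩)) (.leaf ⟨nat_lit 0, nat_lit 1, nat_lit 1, nat_lit 0, nat_lit 0x23904928444, nat_lit 0x518488194c3, [], [], []⟩)) (.node (.node (.leaf ⟨nat_lit 0, nat_lit 1, nat_lit 1, nat_lit 0, nat_lit 0x146858c24, nat_lit 0x142252444, [], [], []⟩) (.leaf ⟨nat_lit 1, nat_lit 3, nat_lit 3, nat_lit 0x2a1475310411423, nat_lit 0x38d0d2198262987, nat_lit 0x9262a0e33b0c6, [], [], []⟩)) (.leaf ⟨nat_lit 0, nat_lit 1, nat_lit 1, nat_lit 0, nat_lit 0x19d4259ca9, nat_lit 0x410ca1acc2, [], [], []⟩))) (.node (.node (.node (.leaf ⟨nat_lit 0, nat_lit 1, nat_lit 1, nat_lit 0, nat_lit 0x11290818522, nat_lit 0x3404494ac61, [], [], []⟩) (.leaf ⟨nat_lit 0, nat_lit 1,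 nat_lit 1, nat_lit 0, nat_lit 0x24a865488c4, nat_lit 0x538d0412d03, [], [], []⟩)) (.leaf ⟨nat_lit 0, nat_lit 1, nat_lit 1, nat_lit 0, nat_lit 0x14090831828, nat_lit 0x909ce948d21, [], [], []⟩)) (.node (.node (.leaf ⟨nat_lit 0, nat_lit 1, nat_lit 1, nat_lit 0, nat_lit 0x411966320c1, nat_lit 0x13a4e751c65, [], [], []⟩) (.leaf ⟨nat_lit 1, nat_lit 6, nat_lit 6, nat_lit 0x208876218232ce4, nat_lit 0x9cad1108121867, nat_lit 0x50a4cb4a9a928921, [], [], []⟩)) (.leaf ⟨nat_lit 0, nat_lit 1, nat_lit 1, nat_lit 0, nat_lit 0xa0c66992c318c5, nat_lit 0x285086a90a61c84, [], [], []⟩))))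

noncomputable def F13 : GT Fa := .node (.node (.node (.node (.node (.leaf ⟨nat_lit 0, nat_lit 1, nat_lit 1, nat_lit 0, nat_lit 0x32b082, nat_lit 0xc64848d50506, [], [], []⟩) (.leaf ⟨nat_lit 0, nat_lit 1, nat_lit 1, nat_lit 0, nat_lit 0x528d0a3ad22, nat_lit 0x3428cb48884, [], [], []⟩)) (.leaf ⟨nat_lit 0, nat_lit 1, nat_lit 1, nat_lit 0, nat_lit 0x1290818522, nat_lit 0x1a0224a563, [], [], []⟩)) (.node (.node (.leaf ⟨nat_lit 0, nat_lit 1, nat_lit 1, nat_lit 0, nat_lit 0x58ca949d27, nat_lit 0x320c84104a, [], [], []⟩) (.leaf ⟨nat_lit 0, nat_lit 2, nat_lit 2, nat_lit 0, nat_lit 0x33892141d63, nat_lit 0x34ad026a44460941, [], [], []⟩)) (.leaf ⟨nat_lit 0, nat_lit 1, nat_lit 1, nat_lit 0, nat_lit 0x73a92308922, nat_lit 0x340c2242cc6, [], [], []⟩))) (.node (.node (.node (.leaf ⟨nat_lit 1, nat_lit 1, nat_lit 1, nat_lit 0x6524eb609892a081, nat_lit 0x6158ce2, nat_lit 0x5104a768da158465, [], [], []⟩) (.leaf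 ⟨nat_lit 0, nat_lit 1, nat_lit 1, nat_lit 0, nat_lit 0xa52a3210b3b082, nat_lit 0x9cad40d05128e2, [], [], []⟩)) (.leaf ⟨nat_lit 0, nat_lit 1, nat_lit 1, nat_lit 0, nat_lit 0x3958431081, nat_lit 0xa46832ced0ac41, [], [], []⟩)) (.node (.node (.leaf ⟨nat_lit 0, nat_lit 1, nat_lit 1, nat_lit 0, nat_lit 0xacc3508e4, nat_lit 0x2986b11d41, [], [], []⟩) (.leaf ⟨nat_lit 1, nat_lit 5, nat_lit 4, nat_lit 0x30b50d598654a841, nat_lit 0xd4906b11d8421d41, nat_lit 0x1a52308dab43127, [], [], []⟩)) (.leaf ⟨nat_lit 0, nat_lit 1, nat_lit 1, nat_lit 0, nat_lit 0x4120d6932041, nat_lit 0x2349d0a11423, [], [], []⟩)))) (.node (.node (.node (.node (.leaf ⟨nat_lit 0, nat_lit 1, nat_lit 1, nat_lit 0, nat_lit 0x44ad0d21d4140ca2, nat_lit 0x292d3204b60969, [], [], []⟩) (.leaf ⟨nat_lit 0, nat_lit 1, nat_lit 1, nat_lit 0, nat_lit 0x4284b4986a, nat_lit 0x588e850d69, [], [], []⟩)) (.leaf ⟨nat_lit 0, nat_lit 1, nat_lit 1, nat_lit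 0, nat_lit 0x4950d2256820884, nat_lit 0x1484ad4152158d41, [], [], []⟩)) (.node (.node (.leaf ⟨nat_lit 0, nat_lit 1, nat_lit 1, nat_lit 0, nat_lit 0x218870a522, nat_lit 0x1a101314e5, [], [], []⟩) (.leaf ⟨nat_lit 1, nat_lit 3, nat_lit 3, nat_lit 0x9a62a5830ad83, nat_lit 0x504883312b41441, nat_lit 0x1118ad1a1a959c82, [], [], []⟩)) (.leaf ⟨nat_lit 0, nat_lit 1, nat_lit 1, nat_lit 0, nat_lit 0x205035994343162, nat_lit 0x1395a83944142823, [], [], []⟩))) (.node (.node (.node (.leaf ⟨nat_lit 0, nat_lit 1, nat_lit 1, nat_lit 0, nat_lit 0x348cca0a0c1, nat_lit 0x13a42b38902, [], [], []⟩) (.leaf ⟨nat_lit 0, nat_lit 1, nat_lit 1, nat_lit 0, nat_lit 0x3318a248d02, nat_lit 0x34890321ce2, [], [], []⟩)) (.leaf ⟨nat_lit 0, nat_lit 1, nat_lit 1, nat_lit 0, nat_lit 0x34112419d21, nat_lit 0x14184541522, [], [], []⟩)) (.node (.node (.leaf ⟨nat_lit 0, nat_lit 1, nat_lit 1, nat_lit 0, nat_lit 0x2163504a3, nat_lit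 0x88158949, [], [], []⟩) (.leaf ⟨nat_lit 1, nat_lit 4, nat_lit 6, nat_lit 0x2346a40d8220563, nat_lit 0x1b523695246210a, nat_lit 0xda858cc92206b, [], [], []⟩)) (.leaf ⟨nat_lit 0, nat_lit 1, nat_lit 1, nat_lit 0, nat_lit 0x1324eb32c82, nat_lit 0x32a8ea320e1, [], [], []⟩))))

noncomputable def F14 : GT Fa := .node (.node (.node (.node (.node (.leaf ⟨nat_lit 2, nat_lit 0, nat_lit 0, nat_lit 0x346612822, nat_lit 0, nat_lit 0, [], [], [nat_lit 0x6612822, nat_lit 0x6612822]⟩) (.leaf ⟨nat_lit 0, nat_lit 1, nat_lit 1, nat_lit 0, nat_lit 0xb30ca23ac24, nat_lit 0x50a8c3208ea, [], [], []⟩)) (.leaf ⟨nat_lit 0, nat_lit 1, nat_lit 1, nat_lit 0, nat_lit 0x1a1055252a33162, nat_lit 0x8cc25b4494b0ca, [], [], []⟩)) (.node (.node (.leaf ⟨nat_lit 0, nat_lit 1, nat_lit 1, nat_lit 0, nat_lit 0x22942842cc9, nat_lit 0x83a92909083, [], [], []⟩) (.leaf ⟨nat_lit 2, nat_lit 0, nat_lit 0, nat_lit 6531, nat_lit 0, nat_lit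 0, [], [], [nat_lit 0xb418a56184740ce2, nat_lit 2471, nat_lit 0x128cc5389a5198c1]⟩)) (.leaf ⟨nat_lit 0, nat_lit 1, nat_lit 1, nat_lit 0, nat_lit 0x3328c232446, nat_lit 0x71a0e33ace2, [], [], []⟩))) (.node (.node (.node (.leaf ⟨nat_lit 2, nat_lit 0, nat_lit 0, nat_lit 0x6524eb609892a081, nat_lit 0, nat_lit 0, [], [], [nat_lit 0x4105416098620464, nat_lit 0x6612822]⟩) (.leaf ⟨nat_lit 0, nat_lit 1, nat_lit 1, nat_lit 0, nat_lit 0x650a16240562, nat_lit 0x6a0a46a48482, [], [], []⟩)) (.leaf ⟨nat_lit 0, nat_lit 1, nat_lit 1, nat_lit 0, nat_lit 0x2a41ce3388c4, nat_lit 0xa71984632561, [], [], []⟩)) (.node (.node (.leaf ⟨nat_lit 1, nat_lit 1, nat_lit 1, nat_lit 0x428c962148308c2, nat_lit 0x3219ab3ad2b4ac83, nat_lit 0x1c443a1ab42905, [], [], []⟩) (.leaf ⟨nat_lit 0, nat_lit 5, nat_lit 5, nat_lit 0, nat_lit 0xb0ad02431082b024, nat_lit 0x55852911901, [], [], []⟩)) (.leaf ⟨nat_lit 0, nat_lit 1, nat_lit 1,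 nat_lit 0, nat_lit 0x244082a1308952101, nat_lit 0x5a5129a968884, [], [], []⟩)))) (.node (.node (.node (.node (.leaf ⟨nat_lit 0, nat_lit 1, nat_lit 1, nat_lit 0, nat_lit 0x408e430561, nat_lit 0xa82729869, [], [], []⟩) (.leaf ⟨nat_lit 0, nat_lit 1, nat_lit 1, nat_lit 0, nat_lit 0x1c4a32448, nat_lit 0x24683ac66, [], [], []⟩)) (.leaf ⟨nat_lit 0, nat_lit 1, nat_lit 1, nat_lit 0, nat_lit 0x16409424, nat_lit 0xa1204aa, [], [], []⟩)) (.node (.node (.leaf ⟨nat_lit 0, nat_lit 1, nat_lit 1, nat_lit 0, nat_lit 0x195293a4eb, nat_lit 0x5190642082, [], [], []⟩) (.leaf ⟨nat_lit 1, nat_lit 3, nat_lit 3, nat_lit 0x140569388c6610c1, nat_lit 0x20d2d3910760982, nat_lit 0xd32d0511d8540c81, [], [], []⟩)) (.leaf ⟨nat_lit 0, nat_lit 1, nat_lit 1, nat_lit 0, nat_lit 0x51ac4510522, nat_lit 0x3404641a844, [], [], []⟩))) (.node (.node (.node (.leaf ⟨nat_lit 0, nat_lit 1, nat_lit 1, nat_lit 0, nat_lit 0xa342c61, nat_lit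 0x2252444, [], [], []⟩) (.leaf ⟨nat_lit 0, nat_lit 1, nat_lit 1, nat_lit 0, nat_lit 0xa0ac8150541, nat_lit 0x1585612a82b, [], [], []⟩)) (.leaf ⟨nat_lit 0, nat_lit 1, nat_lit 1, nat_lit 0, nat_lit 0x2a82b1298910541, nat_lit 0x28da9494c6114c1, [], [], []⟩)) (.node (.node (.leaf ⟨nat_lit 0, nat_lit 1, nat_lit 1, nat_lit 0, nat_lit 0x4a4a33854c32844, nat_lit 0x14052b68d48608c1, [], [], []⟩) (.leaf ⟨nat_lit 1, nat_lit 6, nat_lit 6, nat_lit 0x168da858d48118a3, nat_lit 0x48d682a1833a561, nat_lit 0x134eb69ca743047, [], [], []⟩)) (.leaf ⟨nat_lit 0, nat_lit 1, nat_lit 1, nat_lit 0, nat_lit 0x6198693892b, nat_lit 0xa40cc811c47, [], [], []⟩))))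

noncomputable def F15 : GT Fa := .node (.node (.node (.node (.node (.leaf ⟨nat_lit 2, nat_lit 0, nat_lit 0, nat_lit 0x6158ce2, nat_lit 0, nat_lit 0, [], [], [nat_lit 0x6158ce2, nat_lit 0xc2b19c4c]⟩) (.leaf ⟨nat_lit 0, nat_lit 1, nat_lit 1, nat_lit 0, nat_lit 0x71a4a241523, nat_lit 0x24112322046, [], [], []⟩)) (.leaf ⟨nat_lit 0, nat_lit 1, nat_lit 1, nat_lit 0, nat_lit 0x21c864a4c543082, nat_lit 0x1395a241c4159ce1, [], [], []⟩)) (.node (.node (.leaf ⟨nat_lit 0, nat_lit 1, nat_lit 1, nat_lit 0, nat_lit 0x234284912c24, nat_lit 0xa150d035a441, [], [], []⟩) (.leaf ⟨nat_lit 2, nat_lit 0, nat_lit 0, nat_lit 0x128cc5389a5198c1, nat_lit 0, nat_lit 0, [], [], [nat_lit 6531, nat_lit 0xb418a56184740ce2, nat_lit 2471]⟩)) (.leaf ⟨nat_lit 0, nat_lit 1, nat_lit 1, nat_lit 0, nat_lit 0xd4619ce22b082, nat_lit 0x1a9a23ac4d2a447, [], [], []⟩))) (.node (.node (.node (.leaf ⟨nat_lit 2, nat_lit 0, nat_lit 0, nat_lit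 0x5104a768da158465, nat_lit 0, nat_lit 0, [], [], [nat_lit 0x12a48868daa32167, nat_lit 0x6158ce2]⟩) (.leaf ⟨nat_lit 0, nat_lit 1, nat_lit 1, nat_lit 0, nat_lit 0x5410ca1acc2, nat_lit 0x33a84b39524, [], [], []⟩)) (.leaf ⟨nat_lit 0, nat_lit 1, nat_lit 1, nat_lit 0, nat_lit 0x98c321d8a20482, nat_lit 0x30892b6990a0a0e2, [], [], []⟩)) (.node (.node (.leaf ⟨nat_lit 2, nat_lit 0, nat_lit 0, nat_lit 0x428c962148308c2, nat_lit 0, nat_lit 0, [], [], [nat_lit 0x112b4a98931466, nat_lit 0x22a90a428ca61ca2]⟩) (.leaf ⟨nat_lit 1, nat_lit 2, nat_lit 5, nat_lit 0x9198a94b0a81a061, nat_lit 0x1221461208c40484, nat_lit 0x68298a36892349861, [], [], []⟩)) (.leaf ⟨nat_lit 0, nat_lit 1, nat_lit 1, nat_lit 0, nat_lit 0x1a90b320eb1b082, nat_lit 0x152567205a9310e3, [], [], []⟩)))) (.node (.node (.node (.node (.leaf ⟨nat_lit 0, nat_lit 1, nat_lit 1, nat_lit 0, nat_lit 0x1a8c339c65, nat_lit 0x208c611d62, [], [], []⟩) (.leaf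 ⟨nat_lit 0, nat_lit 1, nat_lit 1, nat_lit 0, nat_lit 0x11a98362422, nat_lit 0x29929694ad420ec, [], [], []⟩)) (.leaf ⟨nat_lit 0, nat_lit 1, nat_lit 1, nat_lit 0, nat_lit 0x56409424, nat_lit 0x142409541, [], [], []⟩)) (.node (.node (.leaf ⟨nat_lit 0, nat_lit 1, nat_lit 1, nat_lit 0, nat_lit 0x588e111d62, nat_lit 0x1a8c30986a, [], [], []⟩) (.leaf ⟨nat_lit 1, nat_lit 1, nat_lit 4, nat_lit 6, nat_lit 0, nat_lit 0, [], [], []⟩)) (.leaf ⟨nat_lit 0, nat_lit 1, nat_lit 1, nat_lit 0, nat_lit 0x89625204813162, nat_lit 0x3a48d420a2220a1, [], [], []⟩))) (.node (.node (.node (.leaf ⟨nat_lit 0, nat_lit 1, nat_lit 1, nat_lit 0, nat_lit 0x30963490c933162, nat_lit 0x9d4d4a46a0a8c9, [], [], []⟩) (.leaf ⟨nat_lit 0, nat_lit 1, nat_lit 1, nat_lit 0, nat_lit 0x25252949c22, nat_lit 0x30990842163, [], [], []⟩)) (.leaf ⟨nat_lit 0, nat_lit 1, nat_lit 1, nat_lit 0, nat_lit 0x11848414e4, nat_lit 0x2988948ce3, [], [],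 []⟩)) (.node (.node (.leaf ⟨nat_lit 0, nat_lit 1, nat_lit 1, nat_lit 0, nat_lit 0x94cb1952b60562, nat_lit 0x9c8159ce762562, [], [], []⟩) (.leaf ⟨nat_lit 1, nat_lit 6, nat_lit 5, nat_lit 0x2308c93856c0acc1, nat_lit 0x2a0e959d894a4e8, nat_lit 0x3499a5524c62b025, [], [], []⟩)) (.leaf ⟨nat_lit 0, nat_lit 1, nat_lit 1, nat_lit 0, nat_lit 0x8124ea48901, nat_lit 0x148d0b32069, [], [], []⟩))))

noncomputable def F16 : GT Fa := .node (.node (.node (.node (.node (.leaf ⟨nat_lit 2, nat_lit 0, nat_lit 0, nat_lit 0x6158ce2, nat_lit 0, nat_lit 0, [], [], [nat_lit 0xc2b19c4c, nat_lit 0x6158ce2]⟩) (.leaf ⟨nat_lit 0, nat_lit 1, nat_lit 1, nat_lit 0, nat_lit 0x871a4a241523, nat_lit 0x4822464408c5, [], [], []⟩)) (.leaf ⟨nat_lit 0, nat_lit 1, nat_lit 1, nat_lit 0, nat_lit 0x111241284953082, nat_lit 0x330d0d521493a423, [], [], []⟩)) (.node (.node (.leaf ⟨nat_lit 0, nat_lit 1, nat_lit 1, nat_lit 0, nat_lit 0x19ce71316352423,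 nat_lit 0xc5325616a823, [], [], []⟩) (.leaf ⟨nat_lit 1, nat_lit 2, nat_lit 2, nat_lit 0x5a424624cc19504, nat_lit 0x391a92a52962482, nat_lit 0x4a8480a92c1a422, [], [], []⟩)) (.leaf ⟨nat_lit 0, nat_lit 1, nat_lit 1, nat_lit 0, nat_lit 0xca8198c843162, nat_lit 0x9d4d1944418547, [], [], []⟩))) (.node (.node (.node (.leaf ⟨nat_lit 2, nat_lit 0, nat_lit 0, nat_lit 0x6158ce2, nat_lit 0, nat_lit 0, [], [], [nat_lit 0x5104a768da158465, nat_lit 0x12a48868daa32167]⟩) (.leaf ⟨nat_lit 0, nat_lit 1, nat_lit 1, nat_lit 0, nat_lit 0x50cc5394e7, nat_lit 0x3188621c4b, [], [], []⟩)) (.leaf ⟨nat_lit 0, nat_lit 1, nat_lit 1, nat_lit 0, nat_lit 0x23248758966, nat_lit 0x750d462a0e3, [], [], []⟩)) (.node (.node (.leaf ⟨nat_lit 2, nat_lit 0, nat_lit 0, nat_lit 0x112b4a98931466, nat_lit 0, nat_lit 0, [], [], [nat_lit 0x22a90a428ca61ca2, nat_lit 0x428c962148308c2]⟩) (.leaf ⟨nat_lit 1, nat_lit 5, nat_lit 3, nat_lit 0x223a1482b0ec388a3,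 nat_lit 0x2c6b494c32b0cc, nat_lit 0x53112d585070892b, [], [], []⟩)) (.leaf ⟨nat_lit 0, nat_lit 1, nat_lit 1, nat_lit 0, nat_lit 0x9ca1598894b162, nat_lit 0x9cad320e729d46, [], [], []⟩)))) (.node (.node (.node (.node (.leaf ⟨nat_lit 0, nat_lit 1, nat_lit 1, nat_lit 0, nat_lit 0x91a549194c3, nat_lit 0x2390485a048, [], [], []⟩) (.leaf ⟨nat_lit 0, nat_lit 1, nat_lit 1, nat_lit 0, nat_lit 0x408e432c24, nat_lit 0x2854729869, [], [], []⟩)) (.leaf ⟨nat_lit 0, nat_lit 1, nat_lit 1, nat_lit 0, nat_lit 0x2856409424, nat_lit 0x284812a824, [], [], []⟩)) (.node (.node (.leaf ⟨nat_lit 0, nat_lit 1, nat_lit 1, nat_lit 0, nat_lit 0x5050d40d8b31502, nat_lit 0x699496a8c250963, [], [], []⟩) (.leaf ⟨nat_lit 0, nat_lit 4, nat_lit 4, nat_lit 0, nat_lit 0x64b10632d84, nat_lit 0x910368d6822082, [], [], []⟩)) (.leaf ⟨nat_lit 0, nat_lit 1, nat_lit 1, nat_lit 0, nat_lit 0x50b12c2b088, nat_lit 0x12106690e40a521, [], [],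 []⟩))) (.node (.node (.node (.leaf ⟨nat_lit 0, nat_lit 1, nat_lit 1, nat_lit 0, nat_lit 0xa1a04560d8840ce3, nat_lit 0x340d6d489aa20484, [], [], []⟩) (.leaf ⟨nat_lit 1, nat_lit 1, nat_lit 2, nat_lit 6531, nat_lit 0, nat_lit 0, [], [], []⟩)) (.leaf ⟨nat_lit 0, nat_lit 1, nat_lit 1, nat_lit 0, nat_lit 0x50dab308c33b04a, nat_lit 0x34844d309694ad82, [], [], []⟩)) (.node (.node (.leaf ⟨nat_lit 0, nat_lit 1, nat_lit 1, nat_lit 0, nat_lit 0x11c4140cc44b082, nat_lit 0x8d623b52648567, [], [], []⟩) (.leaf ⟨nat_lit 1, nat_lit 6, nat_lit 6, nat_lit 0x329d423b0ca3b123, nat_lit 0x3a1080910862903, nat_lit 0x30a1a369c881a102, [], [], []⟩)) (.leaf ⟨nat_lit 0, nat_lit 1, nat_lit 1, nat_lit 0, nat_lit 0x1a86b4304b1a182, nat_lit 0x23a5a26a90c18522, [], [], []⟩))))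

noncomputable def F17 : GT Fa := .node (.node (.node (.node (.node (.leaf ⟨nat_lit 2, nat_lit 0, nat_lit 0, nat_lit 0xc2b19c4c, nat_lit 0, nat_lit 0, [], [], [nat_lit 0x6158ce2, nat_lit 0x6158ce2]⟩) (.leaf ⟨nat_lit 0, nat_lit 1, nat_lit 1, nat_lit 0, nat_lit 0x72192612101, nat_lit 0x14a46741ca6, [], [], []⟩)) (.leaf ⟨nat_lit 0, nat_lit 1, nat_lit 1, nat_lit 0, nat_lit 0x199680890323082, nat_lit 0x9cad18568308e2, [], [], []⟩)) (.node (.node (.leaf ⟨nat_lit 0, nat_lit 1, nat_lit 1, nat_lit 0, nat_lit 0x149c661a0665b082, nat_lit 0x195a5320654b141, [], [], []⟩) (.leaf ⟨nat_lit 1, nat_lit 2, nat_lit 2, nat_lit 0x329291198631424, nat_lit 0xa30c833b084198c2, nat_lit 0x5584ab, [], [], []⟩)) (.leaf ⟨nat_lit 0, nat_lit 1, nat_lit 1, nat_lit 0, nat_lit 0x5848120484, nat_lit 0x294250942a, [], [], []⟩))) (.node (.node (.node (.leaf ⟨nat_lit 0, nat_lit 1, nat_lit 1, nat_lit 0, nat_lit 0x12107524a91b162,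 nat_lit 0x9d4d3090b11c65, [], [], []⟩) (.leaf ⟨nat_lit 0, nat_lit 1, nat_lit 1, nat_lit 0, nat_lit 0x23a44728544, nat_lit 0x5584861a0c3, [], [], []⟩)) (.leaf ⟨nat_lit 0, nat_lit 1, nat_lit 1, nat_lit 0, nat_lit 0x1a4cb4102b13082, nat_lit 0x13a9a9220a351d63, [], [], []⟩)) (.node (.node (.leaf ⟨nat_lit 2, nat_lit 0, nat_lit 0, nat_lit 0x22a90a428ca61ca2, nat_lit 0, nat_lit 0, [], [], [nat_lit 0x428c962148308c2, nat_lit 0x112b4a98931466]⟩) (.leaf ⟨nat_lit 1, nat_lit 5, nat_lit 5, nat_lit 0x8310ed3090252521, nat_lit 0x5390c9604a660544, nat_lit 0x20ad485a83106b, [], [], []⟩)) (.leaf ⟨nat_lit 0, nat_lit 1, nat_lit 1, nat_lit 0, nat_lit 0x112341d6253082, nat_lit 0x9d4d30d251a4a3, [], [], []⟩)))) (.node (.node (.node (.node (.leaf ⟨nat_lit 0, nat_lit 1, nat_lit 1, nat_lit 0, nat_lit 0x232b082, nat_lit 0xca230cca13086, [], [], []⟩) (.leaf ⟨nat_lit 0, nat_lit 1, nat_lit 1, nat_lit 0, nat_lit 0x346b12cc962444,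 nat_lit 0x518cd134e119cea, [], [], []⟩)) (.leaf ⟨nat_lit 0, nat_lit 1, nat_lit 1, nat_lit 0, nat_lit 0x551841198cb, nat_lit 0xa39c4119d64, [], [], []⟩)) (.node (.node (.leaf ⟨nat_lit 0, nat_lit 1, nat_lit 1, nat_lit 0, nat_lit 0x4b32824394e2, nat_lit 0x66218a159d43, [], [], []⟩) (.leaf ⟨nat_lit 0, nat_lit 4, nat_lit 4, nat_lit 0, nat_lit 0x121c414302542823, nat_lit 0x2acc968cc341d0a, [], [], []⟩)) (.leaf ⟨nat_lit 0, nat_lit 1, nat_lit 1, nat_lit 0, nat_lit 0x205461ac47, nat_lit 0x30d423ac25, [], [], []⟩))) (.node (.node (.node (.leaf ⟨nat_lit 0, nat_lit 1, nat_lit 1, nat_lit 0, nat_lit 0xb30ca832922, nat_lit 0x342ce9208ea, [], [], []⟩) (.leaf ⟨nat_lit 0, nat_lit 2, nat_lit 2, nat_lit 0, nat_lit 0x128c882b12449581, nat_lit 0x20daa698c922483, [], [], []⟩)) (.leaf ⟨nat_lit 0, nat_lit 1, nat_lit 1, nat_lit 0, nat_lit 0x149d2d12d0822444, nat_lit 0x30ac253b46821926, [], [], []⟩)) (.node (.node (.leaf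 ⟨nat_lit 0, nat_lit 1, nat_lit 1, nat_lit 0, nat_lit 0x108120564, nat_lit 0x1541284a5, [], [], []⟩) (.leaf ⟨nat_lit 1, nat_lit 4, nat_lit 6, nat_lit 0x30a5a53306159d02, nat_lit 0x1104474312359102, nat_lit 0x9d253254d1b0c3, [], [], []⟩)) (.leaf ⟨nat_lit 0, nat_lit 1, nat_lit 1, nat_lit 0, nat_lit 0x712d23328c3, nat_lit 0x23ace242866, [], [], []⟩))))

noncomputable def F18 : GT Fa := .node (.node (.node (.node (.node (.leaf ⟨nat_lit 0, nat_lit 1, nat_lit 1, nat_lit 0, nat_lit 0x1584861a0c3, nat_lit 0x23a44728541, [], [], []⟩) (.leaf ⟨nat_lit 0, nat_lit 1, nat_lit 1, nat_lit 0, nat_lit 0x272192612101, nat_lit 0x2948ce8394c1, [], [], []⟩)) (.leaf ⟨nat_lit 0, nat_lit 1, nat_lit 1, nat_lit 0, nat_lit 1153, nat_lit 1185, [], [], []⟩)) (.node (.node (.leaf ⟨nat_lit 0, nat_lit 1, nat_lit 1, nat_lit 0, nat_lit 0x509c4a32448, nat_lit 0x91a0eb19824, [], [], []⟩) (.leaf ⟨nat_lit 1, nat_lit 1, nat_lit 3,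 nat_lit 2, nat_lit 0, nat_lit 0, [], [], []⟩)) (.leaf ⟨nat_lit 0, nat_lit 1, nat_lit 1, nat_lit 0, nat_lit 0x324eb32c82, nat_lit 0x1954751907, [], [], []⟩))) (.node (.node (.node (.leaf ⟨nat_lit 0, nat_lit 1, nat_lit 1, nat_lit 0, nat_lit 0x9691a81b16622523, nat_lit 0x5284ab68d0c50922, [], [], []⟩) (.leaf ⟨nat_lit 0, nat_lit 1, nat_lit 1, nat_lit 0, nat_lit 0x159841198cb, nat_lit 0xa39c4119d41, [], [], []⟩)) (.leaf ⟨nat_lit 0, nat_lit 1, nat_lit 1, nat_lit 0, nat_lit 0x7499a362d2242d02, nat_lit 0x3421043a9a908984, [], [], []⟩)) (.node (.node (.leaf ⟨nat_lit 2, nat_lit 0, nat_lit 0, nat_lit 0x19c674ad2d41d69, nat_lit 0, nat_lit 0, [], [], [nat_lit 0x3219ab3ad2b4ac83, nat_lit 0x1c443a1ab42905]⟩) (.leaf ⟨nat_lit 1, nat_lit 5, nat_lit 3, nat_lit 0x1428474b1062a4c4, nat_lit 0x35494b0eb230ea, nat_lit 0x286a9a859d8b32921, [], [], []⟩)) (.leaf ⟨nat_lit 0, nat_lit 1, nat_lit 1, nat_lit 0, nat_lit 0x30c292054933162,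 nat_lit 0x13a9a82a0c9508a2, [], [], []⟩)))) (.node (.node (.node (.node (.leaf ⟨nat_lit 0, nat_lit 1, nat_lit 1, nat_lit 0, nat_lit 0x1a0693ac865b082, nat_lit 0x13a9a64a92621921, [], [], []⟩) (.leaf ⟨nat_lit 0, nat_lit 1, nat_lit 1, nat_lit 0, nat_lit 0x3418c112088, nat_lit 0x92a46139d22, [], [], []⟩)) (.leaf ⟨nat_lit 0, nat_lit 1, nat_lit 1, nat_lit 0, nat_lit 0x946d40d6c42ce1, nat_lit 0x1a9a7128e741d81, [], [], []⟩)) (.node (.node (.leaf ⟨nat_lit 0, nat_lit 1, nat_lit 1, nat_lit 0, nat_lit 0x394263092333162, nat_lit 0x9cad524612852a, [], [], []⟩) (.leaf ⟨nat_lit 0, nat_lit 4, nat_lit 4, nat_lit 0, nat_lit 0x3308cd588ea11581, nat_lit 0x1350b4b52a498c1, [], [], []⟩)) (.leaf ⟨nat_lit 0, nat_lit 1, nat_lit 1, nat_lit 0, nat_lit 0x61952b3a061, nat_lit 0x1124ca41047, [], [], []⟩))) (.node (.node (.node (.leaf ⟨nat_lit 0, nat_lit 1, nat_lit 1, nat_lit 0, nat_lit 0x94e52852643082, nat_lit 0x9cad21c4438d21,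 [], [], []⟩) (.leaf ⟨nat_lit 0, nat_lit 2, nat_lit 2, nat_lit 0, nat_lit 0x2c283b06842d2a, nat_lit 0x1b46119c86610c8, [], [], []⟩)) (.leaf ⟨nat_lit 0, nat_lit 1, nat_lit 1, nat_lit 0, nat_lit 0x369c611ad0c390c2, nat_lit 0x1505a51b4c621c47, [], [], []⟩)) (.node (.node (.leaf ⟨nat_lit 0, nat_lit 1, nat_lit 1, nat_lit 0, nat_lit 129, nat_lit 37, [], [], []⟩) (.leaf ⟨nat_lit 1, nat_lit 6, nat_lit 6, nat_lit 0x5094a9230cb30883, nat_lit 0x519a44ad885a0e3, nat_lit 0x3225a82094861881, [], [], []⟩)) (.leaf ⟨nat_lit 0, nat_lit 1, nat_lit 1, nat_lit 0, nat_lit 0x251a08859883, nat_lit 0x453a92548881, [], [], []⟩))))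

noncomputable def F19 : GT Fa := .node (.node (.node (.node (.node (.leaf ⟨nat_lit 0, nat_lit 1, nat_lit 1, nat_lit 0, nat_lit 0x4090895110b, nat_lit 0xa4956829425, [], [], []⟩) (.leaf ⟨nat_lit 0, nat_lit 1, nat_lit 1, nat_lit 0, nat_lit 0xa110865a167, nat_lit 0x6525472946b, [], [], []⟩)) (.leaf ⟨nat_lit 0, nat_lit 1, nat_lit 1, nat_lit 0, nat_lit 0x14e52852643082, nat_lit 0x4e5690e221c69, [], [], []⟩)) (.node (.node (.leaf ⟨nat_lit 0, nat_lit 1, nat_lit 1, nat_lit 0, nat_lit 0x4832b082, nat_lit 0x1246d4192d19c65, [], [], []⟩) (.leaf ⟨nat_lit 0, nat_lit 3, nat_lit 3, nat_lit 0, nat_lit 0xc285b0c54ace1, nat_lit 0x5115040890761861, [], [], []⟩)) (.leaf ⟨nat_lit 0, nat_lit 1, nat_lit 1, nat_lit 0, nat_lit 0x276184a48d83, nat_lit 0x298816996d3ac8c, [], [], []⟩))) (.node (.node (.node (.leaf ⟨nat_lit 0, nat_lit 1, nat_lit 1, nat_lit 0, nat_lit 0x132c2221123, nat_lit 0x2414a30a8e1, [], [], []⟩)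 (.leaf ⟨nat_lit 0, nat_lit 1, nat_lit 1, nat_lit 0, nat_lit 0x41d6351ce2, nat_lit 0x198cb128c9, [], [], []⟩)) (.leaf ⟨nat_lit 0, nat_lit 1, nat_lit 1, nat_lit 0, nat_lit 0x30d6411c81, nat_lit 0x94c32a847, [], [], []⟩)) (.node (.node (.leaf ⟨nat_lit 2, nat_lit 0, nat_lit 0, nat_lit 0x3219ab3ad2b4ac83, nat_lit 0, nat_lit 0, [], [], [nat_lit 0x1c443a1ab42905, nat_lit 0x19c674ad2d41d69]⟩) (.leaf ⟨nat_lit 1, nat_lit 3, nat_lit 5, nat_lit 0xace9694e719087, nat_lit 0x3946d20c8229d81, nat_lit 0x9cab3186d3ad0a, [], [], []⟩)) (.leaf ⟨nat_lit 0, nat_lit 1, nat_lit 1, nat_lit 0, nat_lit 1185, nat_lit 1153, [], [], []⟩)))) (.node (.node (.node (.node (.leaf ⟨nat_lit 0, nat_lit 1, nat_lit 1, nat_lit 0, nat_lit 0x548d0758cc1, nat_lit 0x13894648904, [], [], []⟩) (.leaf ⟨nat_lit 0, nat_lit 1, nat_lit 1, nat_lit 0, nat_lit 0x44a3888c388c3, nat_lit 0x198894a44d39d2a, [], [], []⟩)) (.leaf ⟨nat_lit 0, nat_lit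 1, nat_lit 1, nat_lit 0, nat_lit 0x20825385211b082, nat_lit 0x9d4d3092932446, [], [], []⟩)) (.node (.node (.leaf ⟨nat_lit 0, nat_lit 1, nat_lit 1, nat_lit 0, nat_lit 0x1324e53204c48981, nat_lit 0x5b4e74ad0851d82, [], [], []⟩) (.leaf ⟨nat_lit 0, nat_lit 4, nat_lit 4, nat_lit 0, nat_lit 0x24314e742861, nat_lit 0xa1584aa318c1, [], [], []⟩)) (.leaf ⟨nat_lit 0, nat_lit 1, nat_lit 1, nat_lit 0, nat_lit 0x3b526588a961966, nat_lit 0x3209a83216c284a3, [], [], []⟩))) (.node (.node (.node (.leaf ⟨nat_lit 0, nat_lit 1, nat_lit 1, nat_lit 0, nat_lit 0xb0acc632c81, nat_lit 0x12a8e73a82a, [], [], []⟩) (.leaf ⟨nat_lit 0, nat_lit 2, nat_lit 2, nat_lit 0, nat_lit 0x254a8ea308c4, nat_lit 0x220266882233067, [], [], []⟩)) (.leaf ⟨nat_lit 0, nat_lit 1, nat_lit 1, nat_lit 0, nat_lit 0x33196251924, nat_lit 0x541d6351ce2, [], [], []⟩)) (.node (.leaf ⟨nat_lit 0, nat_lit 1, nat_lit 1, nat_lit 0, nat_lit 0x241d0651902,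 nat_lit 0x349d6749923, [], [], []⟩) (.leaf ⟨nat_lit 0, nat_lit 1, nat_lit 1, nat_lit 0, nat_lit 0x148ce80ac29, nat_lit 0x80a82930901, [], [], []⟩))))

noncomputable def F20 : GT Fa := .node (.node (.node (.node (.node (.leaf ⟨nat_lit 0, nat_lit 1, nat_lit 1, nat_lit 0, nat_lit 11306, nat_lit 11306, [], [], []⟩) (.leaf ⟨nat_lit 0, nat_lit 1, nat_lit 1, nat_lit 0, nat_lit 0x828488588e3, nat_lit 0x230d4928489, [], [], []⟩)) (.leaf ⟨nat_lit 0, nat_lit 1, nat_lit 1, nat_lit 0, nat_lit 0x249948208e4, nat_lit 0x530ca959d03, [], [], []⟩)) (.node (.node (.leaf ⟨nat_lit 0, nat_lit 1, nat_lit 1, nat_lit 0, nat_lit 0xad2542ce14b162, nat_lit 0x1d2b68ca720d68, [], [], []⟩) (.leaf ⟨nat_lit 0, nat_lit 3, nat_lit 3, nat_lit 0, nat_lit 0x2404cd58d4760502, nat_lit 0x2435424a8c4430a6, [], [], []⟩)) (.leaf ⟨nat_lit 0, nat_lit 1, nat_lit 1, nat_lit 0, nat_lit 0x36a44b62568318c1, nat_lit 0x1225a80a54c2a0a1, [],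 [], []⟩))) (.node (.node (.node (.leaf ⟨nat_lit 0, nat_lit 1, nat_lit 1, nat_lit 0, nat_lit 0x3a04649924, nat_lit 0x2a0e838d26, [], [], []⟩) (.leaf ⟨nat_lit 0, nat_lit 1, nat_lit 1, nat_lit 0, nat_lit 0x19c2222467, nat_lit 0x30905184c2, [], [], []⟩)) (.leaf ⟨nat_lit 0, nat_lit 1, nat_lit 1, nat_lit 0, nat_lit 0x430d6411c81, nat_lit 0x129865508e5, [], [], []⟩)) (.node (.node (.leaf ⟨nat_lit 0, nat_lit 1, nat_lit 1, nat_lit 0, nat_lit 0x88a5321835a107, nat_lit 0x98ca69c6749966, [], [], []⟩) (.leaf ⟨nat_lit 1, nat_lit 5, nat_lit 4, nat_lit 0x138cc44b08251824, nat_lit 0x8094a7230843b023, nat_lit 0x16a4e53b4ea2206a, [], [], []⟩)) (.leaf ⟨nat_lit 0, nat_lit 1, nat_lit 1, nat_lit 0, nat_lit 0x4840902b, nat_lit 0x2825094a1, [], [], []⟩)))) (.node (.node (.node (.node (.leaf ⟨nat_lit 0, nat_lit 1, nat_lit 1, nat_lit 0, nat_lit 0x48d0758cc1, nat_lit 0x9c4a32448, [], [], []⟩) (.leaf ⟨nat_lit 0, nat_lit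 1, nat_lit 1, nat_lit 0, nat_lit 0x198a80a1641b162, nat_lit 0x1a9a8218890ac6c, [], [], []⟩)) (.leaf ⟨nat_lit 0, nat_lit 1, nat_lit 1, nat_lit 0, nat_lit 0x2252445, nat_lit 0x8342c61, [], [], []⟩)) (.node (.node (.leaf ⟨nat_lit 0, nat_lit 1, nat_lit 1, nat_lit 0, nat_lit 0x4090441469, nat_lit 0x408892a469, [], [], []⟩) (.leaf ⟨nat_lit 0, nat_lit 4, nat_lit 4, nat_lit 0, nat_lit 0x58d2939503, nat_lit 0x39d2b11ce3, [], [], []⟩)) (.leaf ⟨nat_lit 0, nat_lit 1, nat_lit 1, nat_lit 0, nat_lit 0x1499444a487, nat_lit 0x62a10559d01, [], [], []⟩))) (.node (.node (.node (.leaf ⟨nat_lit 0, nat_lit 1, nat_lit 1, nat_lit 0, nat_lit 0xa4b0ac22144, nat_lit 0x121013b4e948c8c, [], [], []⟩) (.leaf ⟨nat_lit 0, nat_lit 2, nat_lit 2, nat_lit 0, nat_lit 0x504a56088413122, nat_lit 0x1418cd49044324a1, [], [], []⟩)) (.leaf ⟨nat_lit 0, nat_lit 1, nat_lit 1, nat_lit 0, nat_lit 0x272192612104, nat_lit 0xa948ce8394c1, [],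 [], []⟩)) (.node (.leaf ⟨nat_lit 0, nat_lit 1, nat_lit 1, nat_lit 0, nat_lit 0x3520c15a064, nat_lit 0x5125413a562, [], [], []⟩) (.leaf ⟨nat_lit 0, nat_lit 1, nat_lit 1, nat_lit 0, nat_lit 0x5aa1b04811c86, nat_lit 0x3315211350619461, [], [], []⟩))))

noncomputable def F21 : GT Fa := .node (.node (.node (.node (.node (.leaf ⟨nat_lit 0, nat_lit 1, nat_lit 1, nat_lit 0, nat_lit 0x2932cc64a4a2, nat_lit 0x64420e751d01, [], [], []⟩) (.leaf ⟨nat_lit 0, nat_lit 1, nat_lit 1, nat_lit 0, nat_lit 0x1a8c339c61, nat_lit 0x88c611d62, [], [], []⟩)) (.leaf ⟨nat_lit 0, nat_lit 1, nat_lit 1, nat_lit 0, nat_lit 0x15994958ca1, nat_lit 0x12094859d41, [], [], []⟩)) (.node (.node (.leaf ⟨nat_lit 0, nat_lit 1, nat_lit 1, nat_lit 0, nat_lit 0x2a0e838d26, nat_lit 0x3a04649924, [], [], []⟩) (.leaf ⟨nat_lit 0, nat_lit 3, nat_lit 3, nat_lit 0, nat_lit 0x409567610c438d83, nat_lit 0x209d2d1a0c960c23, [], [], []⟩)) (.leaf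 ⟨nat_lit 0, nat_lit 1, nat_lit 1, nat_lit 0, nat_lit 0x91a0eb19825, nat_lit 0x409c4a32448, [], [], []⟩))) (.node (.node (.node (.leaf ⟨nat_lit 0, nat_lit 1, nat_lit 1, nat_lit 0, nat_lit 0x1584861a0c3, nat_lit 0x23a44728541, [], [], []⟩) (.leaf ⟨nat_lit 0, nat_lit 1, nat_lit 1, nat_lit 0, nat_lit 0xa74090829c22, nat_lit 0x61311291a4c4, [], [], []⟩)) (.leaf ⟨nat_lit 0, nat_lit 1, nat_lit 1, nat_lit 0, nat_lit 0xd290ac4413162, nat_lit 0x269c45125aa190c1, [], [], []⟩)) (.node (.node (.leaf ⟨nat_lit 0, nat_lit 1, nat_lit 1, nat_lit 0, nat_lit 0x473a04532022, nat_lit 0x6149c83498c3, [], [], []⟩) (.leaf ⟨nat_lit 1, nat_lit 5, nat_lit 4, nat_lit 0x9d630a586628cb, nat_lit 0xa8294b0c54a482, nat_lit 0x29cad1356258881, [], [], []⟩)) (.leaf ⟨nat_lit 0, nat_lit 1, nat_lit 1, nat_lit 0, nat_lit 0x33a14220c84, nat_lit 0x5288a35a4c2, [], [], []⟩)))) (.node (.node (.node (.node (.leaf ⟨nat_lit 0, nat_lit 1,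 nat_lit 1, nat_lit 0, nat_lit 0x13a1064308328483, nat_lit 0x1395aa48c250a544, [], [], []⟩) (.leaf ⟨nat_lit 0, nat_lit 1, nat_lit 1, nat_lit 0, nat_lit 36901, nat_lit 0x204a1, [], [], []⟩)) (.leaf ⟨nat_lit 0, nat_lit 1, nat_lit 1, nat_lit 0, nat_lit 0xd0b18484, nat_lit 0x14a112922, [], [], []⟩)) (.node (.node (.leaf ⟨nat_lit 0, nat_lit 1, nat_lit 1, nat_lit 0, nat_lit 0x12986b208e1, nat_lit 0x130caa11c81, [], [], []⟩) (.leaf ⟨nat_lit 0, nat_lit 4, nat_lit 4, nat_lit 0, nat_lit 0x1a10b388ec39c64, nat_lit 0x3209233a52c12101, [], [], []⟩)) (.leaf ⟨nat_lit 0, nat_lit 1, nat_lit 1, nat_lit 0, nat_lit 0x112922504a1, nat_lit 0x12056342c61, [], [], []⟩))) (.node (.node (.node (.leaf ⟨nat_lit 0, nat_lit 1, nat_lit 1, nat_lit 0, nat_lit 0x11b4c62892343041, nat_lit 0x284d225a53ace2, [], [], []⟩) (.leaf ⟨nat_lit 0, nat_lit 2, nat_lit 2, nat_lit 0, nat_lit 0x59c475a142, nat_lit 0x11d633b4e251c61, [], [],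 []⟩)) (.leaf ⟨nat_lit 0, nat_lit 1, nat_lit 1, nat_lit 0, nat_lit 0x1a02d295292254c, nat_lit 0x1acc251da913144, [], [], []⟩)) (.node (.leaf ⟨nat_lit 0, nat_lit 1, nat_lit 1, nat_lit 0, nat_lit 0x5044420922, nat_lit 0x1a06528c2b, [], [], []⟩) (.leaf ⟨nat_lit 0, nat_lit 1, nat_lit 1, nat_lit 0, nat_lit 0x33102a110c9, nat_lit 0x83946b094e2, [], [], []⟩))))

noncomputable def F22 : GT Fa := .node (.node (.node (.node (.node (.leaf ⟨nat_lit 0, nat_lit 1, nat_lit 1, nat_lit 0, nat_lit 0x911cea22163, nat_lit 0x2524ab31868, [], [], []⟩) (.leaf ⟨nat_lit 0, nat_lit 1, nat_lit 1, nat_lit 0, nat_lit 0xa40d6838c24, nat_lit 0x5088c95092b, [], [], []⟩)) (.leaf ⟨nat_lit 0, nat_lit 1, nat_lit 1, nat_lit 0, nat_lit 0x11848118cb1b082, nat_lit 0x9d4d32549310c9, [], [], []⟩)) (.node (.node (.leaf ⟨nat_lit 0, nat_lit 1, nat_lit 1, nat_lit 0, nat_lit 0x9432106a, nat_lit 0x2c4528963, [], [], []⟩) (.leaf ⟨nat_lit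 0, nat_lit 3, nat_lit 3, nat_lit 0, nat_lit 0x52a48440484, nat_lit 0xac2550541, [], [], []⟩)) (.leaf ⟨nat_lit 0, nat_lit 1, nat_lit 1, nat_lit 0, nat_lit 0x8649d665b082, nat_lit 0x88c33b4c541d8a, [], [], []⟩))) (.node (.node (.node (.leaf ⟨nat_lit 0, nat_lit 1, nat_lit 1, nat_lit 0, nat_lit 0x14a24a8c14b162, nat_lit 0x9d416a04948542, [], [], []⟩) (.leaf ⟨nat_lit 0, nat_lit 1, nat_lit 1, nat_lit 0, nat_lit 0x504643a4e2, nat_lit 0x199062882b, [], [], []⟩)) (.leaf ⟨nat_lit 0, nat_lit 1, nat_lit 1, nat_lit 0, nat_lit 0xcc2391835088c, nat_lit 0x1395aa3242449d61, [], [], []⟩)) (.node (.node (.leaf ⟨nat_lit 0, nat_lit 1, nat_lit 1, nat_lit 0, nat_lit 0x649d665b082, nat_lit 0x1395a54910232441, [], [], []⟩) (.leaf ⟨nat_lit 1, nat_lit 5, nat_lit 5, nat_lit 0xd220872186560d41, nat_lit 0xa699215a1634b064, nat_lit 0x248dab3106861088, [], [], []⟩)) (.leaf ⟨nat_lit 0, nat_lit 1, nat_lit 1, nat_lit 0, nat_lit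 0xa0ac8158561, nat_lit 0x1505412a82b, [], [], []⟩)))) (.node (.node (.node (.node (.leaf ⟨nat_lit 0, nat_lit 1, nat_lit 1, nat_lit 0, nat_lit 0x864ac6a3b162, nat_lit 0x9d4d199611152a, [], [], []⟩) (.leaf ⟨nat_lit 0, nat_lit 1, nat_lit 1, nat_lit 0, nat_lit 0xb1a04650ce3, nat_lit 0x2309671a44a, [], [], []⟩)) (.leaf ⟨nat_lit 0, nat_lit 1, nat_lit 1, nat_lit 0, nat_lit 0x208c2420a7, nat_lit 0x3112919c65, [], [], []⟩)) (.node (.node (.leaf ⟨nat_lit 0, nat_lit 1, nat_lit 1, nat_lit 0, nat_lit 0x128ce83b04752582, nat_lit 0x2c614208d13127, [], [], []⟩) (.leaf ⟨nat_lit 0, nat_lit 4, nat_lit 4, nat_lit 0, nat_lit 0x256239c66, nat_lit 0x8c61a907, [], [], []⟩)) (.leaf ⟨nat_lit 0, nat_lit 1, nat_lit 1, nat_lit 0, nat_lit 0x4090895110a, nat_lit 0xb4956829425, [], [], []⟩))) (.node (.node (.node (.leaf ⟨nat_lit 0, nat_lit 1, nat_lit 1, nat_lit 0, nat_lit 0x7589215a0a2, nat_lit 0x32254140d46, [], [], []⟩)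 (.leaf ⟨nat_lit 0, nat_lit 2, nat_lit 2, nat_lit 0, nat_lit 0x859d6929d0b, nat_lit 0xb4c268cc6, [], [], []⟩)) (.leaf ⟨nat_lit 0, nat_lit 1, nat_lit 1, nat_lit 0, nat_lit 0x1a86b4b06c0a8e1, nat_lit 0x258ca76a16c12d21, [], [], []⟩)) (.node (.leaf ⟨nat_lit 0, nat_lit 1, nat_lit 1, nat_lit 0, nat_lit 0x18a6285673b162, nat_lit 0x1220a343508218c2, [], [], []⟩) (.leaf ⟨nat_lit 0, nat_lit 1, nat_lit 1, nat_lit 0, nat_lit 0x2088409083, nat_lit 0x114a129465, [], [], []⟩))))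

noncomputable def F23 : GT Fa := .node (.node (.node (.node (.node (.leaf ⟨nat_lit 0, nat_lit 1, nat_lit 1, nat_lit 0, nat_lit 0x430ca959d03, nat_lit 0x249948208e5, [], [], []⟩) (.leaf ⟨nat_lit 0, nat_lit 1, nat_lit 1, nat_lit 0, nat_lit 0x1ca61a5632b082, nat_lit 0x9cad184eb41c83, [], [], []⟩)) (.leaf ⟨nat_lit 0, nat_lit 1, nat_lit 1, nat_lit 0, nat_lit 0x95894812ce2, nat_lit 0x33286958d48, [], [], []⟩)) (.node (.node (.leaf ⟨nat_lit 0, nat_lit 1, nat_lit 1, nat_lit 0, nat_lit 0x6929d685a083, nat_lit 0x454a92a31102, [], [], []⟩) (.leaf ⟨nat_lit 0, nat_lit 3, nat_lit 3, nat_lit 0, nat_lit 0x20eb21921, nat_lit 0xa8474ac47, [], [], []⟩)) (.leaf ⟨nat_lit 0, nat_lit 1, nat_lit 1, nat_lit 0, nat_lit 0x44a488832b082, nat_lit 0x13a9a921d06420e2, [], [], []⟩))) (.node (.node (.node (.leaf ⟨nat_lit 0, nat_lit 1, nat_lit 1, nat_lit 0, nat_lit 36, nat_lit 161, [], [], []⟩) (.leaf ⟨nat_lit 0, nat_lit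 1, nat_lit 1, nat_lit 0, nat_lit 0x40a88631825, nat_lit 0x409ce72ac25, [], [], []⟩)) (.leaf ⟨nat_lit 0, nat_lit 1, nat_lit 1, nat_lit 0, nat_lit 0x309da23298333122, nat_lit 0x1a61b56839c6c, [], [], []⟩)) (.node (.node (.leaf ⟨nat_lit 0, nat_lit 1, nat_lit 1, nat_lit 0, nat_lit 0x2729869584a1, nat_lit 0x240a902390c1, [], [], []⟩) (.leaf ⟨nat_lit 1, nat_lit 5, nat_lit 5, nat_lit 0x48768d843a4a6, nat_lit 0x26ad024892b3b141, nat_lit 0x6969cad5a5890a861, [], [], []⟩)) (.leaf ⟨nat_lit 0, nat_lit 1, nat_lit 1, nat_lit 0, nat_lit 0x8ceb494e51b162, nat_lit 0x2394ed3a56960825, [], [], []⟩)))) (.node (.node (.node (.node (.leaf ⟨nat_lit 0, nat_lit 1, nat_lit 1, nat_lit 0, nat_lit 0x320c84104a, nat_lit 0x58ca949d27, [], [], []⟩) (.leaf ⟨nat_lit 0, nat_lit 1, nat_lit 1, nat_lit 0, nat_lit 0x4a1288e962c47, nat_lit 0x122099a6308e7, [], [], []⟩)) (.leaf ⟨nat_lit 0, nat_lit 1, nat_lit 1, nat_lit 0, nat_lit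 0x53a447488e2, nat_lit 0x330d061a0c4, [], [], []⟩)) (.node (.node (.leaf ⟨nat_lit 0, nat_lit 1, nat_lit 1, nat_lit 0, nat_lit 0x10c93256323082, nat_lit 0x1a9a958cc831585, [], [], []⟩) (.leaf ⟨nat_lit 1, nat_lit 3, nat_lit 4, nat_lit 0x688a54198110444, nat_lit 0x309a80a90410461, nat_lit 0xd686a0ca09583, [], [], []⟩)) (.leaf ⟨nat_lit 0, nat_lit 1, nat_lit 1, nat_lit 0, nat_lit 0x90895110a, nat_lit 0x5a4ab414a1, [], [], []⟩))) (.node (.node (.node (.leaf ⟨nat_lit 0, nat_lit 1, nat_lit 1, nat_lit 0, nat_lit 0x281992b19d61, nat_lit 0x2a3094838921, [], [], []⟩) (.leaf ⟨nat_lit 0, nat_lit 2, nat_lit 2, nat_lit 0, nat_lit 0x90a5a9130e742061, nat_lit 0x540da3414ea33164, [], [], []⟩)) (.leaf ⟨nat_lit 0, nat_lit 1, nat_lit 1, nat_lit 0, nat_lit 0x6328c228489, nat_lit 0x8284833ace7, [], [], []⟩)) (.node (.leaf ⟨nat_lit 0, nat_lit 1, nat_lit 1, nat_lit 0, nat_lit 0x29ca1599494b162, nat_lit 0x13a9a82850751ca9,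 [], [], []⟩) (.leaf ⟨nat_lit 0, nat_lit 1, nat_lit 1, nat_lit 0, nat_lit 0x7414cb3a444, nat_lit 0x51a0ca39126, [], [], []⟩))))

noncomputable def F24 : GT Fa := .node (.node (.node (.node (.node (.leaf ⟨nat_lit 0, nat_lit 1, nat_lit 1, nat_lit 0, nat_lit 0x488ed3b14443163, nat_lit 0x3504691986c29841, [], [], []⟩) (.leaf ⟨nat_lit 0, nat_lit 1, nat_lit 1, nat_lit 0, nat_lit 0x12056252441, nat_lit 0x11a163504a1, [], [], []⟩)) (.leaf ⟨nat_lit 0, nat_lit 1, nat_lit 1, nat_lit 0, nat_lit 0x89492b082, nat_lit 0x9cad58d24220c1, [], [], []⟩)) (.node (.node (.leaf ⟨nat_lit 0, nat_lit 1, nat_lit 1, nat_lit 0, nat_lit 0x2411966320c1, nat_lit 0x2749cea38ca1, [], [], []⟩) (.leaf ⟨nat_lit 0, nat_lit 3, nat_lit 3, nat_lit 0, nat_lit 0x112c4d1256812861, nat_lit 0x18ca1a46d39d2b, [], [], []⟩)) (.leaf ⟨nat_lit 0, nat_lit 1, nat_lit 1, nat_lit 0, nat_lit 0x1298238c83, nat_lit 0x8c9104494b083, [], [], []⟩))) (.node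 (.node (.node (.leaf ⟨nat_lit 0, nat_lit 1, nat_lit 1, nat_lit 0, nat_lit 5156, nat_lit 5156, [], [], []⟩) (.leaf ⟨nat_lit 0, nat_lit 1, nat_lit 1, nat_lit 0, nat_lit 0x29cad2852641182, nat_lit 0x88a532d2561044, [], [], []⟩)) (.leaf ⟨nat_lit 0, nat_lit 1, nat_lit 1, nat_lit 0, nat_lit 0x25050b21d02, nat_lit 0x3498aa48563, [], [], []⟩)) (.node (.node (.leaf ⟨nat_lit 0, nat_lit 1, nat_lit 1, nat_lit 0, nat_lit 0x3588a619c41, nat_lit 0x11984720d42, [], [], []⟩) (.leaf ⟨nat_lit 1, nat_lit 5, nat_lit 5, nat_lit 0x31125530e7618a6, nat_lit 0x1688e86146b42163, nat_lit 0xa4e9091a640908, [], [], []⟩)) (.leaf ⟨nat_lit 0, nat_lit 1, nat_lit 1, nat_lit 0, nat_lit 0x3202423082, nat_lit 0x195ab40c2641984, [], [], []⟩)))) (.node (.node (.node (.node (.leaf ⟨nat_lit 0, nat_lit 1, nat_lit 1, nat_lit 0, nat_lit 0x859d6929d0b, nat_lit 0xa4988851949, [], [], []⟩) (.leaf ⟨nat_lit 0, nat_lit 1, nat_lit 1, nat_lit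 0, nat_lit 0x27414cb3a444, nat_lit 0xa341947224c1, [], [], []⟩)) (.leaf ⟨nat_lit 0, nat_lit 1, nat_lit 1, nat_lit 0, nat_lit 0xb38c841a102, nat_lit 0x34a445288ca, [], [], []⟩)) (.node (.node (.leaf ⟨nat_lit 0, nat_lit 1, nat_lit 1, nat_lit 0, nat_lit 0x23090cb41081, nat_lit 0x252a54728441, [], [], []⟩) (.leaf ⟨nat_lit 0, nat_lit 4, nat_lit 4, nat_lit 0, nat_lit 0x412c480ac4c22561, nat_lit 0x4b12926134e7114c1, [], [], []⟩)) (.leaf ⟨nat_lit 0, nat_lit 1, nat_lit 1, nat_lit 0, nat_lit 4132, nat_lit 5157, [], [], []⟩))) (.node (.node (.node (.leaf ⟨nat_lit 0, nat_lit 1, nat_lit 1, nat_lit 0, nat_lit 0x23a44728541, nat_lit 0x1584861a0c3, [], [], []⟩) (.leaf ⟨nat_lit 0, nat_lit 2, nat_lit 2, nat_lit 0, nat_lit 0x11ce14ac49, nat_lit 0x1115a86988612184, [], [], []⟩)) (.leaf ⟨nat_lit 0, nat_lit 1, nat_lit 1, nat_lit 0, nat_lit 0x198471a5292b082, nat_lit 0x3a48d5054949864, [], [], []⟩)) (.node (.leaf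 ⟨nat_lit 0, nat_lit 1, nat_lit 1, nat_lit 0, nat_lit 0x2441ca9208e2, nat_lit 0x6619504324a1, [], [], []⟩) (.leaf ⟨nat_lit 0, nat_lit 1, nat_lit 1, nat_lit 0, nat_lit 0x61044411c81, nat_lit 0x12986518467, [], [], []⟩))))

noncomputable def F25 : GT Fa := .node (.node (.node (.node (.node (.leaf ⟨nat_lit 0, nat_lit 1, nat_lit 1, nat_lit 0, nat_lit 0x10503208833b082, nat_lit 0x9cad394283a543, [], [], []⟩) (.leaf ⟨nat_lit 0, nat_lit 1, nat_lit 1, nat_lit 0, nat_lit 0x148d0758cc1, nat_lit 0x13894648901, [], [], []⟩)) (.leaf ⟨nat_lit 0, nat_lit 1, nat_lit 1, nat_lit 0, nat_lit 0x8ed41d014b025, nat_lit 0x111a64988643045, [], [], []⟩)) (.node (.node (.leaf ⟨nat_lit 0, nat_lit 1, nat_lit 1, nat_lit 0, nat_lit 0x124683a10833082, nat_lit 0xe95b50832c23, [], [], []⟩) (.leaf ⟨nat_lit 0, nat_lit 3, nat_lit 3, nat_lit 0, nat_lit 0x5050762d8532424, nat_lit 0x1494262b44740d01, [], [], []⟩)) (.leaf ⟨nat_lit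 0, nat_lit 1, nat_lit 1, nat_lit 0, nat_lit 0xa491a46208c20544, nat_lit 0x252a48d2350b, [], [], []⟩))) (.node (.node (.node (.leaf ⟨nat_lit 0, nat_lit 1, nat_lit 1, nat_lit 0, nat_lit 0x3520c23a4c3, nat_lit 0x23a0c33a562, [], [], []⟩) (.leaf ⟨nat_lit 0, nat_lit 1, nat_lit 1, nat_lit 0, nat_lit 0x5612094c42cec, nat_lit 0x3598aa1b4e32244c, [], [], []⟩)) (.leaf ⟨nat_lit 0, nat_lit 1, nat_lit 1, nat_lit 0, nat_lit 0x254196749d01, nat_lit 0x29320ca3a481, [], [], []⟩)) (.node (.node (.leaf ⟨nat_lit 0, nat_lit 1, nat_lit 1, nat_lit 0, nat_lit 0x210c632c81, nat_lit 0x954739ca5, [], [], []⟩) (.leaf ⟨nat_lit 1, nat_lit 5, nat_lit 5, nat_lit 0x2946d299035b10c, nat_lit 0x6124c328d8613082, nat_lit 0x1119616996962cc1, [], [], []⟩)) (.leaf ⟨nat_lit 0, nat_lit 1, nat_lit 1, nat_lit 0, nat_lit 0x986d520c320481, nat_lit 0x8c43152232582, [], [], []⟩)))) (.node (.node (.node (.node (.leaf ⟨nat_lit 0, nat_lit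 1, nat_lit 1, nat_lit 0, nat_lit 0x832b082, nat_lit 0x18c9091aa0a0c5, [], [], []⟩) (.leaf ⟨nat_lit 0, nat_lit 1, nat_lit 1, nat_lit 0, nat_lit 0x2c81284a1, nat_lit 0x481204aa, [], [], []⟩)) (.leaf ⟨nat_lit 0, nat_lit 1, nat_lit 1, nat_lit 0, nat_lit 0x3308e41a841, nat_lit 0x11ac4530ce2, [], [], []⟩)) (.node (.node (.leaf ⟨nat_lit 0, nat_lit 1, nat_lit 1, nat_lit 0, nat_lit 0x490e83256343162, nat_lit 0x1a48d3b50408c86, [], [], []⟩) (.leaf ⟨nat_lit 0, nat_lit 4, nat_lit 4, nat_lit 0, nat_lit 0x235054409041, nat_lit 0x184e738d0d59ce1, [], [], []⟩)) (.leaf ⟨nat_lit 0, nat_lit 1, nat_lit 1, nat_lit 0, nat_lit 4225, nat_lit 1189, [], [], []⟩))) (.node (.node (.node (.leaf ⟨nat_lit 0, nat_lit 1, nat_lit 1, nat_lit 0, nat_lit 0x10832b082, nat_lit 0x13a9a729d2b19041, [], [], []⟩) (.leaf ⟨nat_lit 0, nat_lit 2, nat_lit 2, nat_lit 0, nat_lit 0x13a10d1b0c152481, nat_lit 0x1a4286944541503, [], [], []⟩))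 (.leaf ⟨nat_lit 0, nat_lit 1, nat_lit 1, nat_lit 0, nat_lit 0x20472182b, nat_lit 0x282729869, [], [], []⟩)) (.node (.leaf ⟨nat_lit 0, nat_lit 1, nat_lit 1, nat_lit 0, nat_lit 0x948598c4, nat_lit 0x14e752563, [], [], []⟩) (.leaf ⟨nat_lit 0, nat_lit 1, nat_lit 1, nat_lit 0, nat_lit 0x630d273a441, nat_lit 0x11a0c6408e7, [], [], []⟩))))

noncomputable def F26 : GT Fa := .node (.node (.node (.node (.node (.leaf ⟨nat_lit 0, nat_lit 1, nat_lit 1, nat_lit 0, nat_lit 0x124ca41047, nat_lit 0x30ca959d03, [], [], []⟩) (.leaf ⟨nat_lit 0, nat_lit 1, nat_lit 1, nat_lit 0, nat_lit 0x5186b41c23, nat_lit 0x104c9508eb, [], [], []⟩)) (.leaf ⟨nat_lit 0, nat_lit 1, nat_lit 1, nat_lit 0, nat_lit 0x2491220ad03, nat_lit 0x24a82341503, [], [], []⟩)) (.node (.node (.leaf ⟨nat_lit 0, nat_lit 1, nat_lit 1, nat_lit 0, nat_lit 5157, nat_lit 4132, [], [], []⟩) (.leaf ⟨nat_lit 0, nat_lit 3, nat_lit 3, nat_lit 0, nat_lit 6342,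 nat_lit 0x239ce3, [], [], []⟩)) (.leaf ⟨nat_lit 0, nat_lit 1, nat_lit 1, nat_lit 0, nat_lit 0x20da35244761d87, nat_lit 0x4a5491a46a161, [], [], []⟩))) (.node (.node (.node (.leaf ⟨nat_lit 0, nat_lit 1, nat_lit 1, nat_lit 0, nat_lit 0x252a18661d24, nat_lit 0x2c2b325a852522, [], [], []⟩) (.leaf ⟨nat_lit 0, nat_lit 1, nat_lit 1, nat_lit 0, nat_lit 0x342c6158541, nat_lit 0x15854112922, [], [], []⟩)) (.leaf ⟨nat_lit 0, nat_lit 1, nat_lit 1, nat_lit 0, nat_lit 0x828c8209524, nat_lit 0x54102328889, [], [], []⟩)) (.node (.node (.leaf ⟨nat_lit 0, nat_lit 1, nat_lit 1, nat_lit 0, nat_lit 0x235846142ceb, nat_lit 0x146524220a841, [], [], []⟩) (.leaf ⟨nat_lit 1, nat_lit 5, nat_lit 5, nat_lit 0xb321a3610495a4e4, nat_lit 0x24a62a98362465, nat_lit 0x1115a6495a743106, [], [], []⟩)) (.leaf ⟨nat_lit 0, nat_lit 1, nat_lit 1, nat_lit 0, nat_lit 0x5902509081, nat_lit 0x94a1204aa, [], [], []⟩)))) (.node (.node (.node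 (.node (.leaf ⟨nat_lit 0, nat_lit 1, nat_lit 1, nat_lit 0, nat_lit 0x29d2339c4960482, nat_lit 0x18864ada7490c9, [], [], []⟩) (.leaf ⟨nat_lit 0, nat_lit 1, nat_lit 1, nat_lit 0, nat_lit 0x40908631941, nat_lit 0x159ce729425, [], [], []⟩)) (.leaf ⟨nat_lit 0, nat_lit 1, nat_lit 1, nat_lit 0, nat_lit 0x10462b0e850908, nat_lit 0x20a1462b46621121, [], [], []⟩)) (.node (.node (.leaf ⟨nat_lit 0, nat_lit 1, nat_lit 1, nat_lit 0, nat_lit 0x1c441ad0513162, nat_lit 0x9cad2210758ce2, [], [], []⟩) (.leaf ⟨nat_lit 2, nat_lit 0, nat_lit 0, nat_lit 0x1520ad1a8291a865, nat_lit 0, nat_lit 0, [], [], [nat_lit 6, nat_lit 0x2720cc660ce858d43, nat_lit 7]⟩)) (.leaf ⟨nat_lit 0, nat_lit 1, nat_lit 1, nat_lit 0, nat_lit 0x5846858d64, nat_lit 0x2a84a4882a, [], [], []⟩))) (.node (.node (.node (.leaf ⟨nat_lit 0, nat_lit 1, nat_lit 1, nat_lit 0, nat_lit 0xb08d0b1ac81, nat_lit 0x12a84a4882a, [], [], []⟩) (.leaf ⟨nat_lit 0,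 nat_lit 2, nat_lit 2, nat_lit 0, nat_lit 0x108150481, nat_lit 0x1411072b50c12089, [], [], []⟩)) (.leaf ⟨nat_lit 0, nat_lit 1, nat_lit 1, nat_lit 0, nat_lit 0x40ac241314862ce4, nat_lit 0x1912259da541829, [], [], []⟩)) (.node (.leaf ⟨nat_lit 0, nat_lit 1, nat_lit 1, nat_lit 0, nat_lit 0x21025, nat_lit 0x204a5, [], [], []⟩) (.leaf ⟨nat_lit 0, nat_lit 1, nat_lit 1, nat_lit 0, nat_lit 0x96118543024, nat_lit 0x34b4c82188719189, [], [], []⟩))))

noncomputable def F27 : GT Fa := .node (.node (.node (.node (.node (.leaf ⟨nat_lit 0, nat_lit 1, nat_lit 1, nat_lit 0, nat_lit 0x90946858d48, nat_lit 0x95894911028, [], [], []⟩) (.leaf ⟨nat_lit 0, nat_lit 1, nat_lit 1, nat_lit 0, nat_lit 0x6598480a064, nat_lit 0x51242919d47, [], [], []⟩)) (.leaf ⟨nat_lit 0, nat_lit 1, nat_lit 1, nat_lit 0, nat_lit 0x43a4a608cc2, nat_lit 0x338827220c5, [], [], []⟩)) (.node (.node (.leaf ⟨nat_lit 0, nat_lit 1, nat_lit 1, nat_lit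 0, nat_lit 0x1218c60a881, nat_lit 0x12ac2739ca1, [], [], []⟩) (.leaf ⟨nat_lit 0, nat_lit 3, nat_lit 3, nat_lit 0, nat_lit 0x1128661312228484, nat_lit 0x124a1285a92a562, [], [], []⟩)) (.leaf ⟨nat_lit 0, nat_lit 1, nat_lit 1, nat_lit 0, nat_lit 0x2b0ac8120541, nat_lit 0x2b0942550541, [], [], []⟩))) (.node (.node (.node (.leaf ⟨nat_lit 0, nat_lit 1, nat_lit 1, nat_lit 0, nat_lit 132, nat_lit 165, [], [], []⟩) (.leaf ⟨nat_lit 0, nat_lit 1, nat_lit 1, nat_lit 0, nat_lit 0x8d0208d22, nat_lit 0x1a0411a441, [], [], []⟩)) (.leaf ⟨nat_lit 0, nat_lit 1, nat_lit 1, nat_lit 0, nat_lit 0x3691a850c8c32924, nat_lit 0xa15986d1b4a919841, [], [], []⟩)) (.node (.node (.leaf ⟨nat_lit 0, nat_lit 1, nat_lit 1, nat_lit 0, nat_lit 0x288c240d473b082, nat_lit 0x1a9a2220885898a, [], [], []⟩) (.leaf ⟨nat_lit 1, nat_lit 5, nat_lit 5, nat_lit 0x3504823892a624c1, nat_lit 0x41d0d29c64320c1, nat_lit 0x2a4348269d8a430e1, [],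 [], []⟩)) (.leaf ⟨nat_lit 0, nat_lit 1, nat_lit 1, nat_lit 0, nat_lit 0x24491216c388c3, nat_lit 0x18812b5025a064, [], [], []⟩)))) (.node (.node (.node (.node (.leaf ⟨nat_lit 0, nat_lit 1, nat_lit 1, nat_lit 0, nat_lit 0x1d2339c4960482, nat_lit 0x2388aa135691acc2, [], [], []⟩) (.leaf ⟨nat_lit 0, nat_lit 1, nat_lit 1, nat_lit 0, nat_lit 0x252445, nat_lit 0x41a163, [], [], []⟩)) (.leaf ⟨nat_lit 0, nat_lit 1, nat_lit 1, nat_lit 0, nat_lit 0x64190820941, nat_lit 0x158ca949d27, [], [], []⟩)) (.node (.node (.leaf ⟨nat_lit 0, nat_lit 1, nat_lit 1, nat_lit 0, nat_lit 0x2a0b102390c5, nat_lit 0x872986968561, [], [], []⟩) (.leaf ⟨nat_lit 2, nat_lit 0, nat_lit 0, nat_lit 6, nat_lit 0, nat_lit 0, [], [], [nat_lit 0x4b12926134e7114c1, nat_lit 7, nat_lit 0x412c480ac4c22561]⟩)) (.leaf ⟨nat_lit 0, nat_lit 1, nat_lit 1, nat_lit 0, nat_lit 0x4318c342c64, nat_lit 0x51292239ce5, [], [], []⟩))) (.node (.node (.node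 (.leaf ⟨nat_lit 0, nat_lit 1, nat_lit 1, nat_lit 0, nat_lit 0x90832b082, nat_lit 0x9d4d394e958c82, [], [], []⟩) (.leaf ⟨nat_lit 1, nat_lit 2, nat_lit 1, nat_lit 0x309215a52c3a4c3, nat_lit 0x82a328c41b168, nat_lit 0xa568d4268c2911c81, [], [], []⟩)) (.leaf ⟨nat_lit 0, nat_lit 1, nat_lit 1, nat_lit 0, nat_lit 0x15204721825, nat_lit 0x409ca61a561, [], [], []⟩)) (.node (.leaf ⟨nat_lit 0, nat_lit 1, nat_lit 1, nat_lit 0, nat_lit 0x5125460a562, nat_lit 0x3520275a064, [], [], []⟩) (.leaf ⟨nat_lit 0, nat_lit 1, nat_lit 1, nat_lit 0, nat_lit 0x2ad254308220d02, nat_lit 0x56d30d4830982, [], [], []⟩))))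

noncomputable def F28 : GT Fa := .node (.node (.node (.node (.node (.leaf ⟨nat_lit 0, nat_lit 1, nat_lit 1, nat_lit 0, nat_lit 0x7121422a467, nat_lit 0x6120835a466, [], [], []⟩) (.leaf ⟨nat_lit 0, nat_lit 1, nat_lit 1, nat_lit 0, nat_lit 0x65a44449822, nat_lit 0x309d051a147, [], [], []⟩)) (.leaf ⟨nat_lit 0, nat_lit 1, nat_lit 1, nat_lit 0, nat_lit 0x205424994443082, nat_lit 0x946142c6461107, [], [], []⟩)) (.node (.node (.leaf ⟨nat_lit 0, nat_lit 1, nat_lit 1, nat_lit 0, nat_lit 0x14e7490233b162, nat_lit 0x9cad1a02721961, [], [], []⟩) (.leaf ⟨nat_lit 0, nat_lit 3, nat_lit 3, nat_lit 0, nat_lit 0x1210c631081, nat_lit 0x2a0e551924, [], [], []⟩)) (.leaf ⟨nat_lit 0, nat_lit 1, nat_lit 1, nat_lit 0, nat_lit 0x15048631881, nat_lit 0x129ce728561, [], [], []⟩))) (.node (.node (.node (.leaf ⟨nat_lit 0, nat_lit 1, nat_lit 1, nat_lit 0, nat_lit 0x51a9060ad03, nat_lit 0x24a8274ac44, [], [], []⟩) (.leaf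 ⟨nat_lit 0, nat_lit 1, nat_lit 1, nat_lit 0, nat_lit 0x95a48720482, nat_lit 0x3284a62a148, [], [], []⟩)) (.leaf ⟨nat_lit 0, nat_lit 1, nat_lit 1, nat_lit 0, nat_lit 0x3090c540481, nat_lit 0x12852439422, [], [], []⟩)) (.node (.node (.leaf ⟨nat_lit 0, nat_lit 1, nat_lit 1, nat_lit 0, nat_lit 0x72986958484, nat_lit 0x52854811c86, [], [], []⟩) (.leaf ⟨nat_lit 1, nat_lit 5, nat_lit 5, nat_lit 0x21d4d41d6738c23, nat_lit 0x5505a40a5271b0c3, nat_lit 0x1942d40d2461ca7, [], [], []⟩)) (.leaf ⟨nat_lit 0, nat_lit 1, nat_lit 1, nat_lit 0, nat_lit 0x28c8305272b082, nat_lit 0x1395a91a4c2520c1, [], [], []⟩)))) (.node (.node (.node (.node (.leaf ⟨nat_lit 0, nat_lit 1, nat_lit 1, nat_lit 0, nat_lit 0xa420e728482, nat_lit 0x3284863252b, [], [], []⟩) (.leaf ⟨nat_lit 0, nat_lit 1, nat_lit 1, nat_lit 0, nat_lit 0x294ca4ac6a, nat_lit 0x5894859c84, [], [], []⟩)) (.leaf ⟨nat_lit 0, nat_lit 1, nat_lit 1, nat_lit 0,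 nat_lit 0x1c6811d41530c3, nat_lit 0x11ca15b4c322446, [], [], []⟩)) (.node (.node (.leaf ⟨nat_lit 0, nat_lit 1, nat_lit 1, nat_lit 0, nat_lit 0x65090c64a561, nat_lit 0x2a420e728482, [], [], []⟩) (.leaf ⟨nat_lit 2, nat_lit 0, nat_lit 0, nat_lit 0x412c480ac4c22561, nat_lit 0, nat_lit 0, [], [], [nat_lit 6, nat_lit 0x4b12926134e7114c1, nat_lit 7]⟩)) (.leaf ⟨nat_lit 0, nat_lit 1, nat_lit 1, nat_lit 0, nat_lit 0xa0b102390c5, nat_lit 0x4394c34b42b, [], [], []⟩))) (.node (.node (.node (.leaf ⟨nat_lit 0, nat_lit 1, nat_lit 1, nat_lit 0, nat_lit 0x742c44390e4, nat_lit 0x5314c51a926, [], [], []⟩) (.leaf ⟨nat_lit 2, nat_lit 0, nat_lit 0, nat_lit 0x309215a52c3a4c3, nat_lit 0, nat_lit 0, [], [], [nat_lit 6531, nat_lit 0x2530d011306b13084, nat_lit 0x254d114eb3ac23]⟩)) (.leaf ⟨nat_lit 0, nat_lit 1, nat_lit 1, nat_lit 0, nat_lit 0x8893186b3b082, nat_lit 0x44d3352a68924, [], [], []⟩)) (.node (.leaf ⟨nat_lit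 0, nat_lit 1, nat_lit 1, nat_lit 0, nat_lit 0x6524c338522, nat_lit 0x3404c23a167, [], [], []⟩) (.leaf ⟨nat_lit 0, nat_lit 1, nat_lit 1, nat_lit 0, nat_lit 0x44910d5a46811501, nat_lit 0xa82a4950d49505, [], [], []⟩))))

noncomputable def F29 : GT Fa := .node (.node (.node (.node (.node (.leaf ⟨nat_lit 0, nat_lit 1, nat_lit 1, nat_lit 0, nat_lit 0xa32b082, nat_lit 0x18c9091aa0a0c4, [], [], []⟩) (.leaf ⟨nat_lit 0, nat_lit 1, nat_lit 1, nat_lit 0, nat_lit 0x23ad03210e4, nat_lit 0x5314a24a8c3, [], [], []⟩)) (.leaf ⟨nat_lit 0, nat_lit 1, nat_lit 1, nat_lit 0, nat_lit 0x186a620c320481, nat_lit 0xc619ced38468, [], [], []⟩)) (.node (.node (.leaf ⟨nat_lit 0, nat_lit 1, nat_lit 1, nat_lit 0, nat_lit 0xe7490233b162, nat_lit 0x330d0d48d464a4c1, [], [], []⟩) (.leaf ⟨nat_lit 0, nat_lit 3, nat_lit 3, nat_lit 0, nat_lit 0x1106d4898719083, nat_lit 0x119da439c6561907, [], [], []⟩)) (.leaf ⟨nat_lit 0, nat_lit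 1, nat_lit 1, nat_lit 0, nat_lit 0x335064310c20941, nat_lit 0x14950d11da158964, [], [], []⟩))) (.node (.node (.node (.leaf ⟨nat_lit 0, nat_lit 1, nat_lit 1, nat_lit 0, nat_lit 0x58d08095275b082, nat_lit 0x1d2b6a10658461, [], [], []⟩) (.leaf ⟨nat_lit 0, nat_lit 1, nat_lit 1, nat_lit 0, nat_lit 0x120c8408c233162, nat_lit 0x1a82d4a4473b081, [], [], []⟩)) (.leaf ⟨nat_lit 0, nat_lit 1, nat_lit 1, nat_lit 0, nat_lit 0x205461a9023b162, nat_lit 0x4e569023288e4, [], [], []⟩)) (.node (.node (.leaf ⟨nat_lit 0, nat_lit 1, nat_lit 1, nat_lit 0, nat_lit 0x534c90898850924, nat_lit 0x1395a9104e531822, [], [], []⟩) (.leaf ⟨nat_lit 1, nat_lit 5, nat_lit 5, nat_lit 0x55a1a228d8b11504, nat_lit 0x33b52a130a619464, nat_lit 0x1050628d265b104, [], [], []⟩)) (.leaf ⟨nat_lit 0, nat_lit 1, nat_lit 1, nat_lit 0, nat_lit 0x1418ad12c2841441, nat_lit 0x144a6a4451b04a, [], [], []⟩)))) (.node (.node (.node (.node (.leaf ⟨nat_lit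 0, nat_lit 1, nat_lit 1, nat_lit 0, nat_lit 0x2a420e728482, nat_lit 0x65090c64a561, [], [], []⟩) (.leaf ⟨nat_lit 0, nat_lit 1, nat_lit 1, nat_lit 0, nat_lit 0x23521054a562, nat_lit 0x6a420894ac41, [], [], []⟩)) (.leaf ⟨nat_lit 0, nat_lit 1, nat_lit 1, nat_lit 0, nat_lit 0x20a1661a543, nat_lit 0x25a04752423, [], [], []⟩)) (.node (.node (.leaf ⟨nat_lit 0, nat_lit 1, nat_lit 1, nat_lit 0, nat_lit 0x2054811c86, nat_lit 0x394c34ac25, [], [], []⟩) (.leaf ⟨nat_lit 1, nat_lit 4, nat_lit 4, nat_lit 0xa6a5a61982922141, nat_lit 0x51848d115854b0a2, nat_lit 0x3490c668d620898b, [], [], []⟩)) (.leaf ⟨nat_lit 0, nat_lit 1, nat_lit 1, nat_lit 0, nat_lit 0x4ad0d21d4140ca2, nat_lit 0x125a81986a130eb, [], [], []⟩))) (.node (.node (.node (.leaf ⟨nat_lit 0, nat_lit 1, nat_lit 1, nat_lit 0, nat_lit 0x29c864a4c543082, nat_lit 0x32b44159d0760541, [], [], []⟩) (.leaf ⟨nat_lit 2, nat_lit 0, nat_lit 0, nat_lit 0x11d066a10a0a067,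 nat_lit 0, nat_lit 0, [], [], [nat_lit 0x82a328c41b168, nat_lit 0xa568d4268c2911c81, nat_lit 2471]⟩)) (.leaf ⟨nat_lit 0, nat_lit 1, nat_lit 1, nat_lit 0, nat_lit 0x1449494c44b082, nat_lit 0x89a66a54d12481, [], [], []⟩)) (.node (.leaf ⟨nat_lit 0, nat_lit 1, nat_lit 1, nat_lit 0, nat_lit 0x11ce22258238c82, nat_lit 0x1395a359d05198c3, [], [], []⟩) (.leaf ⟨nat_lit 0, nat_lit 1, nat_lit 1, nat_lit 0, nat_lit 0x255254440561, nat_lit 0x2a0a4ab42c81, [], [], []⟩))))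

noncomputable def F30 : GT Fa := .node (.node (.node (.node (.node (.leaf ⟨nat_lit 0, nat_lit 1, nat_lit 1, nat_lit 0, nat_lit 0x4a32b082, nat_lit 0x9d4d1a0ea38822, [], [], []⟩) (.leaf ⟨nat_lit 0, nat_lit 1, nat_lit 1, nat_lit 0, nat_lit 0x2342c6652563, nat_lit 0x4a42ce252441, [], [], []⟩)) (.leaf ⟨nat_lit 0, nat_lit 1, nat_lit 1, nat_lit 0, nat_lit 0x119d4259ca9, nat_lit 0x82194359841, [], [], []⟩)) (.node (.node (.leaf ⟨nat_lit 0, nat_lit 1, nat_lit 1, nat_lit 0, nat_lit 0x35242b1b1640a144, nat_lit 0xa9a869ced3a424, [], [], []⟩) (.leaf ⟨nat_lit 0, nat_lit 3, nat_lit 3, nat_lit 0, nat_lit 0x5186511ca1, nat_lit 0x474a4223a901, [], [], []⟩)) (.leaf ⟨nat_lit 0, nat_lit 1, nat_lit 1, nat_lit 0, nat_lit 0xd6250c8c388c3, nat_lit 0x910b1a1a8524c8, [], [], []⟩))) (.node (.node (.node (.leaf ⟨nat_lit 0, nat_lit 1, nat_lit 1, nat_lit 0, nat_lit 0x311275a06b43082, nat_lit 0x1395a63156151c44, [], [],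 []⟩) (.leaf ⟨nat_lit 0, nat_lit 1, nat_lit 1, nat_lit 0, nat_lit 0x24128e53a441, nat_lit 0x234188658ca1, [], [], []⟩)) (.leaf ⟨nat_lit 0, nat_lit 1, nat_lit 1, nat_lit 0, nat_lit 0x208e92204a3b162, nat_lit 0x26904509ca861841, [], [], []⟩)) (.node (.node (.leaf ⟨nat_lit 0, nat_lit 1, nat_lit 1, nat_lit 0, nat_lit 0x59841198cb, nat_lit 0x51ce208cea, [], [], []⟩) (.leaf ⟨nat_lit 1, nat_lit 4, nat_lit 5, nat_lit 0x15892b48d4661124, nat_lit 0x1125695892961581, nat_lit 0x691a7414c938d03, [], [], []⟩)) (.leaf ⟨nat_lit 0, nat_lit 1, nat_lit 1, nat_lit 0, nat_lit 0x82a4c648d4c42d21, nat_lit 0x9c814b46641d8b, [], [], []⟩)))) (.node (.node (.node (.node (.leaf ⟨nat_lit 0, nat_lit 1, nat_lit 1, nat_lit 0, nat_lit 0x55186441ce3, nat_lit 0x23192511d64, [], [], []⟩) (.leaf ⟨nat_lit 0, nat_lit 1, nat_lit 1, nat_lit 0, nat_lit 0xa94a56619942, nat_lit 0x6b388ea42104, [], [], []⟩)) (.leaf ⟨nat_lit 0, nat_lit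 1, nat_lit 1, nat_lit 0, nat_lit 0x220a1661a543, nat_lit 0x4b408ea48461, [], [], []⟩)) (.node (.node (.leaf ⟨nat_lit 0, nat_lit 1, nat_lit 1, nat_lit 0, nat_lit 0x16152163504a3, nat_lit 0x440ac4a4ac2a, [], [], []⟩) (.leaf ⟨nat_lit 1, nat_lit 4, nat_lit 4, nat_lit 0x236a1a7114e858d01, nat_lit 0xd120833a8e561041, nat_lit 0x22a423419a40a0c1, [], [], []⟩)) (.leaf ⟨nat_lit 0, nat_lit 1, nat_lit 1, nat_lit 0, nat_lit 0x28241a8cb1b0c3, nat_lit 0x11da350ca64a925, [], [], []⟩))) (.node (.node (.node (.leaf ⟨nat_lit 0, nat_lit 1, nat_lit 1, nat_lit 0, nat_lit 0x6110e25a0e3, nat_lit 0x23254331467, [], [], []⟩) (.leaf ⟨nat_lit 0, nat_lit 2, nat_lit 2, nat_lit 0, nat_lit 0x130d6d41c234b101, nat_lit 0x1484652b449120e1, [], [], []⟩)) (.leaf ⟨nat_lit 0, nat_lit 1, nat_lit 1, nat_lit 0, nat_lit 0x10b408a93b162, nat_lit 0x13a9a22a0a748c81, [], [], []⟩)) (.node (.leaf ⟨nat_lit 0, nat_lit 1, nat_lit 1, nat_lit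 0, nat_lit 0x53a5462a448, nat_lit 0x91a0875a0c4, [], [], []⟩) (.leaf ⟨nat_lit 0, nat_lit 1, nat_lit 1, nat_lit 0, nat_lit 0x11298238c83, nat_lit 0x94d1a08238824, [], [], []⟩))))

noncomputable def F31 : GT Fa := .node (.node (.node (.node (.node (.leaf ⟨nat_lit 0, nat_lit 1, nat_lit 1, nat_lit 0, nat_lit 0x204a32b082, nat_lit 0x3242269da348ce4, [], [], []⟩) (.leaf ⟨nat_lit 0, nat_lit 1, nat_lit 1, nat_lit 0, nat_lit 0x2a3292309083, nat_lit 0x452844859d61, [], [], []⟩)) (.leaf ⟨nat_lit 0, nat_lit 1, nat_lit 1, nat_lit 0, nat_lit 0xa4ac8821024, nat_lit 0x5094a92a90b, [], [], []⟩)) (.node (.node (.leaf ⟨nat_lit 0, nat_lit 1, nat_lit 1, nat_lit 0, nat_lit 0x10232b082, nat_lit 0x1944619942610c5, [], [], []⟩) (.leaf ⟨nat_lit 0, nat_lit 3, nat_lit 3, nat_lit 0, nat_lit 0x8351ce112563, nat_lit 0x719846324a1, [], [], []⟩)) (.leaf ⟨nat_lit 0, nat_lit 1, nat_lit 1, nat_lit 0, nat_lit 0x44912912cc8, nat_lit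 0x93a86841505, [], [], []⟩))) (.node (.node (.node (.leaf ⟨nat_lit 0, nat_lit 1, nat_lit 1, nat_lit 0, nat_lit 0x2548d0758cc1, nat_lit 0x27128c912081, [], [], []⟩) (.leaf ⟨nat_lit 0, nat_lit 1, nat_lit 1, nat_lit 0, nat_lit 0x894912825, nat_lit 0x2056342c61, [], [], []⟩)) (.leaf ⟨nat_lit 0, nat_lit 1, nat_lit 1, nat_lit 0, nat_lit 0x11b46a1b0485b0e1, nat_lit 0x121ca26a4611b0c1, [], [], []⟩)) (.node (.node (.leaf ⟨nat_lit 0, nat_lit 1, nat_lit 1, nat_lit 0, nat_lit 0x21d02324c9, nat_lit 0x41d071a4c5, [], [], []⟩) (.leaf ⟨nat_lit 1, nat_lit 5, nat_lit 5, nat_lit 0x32c4859cec50506, nat_lit 0x359c8960d0a31181, nat_lit 0x67209616ad8440d62, [], [], []⟩)) (.leaf ⟨nat_lit 0, nat_lit 1, nat_lit 1, nat_lit 0, nat_lit 0x28484, nat_lit 0x29424, [], [], []⟩)))) (.node (.node (.node (.node (.leaf ⟨nat_lit 0, nat_lit 1, nat_lit 1, nat_lit 0, nat_lit 0x1984720d42, nat_lit 0x1ac4530ce2, [], [], []⟩) (.leaf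 ⟨nat_lit 0, nat_lit 1, nat_lit 1, nat_lit 0, nat_lit 0x50902b, nat_lit 0xa09424, [], [], []⟩)) (.leaf ⟨nat_lit 0, nat_lit 1, nat_lit 1, nat_lit 0, nat_lit 0x5484ac20501, nat_lit 0x22944d2048628501, [], [], []⟩)) (.node (.node (.leaf ⟨nat_lit 0, nat_lit 1, nat_lit 1, nat_lit 0, nat_lit 0x1902a4912433082, nat_lit 0x1395a90a16148ce1, [], [], []⟩) (.leaf ⟨nat_lit 1, nat_lit 4, nat_lit 4, nat_lit 0x5494676216721d01, nat_lit 0x2099681908661884, nat_lit 0x674102d2a4c2, [], [], []⟩)) (.leaf ⟨nat_lit 0, nat_lit 1, nat_lit 1, nat_lit 0, nat_lit 0x184eb60522628e4, nat_lit 0x5b5296a5a25a0e3, [], [], []⟩))) (.node (.node (.node (.leaf ⟨nat_lit 0, nat_lit 1, nat_lit 1, nat_lit 0, nat_lit 0x5599060a4e2, nat_lit 0x33202749d44, [], [], []⟩) (.leaf ⟨nat_lit 2, nat_lit 0, nat_lit 0, nat_lit 6531, nat_lit 0, nat_lit 0, [], [], [nat_lit 0x1324681b08410501, nat_lit 2471, nat_lit 0x14b5020992c508e1]⟩)) (.leaf ⟨nat_lit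 0, nat_lit 1, nat_lit 1, nat_lit 0, nat_lit 0x184ca19d4833162, nat_lit 0x90482a5a62a561, [], [], []⟩)) (.node (.leaf ⟨nat_lit 0, nat_lit 1, nat_lit 1, nat_lit 0, nat_lit 0xa3a4a2590e3, nat_lit 0x231543220cb, [], [], []⟩) (.leaf ⟨nat_lit 0, nat_lit 1, nat_lit 1, nat_lit 0, nat_lit 0x339c2542883, nat_lit 0x22ad24098c2, [], [], []⟩))))

noncomputable def F : GT Fa := (.node (.node (.node (.node (.node F0 F16) (.node F8 F24)) (.node (.node F4 F20) (.node F12 F28))) (.node (.node (.node F2 F18) (.node F10 F26)) (.node (.node F6 F22) (.node F14 F30)))) (.node (.node (.node (.node F1 F17) (.node F9 F25)) (.node (.node F5 F21) (.node F13 F29))) (.node (.node (.node F3 F19) (.node F11 F27)) (.node (.node F7 F23) (.node F15 F31)))))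

noncomputable def W0 : GT (List ℕ) := .node (.node (.node (.leaf ([])) (.leaf ([nat_lit 13, nat_lit 5, nat_lit 13]))) (.node (.leaf ([nat_lit 13, nat_lit 2, nat_lit 11, nat_lit 5, nat_lit 13])) (.leaf ([nat_lit 13, nat_lit 1, nat_lit 0, nat_lit 13, nat_lit 1, nat_lit 13])))) (.node (.node (.leaf ([nat_lit 13])) (.leaf ([nat_lit 13, nat_lit 2, nat_lit 11, nat_lit 2, nat_lit 9, nat_lit 13, nat_lit 1, nat_lit 13]))) (.leaf ([nat_lit 13, nat_lit 1, nat_lit 13])))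

noncomputable def W : GT (List ℕ) := W0

/-- the relators with the new generator -/
def R : List (List ℕ × List ℕ × List ℕ) := [([nat_lit 13, nat_lit 13], [], []),
  ([nat_lit 14, nat_lit 4, nat_lit 13, nat_lit 3], [], []),
  ([nat_lit 14, nat_lit 0, nat_lit 13, nat_lit 0], [], []),
  ([nat_lit 1, nat_lit 6, nat_lit 13, nat_lit 5, nat_lit 1, nat_lit 6, nat_lit 13, nat_lit 5, nat_lit 1, nat_lit 6, nat_lit 13, nat_lit 5], [], []),
  ([nat_lit 9, nat_lit 13, nat_lit 8, nat_lit 13, nat_lit 7, nat_lit 9, nat_lit 13, nat_lit 8, nat_lit 13, nat_lit 7], [], []),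
  ([nat_lit 13, nat_lit 1, nat_lit 3, nat_lit 11, nat_lit 4, nat_lit 2, nat_lit 13, nat_lit 2, nat_lit 6, nat_lit 2, nat_lit 6, nat_lit 2, nat_lit 3, nat_lit 6, nat_lit 2, nat_lit 6, nat_lit 6, nat_lit 0, nat_lit 3, nat_lit 12, nat_lit 4, nat_lit 0, nat_lit 5], [], []),
  ([nat_lit 12, nat_lit 13, nat_lit 1, nat_lit 0, nat_lit 1, nat_lit 0, nat_lit 1, nat_lit 0, nat_lit 1, nat_lit 0, nat_lit 2, nat_lit 0, nat_lit 1, nat_lit 0, nat_lit 1, nat_lit 0, nat_lit 2, nat_lit 0, nat_lit 2, nat_lit 0, nat_lit 2, nat_lit 0, nat_lit 2, nat_lit 13, nat_lit 1, nat_lit 0, nat_lit 1, nat_lit 0, nat_lit 1, nat_lit 0, nat_lit 1, nat_lit 0, nat_lit 2, nat_lit 0, nat_lit 1, nat_lit 0, nat_lit 1, nat_lit 0, nat_lit 2, nat_lit 0, nat_lit 2, nat_lit 0, nat_lit 2, nat_lit 0, nat_lit 2, nat_lit 13, nat_lit 1, nat_lit 0, nat_lit 9, nat_lit 1, nat_lit 5, nat_lit 2], [], [])]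

/-- the data -/
noncomputable def P : Par := ⟨J4Act.T, nat_lit 13, fun y => Nat.land (Nat.shiftRight (nat_lit 0x35cb62547414c320440) (Nat.mul (nat_lit 5) y)) (nat_lit 31), [nat_lit 0, nat_lit 277, nat_lit 318, nat_lit 355], nat_lit 0, nat_lit 0, [], [], F.get, W.get, R⟩

def D0 : List De := [⟨nat_lit 2, nat_lit 0, nat_lit 0, nat_lit 0, false, nat_lit 0⟩,
  ⟨nat_lit 3, nat_lit 0, nat_lit 0, nat_lit 1, false, nat_lit 0⟩,
  ⟨nat_lit 1, nat_lit 0, nat_lit 0, nat_lit 0, false, nat_lit 0⟩,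
  ⟨nat_lit 0, nat_lit 4, nat_lit 0x2000000000020000000000013000000000004, nat_lit 0, false, nat_lit 0⟩,
  ⟨nat_lit 3, nat_lit 0, nat_lit 0, nat_lit 2, false, nat_lit 0⟩,
  ⟨nat_lit 1, nat_lit 0, nat_lit 0, nat_lit 0, false, nat_lit 0⟩,
  ⟨nat_lit 0, nat_lit 4, nat_lit 0x2000000000050000000000043000000000004, nat_lit 0, false, nat_lit 0⟩,
  ⟨nat_lit 3, nat_lit 0, nat_lit 0, nat_lit 3, true, nat_lit 5⟩,
  ⟨nat_lit 3, nat_lit 0, nat_lit 0, nat_lit 4, false, nat_lit 1⟩,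
  ⟨nat_lit 3, nat_lit 0, nat_lit 0, nat_lit 4, false, nat_lit 3⟩,
  ⟨nat_lit 3, nat_lit 0, nat_lit 0, nat_lit 4, false, nat_lit 6⟩,
  ⟨nat_lit 3, nat_lit 0, nat_lit 0, nat_lit 5, false, nat_lit 0⟩,
  ⟨nat_lit 1, nat_lit 0, nat_lit 0, nat_lit 0, false, nat_lit 0⟩,
  ⟨nat_lit 0, nat_lit 4, nat_lit 0x20000000000c00000000000b3000000000004, nat_lit 0, false, nat_lit 0⟩,
  ⟨nat_lit 3, nat_lit 0, nat_lit 0, nat_lit 6, false, nat_lit 45⟩,
  ⟨nat_lit 3, nat_lit 0, nat_lit 0, nat_lit 6, true, nat_lit 6⟩,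
  ⟨nat_lit 3, nat_lit 0, nat_lit 0, nat_lit 6, true, nat_lit 28⟩,
  ⟨nat_lit 3, nat_lit 0, nat_lit 0, nat_lit 6, true, nat_lit 50⟩,
  ⟨nat_lit 0, nat_lit 40, nat_lit 0x38000000000068000000000038000000000068000000000030000000000068000000000038000000000068000000000038000000000068000000000038000000000068000000000060000000000068000000000038000000000068000000000030000000000068000000000030000000000068000000000038000000000068000000000038000000000068000000000038000000000068000000000030000000000068000000000030000000000068000000000038000000000068000000000030000000000068000000000030000000000068000000000038000000000068000000000038000000000038, nat_lit 0, false, nat_lit 0⟩,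
  ⟨nat_lit 0, nat_lit 16, nat_lit 0x68000000000120000000000030000000000128000000000038000000000120000000000030000000000128000000000068000000000030000000000128000000000038000000000068000000000038000000000128000000000068, nat_lit 0, false, nat_lit 0⟩,
  ⟨nat_lit 0, nat_lit 21, nat_lit 0x38000000000038000000000068000000000130000000000120000000000030000000000130000000000120000000000130000000000030000000000138000000000030000000000030000000000128000000000138000000000128000000000038000000000138000000000068000000000138000000000128, nat_lit 0, false, nat_lit 0⟩,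
  ⟨nat_lit 0, nat_lit 32, nat_lit 0x30000000000068000000000038000000000038000000000068000000000038000000000038000000000068000000000038000000000038000000000038000000000068000000000038000000000068000000000038000000000068000000000038000000000068000000000038000000000038000000000068000000000030000000000068000000000030000000000060000000000030000000000068000000000038000000000038000000000068000000000030000000000068, nat_lit 0, false, nat_lit 0⟩,
  ⟨nat_lit 0, nat_lit 22, nat_lit 0x38000000000038000000000158000000000030000000000068000000000030000000000158000000000158000000000038000000000158000000000030000000000150000000000038000000000068000000000030000000000158000000000030000000000150000000000038000000000068000000000158000000000068, nat_lit 0, false, nat_lit 0⟩,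
  ⟨nat_lit 0, nat_lit 26, nat_lit 0x38000000000150000000000030000000000158000000000158000000000068000000000158000000000158000000000168000000000158000000000158000000000168000000000038000000000168000000000038000000000038000000000158000000000158000000000168000000000158000000000158000000000038000000000168000000000030000000000068000000000150, nat_lit 0, false, nat_lit 0⟩,
  ⟨nat_lit 0, nat_lit 2, nat_lit 0x1600000000000d0, nat_lit 0, false, nat_lit 0⟩,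
  ⟨nat_lit 0, nat_lit 2, nat_lit 0x30000000000180, nat_lit 0, false, nat_lit 0⟩,
  ⟨nat_lit 0, nat_lit 2, nat_lit 0x178000000000038, nat_lit 0, false, nat_lit 0⟩,
  ⟨nat_lit 0, nat_lit 2, nat_lit 0x150000000000150, nat_lit 0, false, nat_lit 0⟩,
  ⟨nat_lit 0, nat_lit 2, nat_lit 0x1600000000001b0, nat_lit 0, false, nat_lit 0⟩,
  ⟨nat_lit 0, nat_lit 2, nat_lit 0x300000000000d0, nat_lit 0, false, nat_lit 0⟩,
  ⟨nat_lit 0, nat_lit 2, nat_lit 0x600000000001d0, nat_lit 0, false, nat_lit 0⟩,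
  ⟨nat_lit 0, nat_lit 2, nat_lit 0x380000000001e0, nat_lit 0, false, nat_lit 0⟩,
  ⟨nat_lit 0, nat_lit 2, nat_lit 0x1780000000001f0, nat_lit 0, false, nat_lit 0⟩,
  ⟨nat_lit 0, nat_lit 2, nat_lit 0x30000000000060, nat_lit 0, false, nat_lit 0⟩,
  ⟨nat_lit 0, nat_lit 2, nat_lit 0x178000000000210, nat_lit 0, false, nat_lit 0⟩,
  ⟨nat_lit 0, nat_lit 2, nat_lit 0x160000000000220, nat_lit 0, false, nat_lit 0⟩,
  ⟨nat_lit 0, nat_lit 2, nat_lit 0x1580000000001c0, nat_lit 0, false, nat_lit 0⟩,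
  ⟨nat_lit 0, nat_lit 2, nat_lit 0x178000000000240, nat_lit 0, false, nat_lit 0⟩,
  ⟨nat_lit 1, nat_lit 0, nat_lit 0, nat_lit 0, false, nat_lit 0⟩,
  ⟨nat_lit 0, nat_lit 7, nat_lit 0x200000000026000000000000a000000000201000000000231000000000251000000000073, nat_lit 0, false, nat_lit 0⟩,
  ⟨nat_lit 4, nat_lit 0, nat_lit 0, nat_lit 39, false, nat_lit 14⟩,
  ⟨nat_lit 4, nat_lit 0, nat_lit 0, nat_lit 39, false, nat_lit 28⟩,
  ⟨nat_lit 4, nat_lit 0, nat_lit 0, nat_lit 39, true, nat_lit 17⟩,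
  ⟨nat_lit 4, nat_lit 0, nat_lit 0, nat_lit 39, true, nat_lit 31⟩,
  ⟨nat_lit 0, nat_lit 2, nat_lit 0x1780000000001b0, nat_lit 0, false, nat_lit 0⟩,
  ⟨nat_lit 0, nat_lit 2, nat_lit 0xd0000000000180, nat_lit 0, false, nat_lit 0⟩,
  ⟨nat_lit 0, nat_lit 2, nat_lit 0x170000000000038, nat_lit 0, false, nat_lit 0⟩,
  ⟨nat_lit 0, nat_lit 2, nat_lit 0x170000000000150, nat_lit 0, false, nat_lit 0⟩,
  ⟨nat_lit 0, nat_lit 2, nat_lit 0x1600000000002f0, nat_lit 0, false, nat_lit 0⟩,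
  ⟨nat_lit 0, nat_lit 2, nat_lit 0x600000000000d0, nat_lit 0, false, nat_lit 0⟩,
  ⟨nat_lit 0, nat_lit 2, nat_lit 0x178000000000310, nat_lit 0, false, nat_lit 0⟩,
  ⟨nat_lit 0, nat_lit 2, nat_lit 0x178000000000030, nat_lit 0, false, nat_lit 0⟩,
  ⟨nat_lit 0, nat_lit 2, nat_lit 0x38000000000330, nat_lit 0, false, nat_lit 0⟩,
  ⟨nat_lit 0, nat_lit 2, nat_lit 0x158000000000310, nat_lit 0, false, nat_lit 0⟩,
  ⟨nat_lit 0, nat_lit 2, nat_lit 0x160000000000350, nat_lit 0, false, nat_lit 0⟩,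
  ⟨nat_lit 0, nat_lit 2, nat_lit 0x160000000000150, nat_lit 0, false, nat_lit 0⟩,
  ⟨nat_lit 0, nat_lit 2, nat_lit 0x158000000000370, nat_lit 0, false, nat_lit 0⟩,
  ⟨nat_lit 0, nat_lit 2, nat_lit 0x380000000000d0, nat_lit 0, false, nat_lit 0⟩,
  ⟨nat_lit 0, nat_lit 2, nat_lit 0x150000000000390, nat_lit 0, false, nat_lit 0⟩,
  ⟨nat_lit 0, nat_lit 2, nat_lit 0x380000000003a0, nat_lit 0, false, nat_lit 0⟩,
  ⟨nat_lit 0, nat_lit 2, nat_lit 0x158000000000038, nat_lit 0, false, nat_lit 0⟩,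
  ⟨nat_lit 0, nat_lit 2, nat_lit 0x600000000003c0, nat_lit 0, false, nat_lit 0⟩,
  ⟨nat_lit 0, nat_lit 2, nat_lit 0x1600000000003d0, nat_lit 0, false, nat_lit 0⟩,
  ⟨nat_lit 0, nat_lit 2, nat_lit 0x178000000000158, nat_lit 0, false, nat_lit 0⟩,
  ⟨nat_lit 0, nat_lit 2, nat_lit 0xd00000000003a0, nat_lit 0, false, nat_lit 0⟩,
  ⟨nat_lit 0, nat_lit 2, nat_lit 0x1500000000000d0, nat_lit 0, false, nat_lit 0⟩,
  ⟨nat_lit 0, nat_lit 2, nat_lit 0x150000000000410, nat_lit 0, false, nat_lit 0⟩,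
  ⟨nat_lit 0, nat_lit 2, nat_lit 0x38000000000420, nat_lit 0, false, nat_lit 0⟩,
  ⟨nat_lit 0, nat_lit 2, nat_lit 0xd0000000000430, nat_lit 0, false, nat_lit 0⟩,
  ⟨nat_lit 0, nat_lit 2, nat_lit 0x160000000000030, nat_lit 0, false, nat_lit 0⟩,
  ⟨nat_lit 0, nat_lit 2, nat_lit 0x38000000000450, nat_lit 0, false, nat_lit 0⟩,
  ⟨nat_lit 0, nat_lit 2, nat_lit 0x170000000000460, nat_lit 0, false, nat_lit 0⟩,
  ⟨nat_lit 0, nat_lit 2, nat_lit 0x30000000000470, nat_lit 0, false, nat_lit 0⟩,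
  ⟨nat_lit 0, nat_lit 2, nat_lit 0x1700000000001b0, nat_lit 0, false, nat_lit 0⟩,
  ⟨nat_lit 0, nat_lit 2, nat_lit 0x150000000000490, nat_lit 0, false, nat_lit 0⟩,
  ⟨nat_lit 0, nat_lit 2, nat_lit 0x1700000000004a0, nat_lit 0, false, nat_lit 0⟩,
  ⟨nat_lit 1, nat_lit 0, nat_lit 0, nat_lit 0, false, nat_lit 0⟩,
  ⟨nat_lit 0, nat_lit 7, nat_lit 0x20000000004c000000000000a0000000004410000000004810000000004b1000000000103, nat_lit 0, false, nat_lit 0⟩,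
  ⟨nat_lit 4, nat_lit 0, nat_lit 0, nat_lit 77, false, nat_lit 0⟩,
  ⟨nat_lit 4, nat_lit 0, nat_lit 0, nat_lit 77, true, nat_lit 6⟩,
  ⟨nat_lit 4, nat_lit 0, nat_lit 0, nat_lit 77, true, nat_lit 34⟩,
  ⟨nat_lit 0, nat_lit 2, nat_lit 0x158000000000180, nat_lit 0, false, nat_lit 0⟩,
  ⟨nat_lit 0, nat_lit 2, nat_lit 0xd0000000000510, nat_lit 0, false, nat_lit 0⟩,
  ⟨nat_lit 0, nat_lit 2, nat_lit 0x158000000000030, nat_lit 0, false, nat_lit 0⟩,
  ⟨nat_lit 0, nat_lit 2, nat_lit 0x30000000000530, nat_lit 0, false, nat_lit 0⟩,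
  ⟨nat_lit 0, nat_lit 2, nat_lit 0x160000000000158, nat_lit 0, false, nat_lit 0⟩,
  ⟨nat_lit 0, nat_lit 2, nat_lit 0x1580000000001d0, nat_lit 0, false, nat_lit 0⟩,
  ⟨nat_lit 0, nat_lit 2, nat_lit 0x60000000000038, nat_lit 0, false, nat_lit 0⟩,
  ⟨nat_lit 0, nat_lit 2, nat_lit 0x30000000000570, nat_lit 0, false, nat_lit 0⟩,
  ⟨nat_lit 0, nat_lit 2, nat_lit 0x150000000000550, nat_lit 0, false, nat_lit 0⟩,
  ⟨nat_lit 0, nat_lit 2, nat_lit 0xd00000000001e0, nat_lit 0, false, nat_lit 0⟩,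
  ⟨nat_lit 0, nat_lit 2, nat_lit 0x30000000000030, nat_lit 0, false, nat_lit 0⟩,
  ⟨nat_lit 0, nat_lit 2, nat_lit 0x1500000000005b0, nat_lit 0, false, nat_lit 0⟩,
  ⟨nat_lit 0, nat_lit 2, nat_lit 0x1580000000000d0, nat_lit 0, false, nat_lit 0⟩,
  ⟨nat_lit 0, nat_lit 2, nat_lit 0x380000000005d0, nat_lit 0, false, nat_lit 0⟩,
  ⟨nat_lit 0, nat_lit 2, nat_lit 0x60000000000330, nat_lit 0, false, nat_lit 0⟩,
  ⟨nat_lit 0, nat_lit 2, nat_lit 0x1580000000005f0, nat_lit 0, false, nat_lit 0⟩,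
  ⟨nat_lit 0, nat_lit 2, nat_lit 0x178000000000150, nat_lit 0, false, nat_lit 0⟩,
  ⟨nat_lit 0, nat_lit 2, nat_lit 0x158000000000390, nat_lit 0, false, nat_lit 0⟩,
  ⟨nat_lit 0, nat_lit 2, nat_lit 0x150000000000060, nat_lit 0, false, nat_lit 0⟩,
  ⟨nat_lit 0, nat_lit 2, nat_lit 0x1500000000002f0, nat_lit 0, false, nat_lit 0⟩,
  ⟨nat_lit 0, nat_lit 2, nat_lit 0x1700000000000d0, nat_lit 0, false, nat_lit 0⟩,
  ⟨nat_lit 0, nat_lit 2, nat_lit 0x38000000000650, nat_lit 0, false, nat_lit 0⟩,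
  ⟨nat_lit 0, nat_lit 2, nat_lit 0x1500000000001d0, nat_lit 0, false, nat_lit 0⟩,
  ⟨nat_lit 0, nat_lit 2, nat_lit 0x30000000000670, nat_lit 0, false, nat_lit 0⟩,
  ⟨nat_lit 0, nat_lit 2, nat_lit 0x30000000000680, nat_lit 0, false, nat_lit 0⟩,
  ⟨nat_lit 0, nat_lit 2, nat_lit 0x170000000000160, nat_lit 0, false, nat_lit 0⟩,
  ⟨nat_lit 0, nat_lit 2, nat_lit 0x160000000000390, nat_lit 0, false, nat_lit 0⟩,
  ⟨nat_lit 0, nat_lit 2, nat_lit 0x160000000000530, nat_lit 0, false, nat_lit 0⟩,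
  ⟨nat_lit 0, nat_lit 2, nat_lit 0x300000000006c0, nat_lit 0, false, nat_lit 0⟩,
  ⟨nat_lit 0, nat_lit 2, nat_lit 0x170000000000158, nat_lit 0, false, nat_lit 0⟩,
  ⟨nat_lit 0, nat_lit 2, nat_lit 0x160000000000410, nat_lit 0, false, nat_lit 0⟩,
  ⟨nat_lit 0, nat_lit 2, nat_lit 0xd00000000006f0, nat_lit 0, false, nat_lit 0⟩,
  ⟨nat_lit 0, nat_lit 2, nat_lit 0x170000000000640, nat_lit 0, false, nat_lit 0⟩,
  ⟨nat_lit 0, nat_lit 2, nat_lit 0x170000000000310, nat_lit 0, false, nat_lit 0⟩,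
  ⟨nat_lit 0, nat_lit 2, nat_lit 0x1600000000006e0, nat_lit 0, false, nat_lit 0⟩,
  ⟨nat_lit 0, nat_lit 2, nat_lit 0xd00000000001d0, nat_lit 0, false, nat_lit 0⟩,
  ⟨nat_lit 0, nat_lit 2, nat_lit 0x178000000000740, nat_lit 0, false, nat_lit 0⟩,
  ⟨nat_lit 0, nat_lit 2, nat_lit 0x150000000000570, nat_lit 0, false, nat_lit 0⟩,
  ⟨nat_lit 0, nat_lit 2, nat_lit 0x150000000000760, nat_lit 0, false, nat_lit 0⟩,
  ⟨nat_lit 0, nat_lit 2, nat_lit 0x150000000000160, nat_lit 0, false, nat_lit 0⟩,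
  ⟨nat_lit 0, nat_lit 2, nat_lit 0x300000000001d0, nat_lit 0, false, nat_lit 0⟩,
  ⟨nat_lit 0, nat_lit 2, nat_lit 0x1600000000005b0, nat_lit 0, false, nat_lit 0⟩,
  ⟨nat_lit 0, nat_lit 2, nat_lit 0x60000000000790, nat_lit 0, false, nat_lit 0⟩,
  ⟨nat_lit 0, nat_lit 2, nat_lit 0x178000000000380, nat_lit 0, false, nat_lit 0⟩,
  ⟨nat_lit 0, nat_lit 2, nat_lit 0x30000000000410, nat_lit 0, false, nat_lit 0⟩,
  ⟨nat_lit 0, nat_lit 2, nat_lit 0x150000000000038, nat_lit 0, false, nat_lit 0⟩,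
  ⟨nat_lit 0, nat_lit 2, nat_lit 0x1500000000007e0, nat_lit 0, false, nat_lit 0⟩,
  ⟨nat_lit 0, nat_lit 2, nat_lit 0xd00000000005d0, nat_lit 0, false, nat_lit 0⟩,
  ⟨nat_lit 0, nat_lit 2, nat_lit 0x160000000000800, nat_lit 0, false, nat_lit 0⟩,
  ⟨nat_lit 0, nat_lit 2, nat_lit 0x60000000000030, nat_lit 0, false, nat_lit 0⟩,
  ⟨nat_lit 0, nat_lit 2, nat_lit 0x150000000000820, nat_lit 0, false, nat_lit 0⟩,
  ⟨nat_lit 0, nat_lit 2, nat_lit 0xd0000000000790, nat_lit 0, false, nat_lit 0⟩,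
  ⟨nat_lit 0, nat_lit 2, nat_lit 0x150000000000030, nat_lit 0, false, nat_lit 0⟩,
  ⟨nat_lit 0, nat_lit 2, nat_lit 0x30000000000850, nat_lit 0, false, nat_lit 0⟩,
  ⟨nat_lit 0, nat_lit 2, nat_lit 0x60000000000350, nat_lit 0, false, nat_lit 0⟩,
  ⟨nat_lit 0, nat_lit 2, nat_lit 0x150000000000780, nat_lit 0, false, nat_lit 0⟩,
  ⟨nat_lit 0, nat_lit 2, nat_lit 0x170000000000530, nat_lit 0, false, nat_lit 0⟩,
  ⟨nat_lit 0, nat_lit 2, nat_lit 0x1780000000001d0, nat_lit 0, false, nat_lit 0⟩,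
  ⟨nat_lit 0, nat_lit 2, nat_lit 0x380000000008a0, nat_lit 0, false, nat_lit 0⟩,
  ⟨nat_lit 0, nat_lit 2, nat_lit 0x600000000005b0, nat_lit 0, false, nat_lit 0⟩,
  ⟨nat_lit 0, nat_lit 2, nat_lit 0x158000000000160, nat_lit 0, false, nat_lit 0⟩,
  ⟨nat_lit 0, nat_lit 2, nat_lit 0x150000000000460, nat_lit 0, false, nat_lit 0⟩,
  ⟨nat_lit 0, nat_lit 2, nat_lit 0x1780000000008d0, nat_lit 0, false, nat_lit 0⟩,
  ⟨nat_lit 0, nat_lit 2, nat_lit 0x178000000000410, nat_lit 0, false, nat_lit 0⟩,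
  ⟨nat_lit 0, nat_lit 2, nat_lit 0x38000000000900, nat_lit 0, false, nat_lit 0⟩,
  ⟨nat_lit 0, nat_lit 2, nat_lit 0x170000000000030, nat_lit 0, false, nat_lit 0⟩,
  ⟨nat_lit 0, nat_lit 2, nat_lit 0x60000000000390, nat_lit 0, false, nat_lit 0⟩,
  ⟨nat_lit 0, nat_lit 2, nat_lit 0x160000000000930, nat_lit 0, false, nat_lit 0⟩,
  ⟨nat_lit 0, nat_lit 2, nat_lit 0x380000000007e0, nat_lit 0, false, nat_lit 0⟩,
  ⟨nat_lit 0, nat_lit 2, nat_lit 0x1500000000001c0, nat_lit 0, false, nat_lit 0⟩,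
  ⟨nat_lit 0, nat_lit 2, nat_lit 0x160000000000038, nat_lit 0, false, nat_lit 0⟩,
  ⟨nat_lit 0, nat_lit 2, nat_lit 0x38000000000970, nat_lit 0, false, nat_lit 0⟩,
  ⟨nat_lit 0, nat_lit 2, nat_lit 0x600000000005d0, nat_lit 0, false, nat_lit 0⟩,
  ⟨nat_lit 0, nat_lit 2, nat_lit 0x30000000000820, nat_lit 0, false, nat_lit 0⟩,
  ⟨nat_lit 0, nat_lit 2, nat_lit 0x1580000000009a0, nat_lit 0, false, nat_lit 0⟩,
  ⟨nat_lit 0, nat_lit 2, nat_lit 0x170000000000390, nat_lit 0, false, nat_lit 0⟩,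
  ⟨nat_lit 0, nat_lit 2, nat_lit 0x380000000009c0, nat_lit 0, false, nat_lit 0⟩,
  ⟨nat_lit 0, nat_lit 2, nat_lit 0x160000000000740, nat_lit 0, false, nat_lit 0⟩,
  ⟨nat_lit 0, nat_lit 2, nat_lit 0x38000000000310, nat_lit 0, false, nat_lit 0⟩,
  ⟨nat_lit 0, nat_lit 2, nat_lit 0x150000000000170, nat_lit 0, false, nat_lit 0⟩,
  ⟨nat_lit 0, nat_lit 2, nat_lit 0x1600000000003a0, nat_lit 0, false, nat_lit 0⟩,
  ⟨nat_lit 0, nat_lit 2, nat_lit 0x60000000000530, nat_lit 0, false, nat_lit 0⟩,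
  ⟨nat_lit 0, nat_lit 2, nat_lit 0x160000000000a20, nat_lit 0, false, nat_lit 0⟩,
  ⟨nat_lit 0, nat_lit 2, nat_lit 0xd0000000000410, nat_lit 0, false, nat_lit 0⟩,
  ⟨nat_lit 0, nat_lit 2, nat_lit 0x300000000009c0, nat_lit 0, false, nat_lit 0⟩,
  ⟨nat_lit 0, nat_lit 2, nat_lit 0x30000000000450, nat_lit 0, false, nat_lit 0⟩,
  ⟨nat_lit 0, nat_lit 2, nat_lit 0x1500000000006e0, nat_lit 0, false, nat_lit 0⟩,
  ⟨nat_lit 0, nat_lit 2, nat_lit 0x170000000000a70, nat_lit 0, false, nat_lit 0⟩,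
  ⟨nat_lit 0, nat_lit 2, nat_lit 0x150000000000850, nat_lit 0, false, nat_lit 0⟩,
  ⟨nat_lit 0, nat_lit 2, nat_lit 0x60000000000a90, nat_lit 0, false, nat_lit 0⟩,
  ⟨nat_lit 0, nat_lit 2, nat_lit 0x170000000000660, nat_lit 0, false, nat_lit 0⟩,
  ⟨nat_lit 0, nat_lit 2, nat_lit 0x1700000000003c0, nat_lit 0, false, nat_lit 0⟩,
  ⟨nat_lit 0, nat_lit 2, nat_lit 0x30000000000ac0, nat_lit 0, false, nat_lit 0⟩,
  ⟨nat_lit 0, nat_lit 2, nat_lit 0x60000000000ad0, nat_lit 0, false, nat_lit 0⟩,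
  ⟨nat_lit 0, nat_lit 2, nat_lit 0x160000000000170, nat_lit 0, false, nat_lit 0⟩,
  ⟨nat_lit 0, nat_lit 2, nat_lit 0x150000000000840, nat_lit 0, false, nat_lit 0⟩,
  ⟨nat_lit 0, nat_lit 2, nat_lit 0x60000000000970, nat_lit 0, false, nat_lit 0⟩,
  ⟨nat_lit 0, nat_lit 2, nat_lit 0x38000000000350, nat_lit 0, false, nat_lit 0⟩,
  ⟨nat_lit 0, nat_lit 2, nat_lit 0xd0000000000b20, nat_lit 0, false, nat_lit 0⟩,
  ⟨nat_lit 0, nat_lit 2, nat_lit 0x178000000000630, nat_lit 0, false, nat_lit 0⟩,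
  ⟨nat_lit 0, nat_lit 2, nat_lit 0x30000000000b40, nat_lit 0, false, nat_lit 0⟩,
  ⟨nat_lit 0, nat_lit 2, nat_lit 0xd0000000000190, nat_lit 0, false, nat_lit 0⟩,
  ⟨nat_lit 0, nat_lit 2, nat_lit 0x150000000000790, nat_lit 0, false, nat_lit 0⟩,
  ⟨nat_lit 0, nat_lit 2, nat_lit 0x178000000000820, nat_lit 0, false, nat_lit 0⟩,
  ⟨nat_lit 0, nat_lit 2, nat_lit 0x1600000000001d0, nat_lit 0, false, nat_lit 0⟩,
  ⟨nat_lit 0, nat_lit 2, nat_lit 0x300000000008a0, nat_lit 0, false, nat_lit 0⟩,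
  ⟨nat_lit 0, nat_lit 2, nat_lit 0xd0000000000ba0, nat_lit 0, false, nat_lit 0⟩,
  ⟨nat_lit 0, nat_lit 2, nat_lit 0x30000000000630, nat_lit 0, false, nat_lit 0⟩,
  ⟨nat_lit 0, nat_lit 2, nat_lit 0x178000000000060, nat_lit 0, false, nat_lit 0⟩,
  ⟨nat_lit 0, nat_lit 2, nat_lit 0x150000000000960, nat_lit 0, false, nat_lit 0⟩,
  ⟨nat_lit 0, nat_lit 2, nat_lit 0x150000000000310, nat_lit 0, false, nat_lit 0⟩,
  ⟨nat_lit 0, nat_lit 2, nat_lit 0x60000000000bf0, nat_lit 0, false, nat_lit 0⟩,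
  ⟨nat_lit 0, nat_lit 2, nat_lit 0x150000000000920, nat_lit 0, false, nat_lit 0⟩,
  ⟨nat_lit 0, nat_lit 2, nat_lit 0x38000000000c10, nat_lit 0, false, nat_lit 0⟩,
  ⟨nat_lit 0, nat_lit 2, nat_lit 0xd0000000000310, nat_lit 0, false, nat_lit 0⟩,
  ⟨nat_lit 0, nat_lit 2, nat_lit 0x170000000000c30, nat_lit 0, false, nat_lit 0⟩,
  ⟨nat_lit 0, nat_lit 2, nat_lit 0x30000000000c40, nat_lit 0, false, nat_lit 0⟩,
  ⟨nat_lit 0, nat_lit 2, nat_lit 0x1700000000006b0, nat_lit 0, false, nat_lit 0⟩,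
  ⟨nat_lit 0, nat_lit 2, nat_lit 0x38000000000c60, nat_lit 0, false, nat_lit 0⟩]

theorem c0 : P.chkL D0 0 = true := by decide +kernel

def D1 : List De := [⟨nat_lit 0, nat_lit 2, nat_lit 0x300000000005c0, nat_lit 0, false, nat_lit 0⟩,
  ⟨nat_lit 0, nat_lit 2, nat_lit 0xd0000000000390, nat_lit 0, false, nat_lit 0⟩,
  ⟨nat_lit 0, nat_lit 2, nat_lit 0x38000000000c90, nat_lit 0, false, nat_lit 0⟩,
  ⟨nat_lit 0, nat_lit 2, nat_lit 0x160000000000ca0, nat_lit 0, false, nat_lit 0⟩,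
  ⟨nat_lit 0, nat_lit 2, nat_lit 0x158000000000a20, nat_lit 0, false, nat_lit 0⟩,
  ⟨nat_lit 0, nat_lit 2, nat_lit 0x178000000000cc0, nat_lit 0, false, nat_lit 0⟩,
  ⟨nat_lit 0, nat_lit 16, nat_lit 0x4d2000000000cb1000000000cd10000000001710000000000380000000000d80000000000380000000001380000000004d2000000000c71000000000c810000000005510000000000380000000000d8000000000138000000000103, nat_lit 0, false, nat_lit 0⟩,
  ⟨nat_lit 4, nat_lit 0, nat_lit 0, nat_lit 206, false, nat_lit 0⟩,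
  ⟨nat_lit 4, nat_lit 0, nat_lit 0, nat_lit 206, false, nat_lit 13⟩,
  ⟨nat_lit 4, nat_lit 0, nat_lit 0, nat_lit 206, false, nat_lit 25⟩,
  ⟨nat_lit 4, nat_lit 0, nat_lit 0, nat_lit 206, true, nat_lit 25⟩,
  ⟨nat_lit 4, nat_lit 0, nat_lit 0, nat_lit 206, true, nat_lit 38⟩,
  ⟨nat_lit 0, nat_lit 2, nat_lit 0x60000000000670, nat_lit 0, false, nat_lit 0⟩,
  ⟨nat_lit 0, nat_lit 2, nat_lit 0x160000000000060, nat_lit 0, false, nat_lit 0⟩,
  ⟨nat_lit 0, nat_lit 2, nat_lit 0x170000000000670, nat_lit 0, false, nat_lit 0⟩,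
  ⟨nat_lit 0, nat_lit 2, nat_lit 0x170000000000060, nat_lit 0, false, nat_lit 0⟩,
  ⟨nat_lit 0, nat_lit 2, nat_lit 0x150000000000d70, nat_lit 0, false, nat_lit 0⟩,
  ⟨nat_lit 0, nat_lit 2, nat_lit 0x150000000000370, nat_lit 0, false, nat_lit 0⟩,
  ⟨nat_lit 0, nat_lit 2, nat_lit 0x160000000000570, nat_lit 0, false, nat_lit 0⟩,
  ⟨nat_lit 0, nat_lit 2, nat_lit 0x160000000000790, nat_lit 0, false, nat_lit 0⟩,
  ⟨nat_lit 0, nat_lit 2, nat_lit 0x60000000000920, nat_lit 0, false, nat_lit 0⟩,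
  ⟨nat_lit 0, nat_lit 2, nat_lit 0x178000000000bf0, nat_lit 0, false, nat_lit 0⟩,
  ⟨nat_lit 0, nat_lit 2, nat_lit 0x158000000000820, nat_lit 0, false, nat_lit 0⟩,
  ⟨nat_lit 0, nat_lit 2, nat_lit 0x1580000000005b0, nat_lit 0, false, nat_lit 0⟩,
  ⟨nat_lit 0, nat_lit 2, nat_lit 0x30000000000df0, nat_lit 0, false, nat_lit 0⟩,
  ⟨nat_lit 0, nat_lit 2, nat_lit 0x170000000000e00, nat_lit 0, false, nat_lit 0⟩,
  ⟨nat_lit 0, nat_lit 2, nat_lit 0x150000000000590, nat_lit 0, false, nat_lit 0⟩,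
  ⟨nat_lit 0, nat_lit 2, nat_lit 0x158000000000060, nat_lit 0, false, nat_lit 0⟩,
  ⟨nat_lit 0, nat_lit 2, nat_lit 0x160000000000e30, nat_lit 0, false, nat_lit 0⟩,
  ⟨nat_lit 0, nat_lit 2, nat_lit 0x1780000000003d0, nat_lit 0, false, nat_lit 0⟩,
  ⟨nat_lit 0, nat_lit 2, nat_lit 0x38000000000180, nat_lit 0, false, nat_lit 0⟩,
  ⟨nat_lit 0, nat_lit 2, nat_lit 0xd0000000000e60, nat_lit 0, false, nat_lit 0⟩,
  ⟨nat_lit 0, nat_lit 2, nat_lit 0x38000000000920, nat_lit 0, false, nat_lit 0⟩,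
  ⟨nat_lit 0, nat_lit 2, nat_lit 0x150000000000b90, nat_lit 0, false, nat_lit 0⟩,
  ⟨nat_lit 0, nat_lit 2, nat_lit 0x160000000000490, nat_lit 0, false, nat_lit 0⟩,
  ⟨nat_lit 0, nat_lit 2, nat_lit 0x38000000000b40, nat_lit 0, false, nat_lit 0⟩,
  ⟨nat_lit 0, nat_lit 2, nat_lit 0x60000000000980, nat_lit 0, false, nat_lit 0⟩,
  ⟨nat_lit 0, nat_lit 2, nat_lit 0x160000000000610, nat_lit 0, false, nat_lit 0⟩,
  ⟨nat_lit 0, nat_lit 2, nat_lit 0x38000000000670, nat_lit 0, false, nat_lit 0⟩,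
  ⟨nat_lit 0, nat_lit 2, nat_lit 0x170000000000410, nat_lit 0, false, nat_lit 0⟩,
  ⟨nat_lit 0, nat_lit 2, nat_lit 0x150000000000ef0, nat_lit 0, false, nat_lit 0⟩,
  ⟨nat_lit 0, nat_lit 2, nat_lit 0x160000000000178, nat_lit 0, false, nat_lit 0⟩,
  ⟨nat_lit 0, nat_lit 2, nat_lit 0x38000000000060, nat_lit 0, false, nat_lit 0⟩,
  ⟨nat_lit 0, nat_lit 2, nat_lit 0x158000000000f20, nat_lit 0, false, nat_lit 0⟩,
  ⟨nat_lit 0, nat_lit 2, nat_lit 0x38000000000850, nat_lit 0, false, nat_lit 0⟩,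
  ⟨nat_lit 0, nat_lit 2, nat_lit 0x158000000000f40, nat_lit 0, false, nat_lit 0⟩,
  ⟨nat_lit 0, nat_lit 2, nat_lit 0x1780000000000d0, nat_lit 0, false, nat_lit 0⟩,
  ⟨nat_lit 0, nat_lit 2, nat_lit 0x38000000000f60, nat_lit 0, false, nat_lit 0⟩,
  ⟨nat_lit 0, nat_lit 2, nat_lit 0x150000000000860, nat_lit 0, false, nat_lit 0⟩,
  ⟨nat_lit 0, nat_lit 2, nat_lit 0x160000000000f80, nat_lit 0, false, nat_lit 0⟩,
  ⟨nat_lit 0, nat_lit 2, nat_lit 0x300000000009a0, nat_lit 0, false, nat_lit 0⟩,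
  ⟨nat_lit 0, nat_lit 2, nat_lit 0x38000000000530, nat_lit 0, false, nat_lit 0⟩,
  ⟨nat_lit 0, nat_lit 2, nat_lit 0x150000000000fb0, nat_lit 0, false, nat_lit 0⟩,
  ⟨nat_lit 0, nat_lit 2, nat_lit 0x160000000000310, nat_lit 0, false, nat_lit 0⟩,
  ⟨nat_lit 0, nat_lit 2, nat_lit 0x160000000000c80, nat_lit 0, false, nat_lit 0⟩,
  ⟨nat_lit 0, nat_lit 2, nat_lit 0x170000000000370, nat_lit 0, false, nat_lit 0⟩,
  ⟨nat_lit 0, nat_lit 2, nat_lit 0x1500000000001e0, nat_lit 0, false, nat_lit 0⟩,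
  ⟨nat_lit 0, nat_lit 2, nat_lit 0xd0000000001000, nat_lit 0, false, nat_lit 0⟩,
  ⟨nat_lit 0, nat_lit 2, nat_lit 0x380000000001a0, nat_lit 0, false, nat_lit 0⟩,
  ⟨nat_lit 0, nat_lit 2, nat_lit 0x60000000001020, nat_lit 0, false, nat_lit 0⟩,
  ⟨nat_lit 0, nat_lit 2, nat_lit 0x300000000005d0, nat_lit 0, false, nat_lit 0⟩,
  ⟨nat_lit 0, nat_lit 2, nat_lit 0x38000000000bd0, nat_lit 0, false, nat_lit 0⟩,
  ⟨nat_lit 0, nat_lit 2, nat_lit 0x170000000000fd0, nat_lit 0, false, nat_lit 0⟩,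
  ⟨nat_lit 0, nat_lit 2, nat_lit 0x158000000000550, nat_lit 0, false, nat_lit 0⟩,
  ⟨nat_lit 0, nat_lit 2, nat_lit 0xd0000000000bf0, nat_lit 0, false, nat_lit 0⟩,
  ⟨nat_lit 0, nat_lit 2, nat_lit 0x178000000001080, nat_lit 0, false, nat_lit 0⟩,
  ⟨nat_lit 0, nat_lit 2, nat_lit 0x150000000000450, nat_lit 0, false, nat_lit 0⟩,
  ⟨nat_lit 0, nat_lit 2, nat_lit 0x160000000000720, nat_lit 0, false, nat_lit 0⟩,
  ⟨nat_lit 0, nat_lit 2, nat_lit 0xd0000000000350, nat_lit 0, false, nat_lit 0⟩,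
  ⟨nat_lit 0, nat_lit 2, nat_lit 0x600000000006c0, nat_lit 0, false, nat_lit 0⟩,
  ⟨nat_lit 0, nat_lit 2, nat_lit 0x1700000000001e0, nat_lit 0, false, nat_lit 0⟩,
  ⟨nat_lit 0, nat_lit 2, nat_lit 0x38000000000410, nat_lit 0, false, nat_lit 0⟩,
  ⟨nat_lit 0, nat_lit 2, nat_lit 0x1500000000007d0, nat_lit 0, false, nat_lit 0⟩,
  ⟨nat_lit 0, nat_lit 2, nat_lit 0x38000000001100, nat_lit 0, false, nat_lit 0⟩,
  ⟨nat_lit 0, nat_lit 2, nat_lit 0x60000000000f20, nat_lit 0, false, nat_lit 0⟩,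
  ⟨nat_lit 0, nat_lit 2, nat_lit 0x60000000000720, nat_lit 0, false, nat_lit 0⟩,
  ⟨nat_lit 0, nat_lit 2, nat_lit 0x1780000000005b0, nat_lit 0, false, nat_lit 0⟩,
  ⟨nat_lit 0, nat_lit 2, nat_lit 0x30000000001140, nat_lit 0, false, nat_lit 0⟩,
  ⟨nat_lit 0, nat_lit 2, nat_lit 0x60000000000320, nat_lit 0, false, nat_lit 0⟩,
  ⟨nat_lit 0, nat_lit 2, nat_lit 0x150000000000630, nat_lit 0, false, nat_lit 0⟩,
  ⟨nat_lit 0, nat_lit 2, nat_lit 0x170000000000560, nat_lit 0, false, nat_lit 0⟩,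
  ⟨nat_lit 0, nat_lit 2, nat_lit 0x1600000000010c0, nat_lit 0, false, nat_lit 0⟩,
  ⟨nat_lit 0, nat_lit 2, nat_lit 0x160000000000850, nat_lit 0, false, nat_lit 0⟩,
  ⟨nat_lit 0, nat_lit 2, nat_lit 0x1580000000011a0, nat_lit 0, false, nat_lit 0⟩,
  ⟨nat_lit 0, nat_lit 2, nat_lit 0x1700000000001d0, nat_lit 0, false, nat_lit 0⟩,
  ⟨nat_lit 0, nat_lit 2, nat_lit 0xd00000000011c0, nat_lit 0, false, nat_lit 0⟩,
  ⟨nat_lit 0, nat_lit 2, nat_lit 0x160000000000e80, nat_lit 0, false, nat_lit 0⟩,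
  ⟨nat_lit 0, nat_lit 2, nat_lit 0x1580000000007a0, nat_lit 0, false, nat_lit 0⟩,
  ⟨nat_lit 0, nat_lit 2, nat_lit 0x160000000000f20, nat_lit 0, false, nat_lit 0⟩,
  ⟨nat_lit 0, nat_lit 2, nat_lit 0x1580000000003b0, nat_lit 0, false, nat_lit 0⟩,
  ⟨nat_lit 0, nat_lit 2, nat_lit 0x160000000000820, nat_lit 0, false, nat_lit 0⟩,
  ⟨nat_lit 0, nat_lit 2, nat_lit 0x60000000001220, nat_lit 0, false, nat_lit 0⟩,
  ⟨nat_lit 0, nat_lit 2, nat_lit 0x178000000000850, nat_lit 0, false, nat_lit 0⟩,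
  ⟨nat_lit 0, nat_lit 2, nat_lit 0x30000000001240, nat_lit 0, false, nat_lit 0⟩,
  ⟨nat_lit 0, nat_lit 2, nat_lit 0x30000000000600, nat_lit 0, false, nat_lit 0⟩,
  ⟨nat_lit 0, nat_lit 2, nat_lit 0x150000000000d90, nat_lit 0, false, nat_lit 0⟩,
  ⟨nat_lit 0, nat_lit 2, nat_lit 0x300000000002e0, nat_lit 0, false, nat_lit 0⟩,
  ⟨nat_lit 0, nat_lit 2, nat_lit 0x380000000002d0, nat_lit 0, false, nat_lit 0⟩,
  ⟨nat_lit 0, nat_lit 2, nat_lit 0x158000000001290, nat_lit 0, false, nat_lit 0⟩,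
  ⟨nat_lit 0, nat_lit 2, nat_lit 0x38000000001240, nat_lit 0, false, nat_lit 0⟩,
  ⟨nat_lit 0, nat_lit 2, nat_lit 0x1700000000012b0, nat_lit 0, false, nat_lit 0⟩,
  ⟨nat_lit 0, nat_lit 2, nat_lit 0x150000000000c30, nat_lit 0, false, nat_lit 0⟩,
  ⟨nat_lit 0, nat_lit 2, nat_lit 0x170000000000450, nat_lit 0, false, nat_lit 0⟩,
  ⟨nat_lit 0, nat_lit 2, nat_lit 0x600000000012e0, nat_lit 0, false, nat_lit 0⟩,
  ⟨nat_lit 0, nat_lit 2, nat_lit 0x300000000012f0, nat_lit 0, false, nat_lit 0⟩,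
  ⟨nat_lit 0, nat_lit 2, nat_lit 0x38000000000de0, nat_lit 0, false, nat_lit 0⟩,
  ⟨nat_lit 0, nat_lit 2, nat_lit 0x160000000000190, nat_lit 0, false, nat_lit 0⟩,
  ⟨nat_lit 0, nat_lit 2, nat_lit 0x178000000000b70, nat_lit 0, false, nat_lit 0⟩,
  ⟨nat_lit 0, nat_lit 2, nat_lit 0x170000000000df0, nat_lit 0, false, nat_lit 0⟩,
  ⟨nat_lit 0, nat_lit 2, nat_lit 0x38000000001340, nat_lit 0, false, nat_lit 0⟩,
  ⟨nat_lit 0, nat_lit 2, nat_lit 0x1500000000005c0, nat_lit 0, false, nat_lit 0⟩,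
  ⟨nat_lit 0, nat_lit 2, nat_lit 0x38000000001360, nat_lit 0, false, nat_lit 0⟩,
  ⟨nat_lit 0, nat_lit 2, nat_lit 0x160000000000920, nat_lit 0, false, nat_lit 0⟩,
  ⟨nat_lit 0, nat_lit 2, nat_lit 0x178000000000e30, nat_lit 0, false, nat_lit 0⟩,
  ⟨nat_lit 0, nat_lit 2, nat_lit 0x150000000000a40, nat_lit 0, false, nat_lit 0⟩,
  ⟨nat_lit 0, nat_lit 2, nat_lit 0x160000000000630, nat_lit 0, false, nat_lit 0⟩,
  ⟨nat_lit 0, nat_lit 2, nat_lit 0xd00000000009e0, nat_lit 0, false, nat_lit 0⟩,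
  ⟨nat_lit 0, nat_lit 2, nat_lit 0x1500000000010a0, nat_lit 0, false, nat_lit 0⟩,
  ⟨nat_lit 0, nat_lit 2, nat_lit 0x600000000013d0, nat_lit 0, false, nat_lit 0⟩,
  ⟨nat_lit 0, nat_lit 2, nat_lit 0x30000000000c30, nat_lit 0, false, nat_lit 0⟩,
  ⟨nat_lit 0, nat_lit 2, nat_lit 0x1700000000005b0, nat_lit 0, false, nat_lit 0⟩,
  ⟨nat_lit 0, nat_lit 2, nat_lit 0x38000000001400, nat_lit 0, false, nat_lit 0⟩,
  ⟨nat_lit 0, nat_lit 2, nat_lit 0xd0000000000420, nat_lit 0, false, nat_lit 0⟩,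
  ⟨nat_lit 0, nat_lit 2, nat_lit 0x30000000001420, nat_lit 0, false, nat_lit 0⟩,
  ⟨nat_lit 0, nat_lit 2, nat_lit 0x178000000000de0, nat_lit 0, false, nat_lit 0⟩,
  ⟨nat_lit 0, nat_lit 2, nat_lit 0x30000000000970, nat_lit 0, false, nat_lit 0⟩,
  ⟨nat_lit 0, nat_lit 2, nat_lit 0x60000000001170, nat_lit 0, false, nat_lit 0⟩,
  ⟨nat_lit 0, nat_lit 2, nat_lit 0x30000000000650, nat_lit 0, false, nat_lit 0⟩,
  ⟨nat_lit 0, nat_lit 2, nat_lit 0x300000000007e0, nat_lit 0, false, nat_lit 0⟩,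
  ⟨nat_lit 0, nat_lit 2, nat_lit 0x30000000000f60, nat_lit 0, false, nat_lit 0⟩,
  ⟨nat_lit 0, nat_lit 2, nat_lit 0x158000000001490, nat_lit 0, false, nat_lit 0⟩,
  ⟨nat_lit 0, nat_lit 2, nat_lit 0x1600000000007e0, nat_lit 0, false, nat_lit 0⟩,
  ⟨nat_lit 0, nat_lit 2, nat_lit 0x30000000000310, nat_lit 0, false, nat_lit 0⟩,
  ⟨nat_lit 0, nat_lit 2, nat_lit 0x300000000014c0, nat_lit 0, false, nat_lit 0⟩,
  ⟨nat_lit 0, nat_lit 2, nat_lit 0x150000000000f20, nat_lit 0, false, nat_lit 0⟩,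
  ⟨nat_lit 0, nat_lit 2, nat_lit 0x178000000000660, nat_lit 0, false, nat_lit 0⟩,
  ⟨nat_lit 0, nat_lit 2, nat_lit 0x30000000000de0, nat_lit 0, false, nat_lit 0⟩,
  ⟨nat_lit 0, nat_lit 2, nat_lit 0x178000000000790, nat_lit 0, false, nat_lit 0⟩,
  ⟨nat_lit 0, nat_lit 2, nat_lit 0xd0000000001510, nat_lit 0, false, nat_lit 0⟩,
  ⟨nat_lit 0, nat_lit 2, nat_lit 0x1780000000007e0, nat_lit 0, false, nat_lit 0⟩,
  ⟨nat_lit 0, nat_lit 2, nat_lit 0x38000000001530, nat_lit 0, false, nat_lit 0⟩,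
  ⟨nat_lit 0, nat_lit 2, nat_lit 0x60000000001470, nat_lit 0, false, nat_lit 0⟩,
  ⟨nat_lit 0, nat_lit 2, nat_lit 0x178000000000620, nat_lit 0, false, nat_lit 0⟩,
  ⟨nat_lit 0, nat_lit 2, nat_lit 0xd0000000001560, nat_lit 0, false, nat_lit 0⟩,
  ⟨nat_lit 0, nat_lit 2, nat_lit 0x178000000000460, nat_lit 0, false, nat_lit 0⟩,
  ⟨nat_lit 0, nat_lit 2, nat_lit 0x170000000000a00, nat_lit 0, false, nat_lit 0⟩,
  ⟨nat_lit 0, nat_lit 2, nat_lit 0x38000000000f30, nat_lit 0, false, nat_lit 0⟩,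
  ⟨nat_lit 0, nat_lit 2, nat_lit 0xd0000000000990, nat_lit 0, false, nat_lit 0⟩,
  ⟨nat_lit 0, nat_lit 2, nat_lit 0x170000000001450, nat_lit 0, false, nat_lit 0⟩,
  ⟨nat_lit 0, nat_lit 2, nat_lit 0x150000000000670, nat_lit 0, false, nat_lit 0⟩,
  ⟨nat_lit 0, nat_lit 2, nat_lit 0x1780000000015d0, nat_lit 0, false, nat_lit 0⟩,
  ⟨nat_lit 0, nat_lit 2, nat_lit 0x1700000000015b0, nat_lit 0, false, nat_lit 0⟩,
  ⟨nat_lit 0, nat_lit 2, nat_lit 0x178000000000fb0, nat_lit 0, false, nat_lit 0⟩,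
  ⟨nat_lit 0, nat_lit 2, nat_lit 0x150000000000890, nat_lit 0, false, nat_lit 0⟩,
  ⟨nat_lit 0, nat_lit 2, nat_lit 0x170000000001610, nat_lit 0, false, nat_lit 0⟩,
  ⟨nat_lit 0, nat_lit 2, nat_lit 0x160000000000c30, nat_lit 0, false, nat_lit 0⟩,
  ⟨nat_lit 0, nat_lit 2, nat_lit 0x300000000007d0, nat_lit 0, false, nat_lit 0⟩,
  ⟨nat_lit 0, nat_lit 2, nat_lit 0x170000000000820, nat_lit 0, false, nat_lit 0⟩,
  ⟨nat_lit 0, nat_lit 2, nat_lit 0x150000000001650, nat_lit 0, false, nat_lit 0⟩,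
  ⟨nat_lit 0, nat_lit 2, nat_lit 0x38000000000e30, nat_lit 0, false, nat_lit 0⟩,
  ⟨nat_lit 0, nat_lit 2, nat_lit 0x300000000006f0, nat_lit 0, false, nat_lit 0⟩,
  ⟨nat_lit 0, nat_lit 2, nat_lit 0xd0000000001680, nat_lit 0, false, nat_lit 0⟩,
  ⟨nat_lit 0, nat_lit 2, nat_lit 0x178000000000570, nat_lit 0, false, nat_lit 0⟩,
  ⟨nat_lit 0, nat_lit 2, nat_lit 0x60000000001390, nat_lit 0, false, nat_lit 0⟩,
  ⟨nat_lit 0, nat_lit 2, nat_lit 0x1580000000016b0, nat_lit 0, false, nat_lit 0⟩,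
  ⟨nat_lit 0, nat_lit 2, nat_lit 0x160000000000830, nat_lit 0, false, nat_lit 0⟩,
  ⟨nat_lit 0, nat_lit 2, nat_lit 0xd0000000000c40, nat_lit 0, false, nat_lit 0⟩,
  ⟨nat_lit 0, nat_lit 2, nat_lit 0x30000000000a90, nat_lit 0, false, nat_lit 0⟩,
  ⟨nat_lit 0, nat_lit 2, nat_lit 0x1780000000002d0, nat_lit 0, false, nat_lit 0⟩,
  ⟨nat_lit 0, nat_lit 2, nat_lit 0xd0000000000900, nat_lit 0, false, nat_lit 0⟩,
  ⟨nat_lit 0, nat_lit 2, nat_lit 0x178000000001710, nat_lit 0, false, nat_lit 0⟩,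
  ⟨nat_lit 0, nat_lit 2, nat_lit 0x30000000000860, nat_lit 0, false, nat_lit 0⟩,
  ⟨nat_lit 0, nat_lit 2, nat_lit 0x60000000000630, nat_lit 0, false, nat_lit 0⟩,
  ⟨nat_lit 0, nat_lit 2, nat_lit 0xd0000000000720, nat_lit 0, false, nat_lit 0⟩,
  ⟨nat_lit 0, nat_lit 2, nat_lit 0x150000000001750, nat_lit 0, false, nat_lit 0⟩,
  ⟨nat_lit 0, nat_lit 2, nat_lit 0x1500000000011e0, nat_lit 0, false, nat_lit 0⟩,
  ⟨nat_lit 0, nat_lit 2, nat_lit 0x178000000000560, nat_lit 0, false, nat_lit 0⟩,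
  ⟨nat_lit 0, nat_lit 2, nat_lit 0x170000000000f20, nat_lit 0, false, nat_lit 0⟩,
  ⟨nat_lit 0, nat_lit 2, nat_lit 0xd00000000008a0, nat_lit 0, false, nat_lit 0⟩,
  ⟨nat_lit 0, nat_lit 2, nat_lit 0x30000000000330, nat_lit 0, false, nat_lit 0⟩,
  ⟨nat_lit 0, nat_lit 2, nat_lit 0x178000000000670, nat_lit 0, false, nat_lit 0⟩,
  ⟨nat_lit 0, nat_lit 2, nat_lit 0x600000000017c0, nat_lit 0, false, nat_lit 0⟩,
  ⟨nat_lit 0, nat_lit 2, nat_lit 0x1700000000007b0, nat_lit 0, false, nat_lit 0⟩,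
  ⟨nat_lit 0, nat_lit 2, nat_lit 0x170000000000790, nat_lit 0, false, nat_lit 0⟩,
  ⟨nat_lit 0, nat_lit 2, nat_lit 0x600000000017f0, nat_lit 0, false, nat_lit 0⟩,
  ⟨nat_lit 0, nat_lit 2, nat_lit 0x160000000000330, nat_lit 0, false, nat_lit 0⟩,
  ⟨nat_lit 0, nat_lit 2, nat_lit 0x60000000000f60, nat_lit 0, false, nat_lit 0⟩,
  ⟨nat_lit 0, nat_lit 2, nat_lit 0x150000000001030, nat_lit 0, false, nat_lit 0⟩,
  ⟨nat_lit 0, nat_lit 2, nat_lit 0x60000000000800, nat_lit 0, false, nat_lit 0⟩,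
  ⟨nat_lit 0, nat_lit 2, nat_lit 0x178000000000c30, nat_lit 0, false, nat_lit 0⟩,
  ⟨nat_lit 0, nat_lit 2, nat_lit 0x38000000000820, nat_lit 0, false, nat_lit 0⟩,
  ⟨nat_lit 0, nat_lit 2, nat_lit 0x178000000001860, nat_lit 0, false, nat_lit 0⟩,
  ⟨nat_lit 0, nat_lit 2, nat_lit 0x1600000000009a0, nat_lit 0, false, nat_lit 0⟩,
  ⟨nat_lit 0, nat_lit 2, nat_lit 0x380000000006b0, nat_lit 0, false, nat_lit 0⟩,
  ⟨nat_lit 0, nat_lit 2, nat_lit 0x60000000001890, nat_lit 0, false, nat_lit 0⟩,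
  ⟨nat_lit 0, nat_lit 2, nat_lit 0x30000000000b60, nat_lit 0, false, nat_lit 0⟩,
  ⟨nat_lit 0, nat_lit 2, nat_lit 0xd00000000010f0, nat_lit 0, false, nat_lit 0⟩,
  ⟨nat_lit 0, nat_lit 2, nat_lit 0x170000000000a30, nat_lit 0, false, nat_lit 0⟩,
  ⟨nat_lit 0, nat_lit 2, nat_lit 0x380000000007a0, nat_lit 0, false, nat_lit 0⟩,
  ⟨nat_lit 0, nat_lit 2, nat_lit 0x1700000000003a0, nat_lit 0, false, nat_lit 0⟩]

theorem c1 : P.chkL D1 200 = true := by decide +kernel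

def D2 : List De := [⟨nat_lit 0, nat_lit 2, nat_lit 0x38000000000e90, nat_lit 0, false, nat_lit 0⟩,
  ⟨nat_lit 0, nat_lit 2, nat_lit 0x60000000000e40, nat_lit 0, false, nat_lit 0⟩,
  ⟨nat_lit 0, nat_lit 2, nat_lit 0x170000000000850, nat_lit 0, false, nat_lit 0⟩,
  ⟨nat_lit 0, nat_lit 2, nat_lit 0xd0000000001180, nat_lit 0, false, nat_lit 0⟩,
  ⟨nat_lit 0, nat_lit 2, nat_lit 0x160000000000840, nat_lit 0, false, nat_lit 0⟩,
  ⟨nat_lit 0, nat_lit 2, nat_lit 0x38000000001140, nat_lit 0, false, nat_lit 0⟩,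
  ⟨nat_lit 0, nat_lit 2, nat_lit 0x38000000000d60, nat_lit 0, false, nat_lit 0⟩,
  ⟨nat_lit 0, nat_lit 2, nat_lit 0x1700000000005d0, nat_lit 0, false, nat_lit 0⟩,
  ⟨nat_lit 0, nat_lit 2, nat_lit 0xd0000000001970, nat_lit 0, false, nat_lit 0⟩,
  ⟨nat_lit 0, nat_lit 2, nat_lit 0xd00000000009c0, nat_lit 0, false, nat_lit 0⟩,
  ⟨nat_lit 0, nat_lit 2, nat_lit 0x60000000001990, nat_lit 0, false, nat_lit 0⟩,
  ⟨nat_lit 0, nat_lit 2, nat_lit 0x150000000001920, nat_lit 0, false, nat_lit 0⟩,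
  ⟨nat_lit 0, nat_lit 2, nat_lit 0x300000000019b0, nat_lit 0, false, nat_lit 0⟩,
  ⟨nat_lit 0, nat_lit 2, nat_lit 0x160000000001080, nat_lit 0, false, nat_lit 0⟩,
  ⟨nat_lit 0, nat_lit 2, nat_lit 0x170000000000bf0, nat_lit 0, false, nat_lit 0⟩,
  ⟨nat_lit 0, nat_lit 2, nat_lit 0x30000000001650, nat_lit 0, false, nat_lit 0⟩,
  ⟨nat_lit 0, nat_lit 2, nat_lit 0x1580000000019f0, nat_lit 0, false, nat_lit 0⟩,
  ⟨nat_lit 0, nat_lit 2, nat_lit 0x600000000011c0, nat_lit 0, false, nat_lit 0⟩,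
  ⟨nat_lit 0, nat_lit 2, nat_lit 0x38000000000b80, nat_lit 0, false, nat_lit 0⟩,
  ⟨nat_lit 0, nat_lit 2, nat_lit 0x1500000000014b0, nat_lit 0, false, nat_lit 0⟩,
  ⟨nat_lit 0, nat_lit 2, nat_lit 0x60000000000b80, nat_lit 0, false, nat_lit 0⟩,
  ⟨nat_lit 0, nat_lit 2, nat_lit 0x600000000010f0, nat_lit 0, false, nat_lit 0⟩,
  ⟨nat_lit 0, nat_lit 2, nat_lit 0x30000000000890, nat_lit 0, false, nat_lit 0⟩,
  ⟨nat_lit 0, nat_lit 2, nat_lit 0x60000000000f40, nat_lit 0, false, nat_lit 0⟩,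
  ⟨nat_lit 0, nat_lit 2, nat_lit 0x158000000000570, nat_lit 0, false, nat_lit 0⟩,
  ⟨nat_lit 0, nat_lit 2, nat_lit 0xd00000000015d0, nat_lit 0, false, nat_lit 0⟩,
  ⟨nat_lit 0, nat_lit 2, nat_lit 0x1600000000003c0, nat_lit 0, false, nat_lit 0⟩,
  ⟨nat_lit 0, nat_lit 2, nat_lit 0xd0000000000930, nat_lit 0, false, nat_lit 0⟩,
  ⟨nat_lit 0, nat_lit 2, nat_lit 0x600000000011e0, nat_lit 0, false, nat_lit 0⟩,
  ⟨nat_lit 0, nat_lit 2, nat_lit 0x1600000000010f0, nat_lit 0, false, nat_lit 0⟩,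
  ⟨nat_lit 0, nat_lit 2, nat_lit 0x30000000000c10, nat_lit 0, false, nat_lit 0⟩,
  ⟨nat_lit 0, nat_lit 2, nat_lit 0x150000000000e60, nat_lit 0, false, nat_lit 0⟩,
  ⟨nat_lit 0, nat_lit 2, nat_lit 0xd00000000014c0, nat_lit 0, false, nat_lit 0⟩,
  ⟨nat_lit 0, nat_lit 2, nat_lit 0x160000000001860, nat_lit 0, false, nat_lit 0⟩,
  ⟨nat_lit 0, nat_lit 2, nat_lit 0x30000000000d70, nat_lit 0, false, nat_lit 0⟩,
  ⟨nat_lit 0, nat_lit 2, nat_lit 0x158000000000840, nat_lit 0, false, nat_lit 0⟩,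
  ⟨nat_lit 0, nat_lit 2, nat_lit 0x1700000000017b0, nat_lit 0, false, nat_lit 0⟩,
  ⟨nat_lit 0, nat_lit 2, nat_lit 0x1500000000007a0, nat_lit 0, false, nat_lit 0⟩,
  ⟨nat_lit 0, nat_lit 2, nat_lit 0x150000000001b50, nat_lit 0, false, nat_lit 0⟩,
  ⟨nat_lit 0, nat_lit 2, nat_lit 0x30000000001b60, nat_lit 0, false, nat_lit 0⟩,
  ⟨nat_lit 0, nat_lit 2, nat_lit 0x38000000000570, nat_lit 0, false, nat_lit 0⟩,
  ⟨nat_lit 0, nat_lit 2, nat_lit 0x30000000000210, nat_lit 0, false, nat_lit 0⟩,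
  ⟨nat_lit 0, nat_lit 2, nat_lit 0x160000000001b90, nat_lit 0, false, nat_lit 0⟩,
  ⟨nat_lit 0, nat_lit 2, nat_lit 0x1780000000008c0, nat_lit 0, false, nat_lit 0⟩,
  ⟨nat_lit 0, nat_lit 2, nat_lit 0x60000000000bb0, nat_lit 0, false, nat_lit 0⟩,
  ⟨nat_lit 0, nat_lit 2, nat_lit 0x300000000002d0, nat_lit 0, false, nat_lit 0⟩,
  ⟨nat_lit 0, nat_lit 2, nat_lit 0x600000000013c0, nat_lit 0, false, nat_lit 0⟩,
  ⟨nat_lit 0, nat_lit 2, nat_lit 0xd0000000001780, nat_lit 0, false, nat_lit 0⟩,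
  ⟨nat_lit 0, nat_lit 2, nat_lit 0x38000000001bf0, nat_lit 0, false, nat_lit 0⟩,
  ⟨nat_lit 0, nat_lit 2, nat_lit 0x30000000001470, nat_lit 0, false, nat_lit 0⟩,
  ⟨nat_lit 0, nat_lit 2, nat_lit 0x170000000000570, nat_lit 0, false, nat_lit 0⟩,
  ⟨nat_lit 0, nat_lit 2, nat_lit 0x158000000001bd0, nat_lit 0, false, nat_lit 0⟩,
  ⟨nat_lit 0, nat_lit 2, nat_lit 0x30000000000d50, nat_lit 0, false, nat_lit 0⟩,
  ⟨nat_lit 0, nat_lit 2, nat_lit 0x1500000000005e0, nat_lit 0, false, nat_lit 0⟩,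
  ⟨nat_lit 0, nat_lit 2, nat_lit 0x1500000000019f0, nat_lit 0, false, nat_lit 0⟩,
  ⟨nat_lit 0, nat_lit 2, nat_lit 0x1700000000005e0, nat_lit 0, false, nat_lit 0⟩,
  ⟨nat_lit 0, nat_lit 2, nat_lit 0x600000000018c0, nat_lit 0, false, nat_lit 0⟩,
  ⟨nat_lit 0, nat_lit 2, nat_lit 0x160000000001240, nat_lit 0, false, nat_lit 0⟩,
  ⟨nat_lit 0, nat_lit 2, nat_lit 0x30000000001c90, nat_lit 0, false, nat_lit 0⟩,
  ⟨nat_lit 0, nat_lit 2, nat_lit 0x1780000000003c0, nat_lit 0, false, nat_lit 0⟩,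
  ⟨nat_lit 0, nat_lit 2, nat_lit 0x38000000001710, nat_lit 0, false, nat_lit 0⟩,
  ⟨nat_lit 0, nat_lit 2, nat_lit 0x158000000000540, nat_lit 0, false, nat_lit 0⟩,
  ⟨nat_lit 0, nat_lit 2, nat_lit 0xd0000000000b90, nat_lit 0, false, nat_lit 0⟩,
  ⟨nat_lit 0, nat_lit 2, nat_lit 0x30000000000940, nat_lit 0, false, nat_lit 0⟩,
  ⟨nat_lit 0, nat_lit 2, nat_lit 0x300000000010e0, nat_lit 0, false, nat_lit 0⟩,
  ⟨nat_lit 0, nat_lit 2, nat_lit 0x30000000000ba0, nat_lit 0, false, nat_lit 0⟩,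
  ⟨nat_lit 0, nat_lit 2, nat_lit 0x60000000000fd0, nat_lit 0, false, nat_lit 0⟩,
  ⟨nat_lit 0, nat_lit 2, nat_lit 0x60000000000210, nat_lit 0, false, nat_lit 0⟩,
  ⟨nat_lit 0, nat_lit 2, nat_lit 0x60000000001810, nat_lit 0, false, nat_lit 0⟩,
  ⟨nat_lit 0, nat_lit 2, nat_lit 0x158000000001950, nat_lit 0, false, nat_lit 0⟩,
  ⟨nat_lit 0, nat_lit 2, nat_lit 0x160000000001500, nat_lit 0, false, nat_lit 0⟩,
  ⟨nat_lit 0, nat_lit 2, nat_lit 0x1500000000010f0, nat_lit 0, false, nat_lit 0⟩,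
  ⟨nat_lit 0, nat_lit 2, nat_lit 0x600000000014c0, nat_lit 0, false, nat_lit 0⟩,
  ⟨nat_lit 0, nat_lit 2, nat_lit 0xd0000000001a10, nat_lit 0, false, nat_lit 0⟩,
  ⟨nat_lit 0, nat_lit 2, nat_lit 0x170000000000d50, nat_lit 0, false, nat_lit 0⟩,
  ⟨nat_lit 0, nat_lit 2, nat_lit 0x1500000000003a0, nat_lit 0, false, nat_lit 0⟩,
  ⟨nat_lit 0, nat_lit 2, nat_lit 0x30000000001db0, nat_lit 0, false, nat_lit 0⟩,
  ⟨nat_lit 0, nat_lit 2, nat_lit 0x1600000000013f0, nat_lit 0, false, nat_lit 0⟩,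
  ⟨nat_lit 0, nat_lit 2, nat_lit 0x158000000000740, nat_lit 0, false, nat_lit 0⟩,
  ⟨nat_lit 0, nat_lit 2, nat_lit 0x300000000008c0, nat_lit 0, false, nat_lit 0⟩,
  ⟨nat_lit 0, nat_lit 2, nat_lit 0x158000000000210, nat_lit 0, false, nat_lit 0⟩,
  ⟨nat_lit 0, nat_lit 2, nat_lit 0x38000000001e00, nat_lit 0, false, nat_lit 0⟩,
  ⟨nat_lit 0, nat_lit 2, nat_lit 0x1700000000009f0, nat_lit 0, false, nat_lit 0⟩,
  ⟨nat_lit 0, nat_lit 2, nat_lit 0xd0000000000810, nat_lit 0, false, nat_lit 0⟩,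
  ⟨nat_lit 0, nat_lit 2, nat_lit 0x160000000001920, nat_lit 0, false, nat_lit 0⟩,
  ⟨nat_lit 0, nat_lit 2, nat_lit 0x600000000007f0, nat_lit 0, false, nat_lit 0⟩,
  ⟨nat_lit 0, nat_lit 2, nat_lit 0x30000000001ce0, nat_lit 0, false, nat_lit 0⟩,
  ⟨nat_lit 0, nat_lit 2, nat_lit 0x60000000001440, nat_lit 0, false, nat_lit 0⟩,
  ⟨nat_lit 0, nat_lit 2, nat_lit 0x178000000000f20, nat_lit 0, false, nat_lit 0⟩,
  ⟨nat_lit 0, nat_lit 2, nat_lit 0x178000000001e50, nat_lit 0, false, nat_lit 0⟩,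
  ⟨nat_lit 0, nat_lit 2, nat_lit 0x178000000000840, nat_lit 0, false, nat_lit 0⟩,
  ⟨nat_lit 0, nat_lit 2, nat_lit 0x1600000000008e0, nat_lit 0, false, nat_lit 0⟩,
  ⟨nat_lit 0, nat_lit 2, nat_lit 0x1580000000017a0, nat_lit 0, false, nat_lit 0⟩,
  ⟨nat_lit 0, nat_lit 2, nat_lit 0x60000000001920, nat_lit 0, false, nat_lit 0⟩,
  ⟨nat_lit 0, nat_lit 2, nat_lit 0x30000000001c20, nat_lit 0, false, nat_lit 0⟩,
  ⟨nat_lit 0, nat_lit 2, nat_lit 0x158000000001ee0, nat_lit 0, false, nat_lit 0⟩,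
  ⟨nat_lit 0, nat_lit 2, nat_lit 0xd0000000000d60, nat_lit 0, false, nat_lit 0⟩,
  ⟨nat_lit 0, nat_lit 2, nat_lit 0x60000000001660, nat_lit 0, false, nat_lit 0⟩,
  ⟨nat_lit 0, nat_lit 2, nat_lit 0x160000000000540, nat_lit 0, false, nat_lit 0⟩,
  ⟨nat_lit 0, nat_lit 2, nat_lit 0x170000000000950, nat_lit 0, false, nat_lit 0⟩,
  ⟨nat_lit 0, nat_lit 2, nat_lit 0x30000000001850, nat_lit 0, false, nat_lit 0⟩,
  ⟨nat_lit 0, nat_lit 2, nat_lit 0x170000000000f40, nat_lit 0, false, nat_lit 0⟩,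
  ⟨nat_lit 0, nat_lit 2, nat_lit 0x160000000000b10, nat_lit 0, false, nat_lit 0⟩,
  ⟨nat_lit 0, nat_lit 2, nat_lit 0x1780000000005f0, nat_lit 0, false, nat_lit 0⟩,
  ⟨nat_lit 0, nat_lit 2, nat_lit 0x178000000001a80, nat_lit 0, false, nat_lit 0⟩,
  ⟨nat_lit 0, nat_lit 2, nat_lit 0x158000000000dc0, nat_lit 0, false, nat_lit 0⟩,
  ⟨nat_lit 0, nat_lit 2, nat_lit 0x60000000000c90, nat_lit 0, false, nat_lit 0⟩,
  ⟨nat_lit 0, nat_lit 2, nat_lit 0x1780000000010c0, nat_lit 0, false, nat_lit 0⟩,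
  ⟨nat_lit 0, nat_lit 2, nat_lit 0xd0000000000f00, nat_lit 0, false, nat_lit 0⟩,
  ⟨nat_lit 0, nat_lit 2, nat_lit 0x178000000001e70, nat_lit 0, false, nat_lit 0⟩,
  ⟨nat_lit 0, nat_lit 2, nat_lit 0x60000000001980, nat_lit 0, false, nat_lit 0⟩,
  ⟨nat_lit 0, nat_lit 2, nat_lit 0x150000000001a60, nat_lit 0, false, nat_lit 0⟩,
  ⟨nat_lit 0, nat_lit 2, nat_lit 0x1700000000011a0, nat_lit 0, false, nat_lit 0⟩,
  ⟨nat_lit 0, nat_lit 2, nat_lit 0x600000000014d0, nat_lit 0, false, nat_lit 0⟩,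
  ⟨nat_lit 0, nat_lit 2, nat_lit 0x150000000001e10, nat_lit 0, false, nat_lit 0⟩,
  ⟨nat_lit 0, nat_lit 2, nat_lit 0x1780000000016f0, nat_lit 0, false, nat_lit 0⟩,
  ⟨nat_lit 0, nat_lit 2, nat_lit 0xd0000000001d20, nat_lit 0, false, nat_lit 0⟩,
  ⟨nat_lit 0, nat_lit 2, nat_lit 0x38000000001570, nat_lit 0, false, nat_lit 0⟩,
  ⟨nat_lit 0, nat_lit 2, nat_lit 0x178000000001010, nat_lit 0, false, nat_lit 0⟩,
  ⟨nat_lit 0, nat_lit 2, nat_lit 0x1500000000018e0, nat_lit 0, false, nat_lit 0⟩,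
  ⟨nat_lit 0, nat_lit 2, nat_lit 0x1600000000010d0, nat_lit 0, false, nat_lit 0⟩,
  ⟨nat_lit 0, nat_lit 2, nat_lit 0x30000000001ae0, nat_lit 0, false, nat_lit 0⟩,
  ⟨nat_lit 0, nat_lit 2, nat_lit 0xd0000000000940, nat_lit 0, false, nat_lit 0⟩,
  ⟨nat_lit 0, nat_lit 2, nat_lit 0x160000000001df0, nat_lit 0, false, nat_lit 0⟩,
  ⟨nat_lit 0, nat_lit 2, nat_lit 0x30000000001e50, nat_lit 0, false, nat_lit 0⟩,
  ⟨nat_lit 0, nat_lit 2, nat_lit 0x30000000001440, nat_lit 0, false, nat_lit 0⟩,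
  ⟨nat_lit 0, nat_lit 2, nat_lit 0x150000000000830, nat_lit 0, false, nat_lit 0⟩,
  ⟨nat_lit 0, nat_lit 2, nat_lit 0x60000000001a80, nat_lit 0, false, nat_lit 0⟩,
  ⟨nat_lit 0, nat_lit 2, nat_lit 0x380000000020f0, nat_lit 0, false, nat_lit 0⟩,
  ⟨nat_lit 0, nat_lit 2, nat_lit 0x150000000001d30, nat_lit 0, false, nat_lit 0⟩,
  ⟨nat_lit 0, nat_lit 2, nat_lit 0x60000000002110, nat_lit 0, false, nat_lit 0⟩,
  ⟨nat_lit 0, nat_lit 2, nat_lit 0x150000000001b80, nat_lit 0, false, nat_lit 0⟩,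
  ⟨nat_lit 0, nat_lit 2, nat_lit 0x30000000002130, nat_lit 0, false, nat_lit 0⟩,
  ⟨nat_lit 0, nat_lit 2, nat_lit 0x1700000000014e0, nat_lit 0, false, nat_lit 0⟩,
  ⟨nat_lit 0, nat_lit 2, nat_lit 0x178000000001740, nat_lit 0, false, nat_lit 0⟩,
  ⟨nat_lit 0, nat_lit 2, nat_lit 0x60000000001e20, nat_lit 0, false, nat_lit 0⟩,
  ⟨nat_lit 0, nat_lit 2, nat_lit 0x380000000011b0, nat_lit 0, false, nat_lit 0⟩,
  ⟨nat_lit 0, nat_lit 2, nat_lit 0x60000000000340, nat_lit 0, false, nat_lit 0⟩,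
  ⟨nat_lit 0, nat_lit 2, nat_lit 0x60000000001a20, nat_lit 0, false, nat_lit 0⟩,
  ⟨nat_lit 0, nat_lit 2, nat_lit 0x158000000000580, nat_lit 0, false, nat_lit 0⟩,
  ⟨nat_lit 0, nat_lit 2, nat_lit 0x600000000021b0, nat_lit 0, false, nat_lit 0⟩,
  ⟨nat_lit 0, nat_lit 2, nat_lit 0x160000000001790, nat_lit 0, false, nat_lit 0⟩,
  ⟨nat_lit 0, nat_lit 2, nat_lit 0x380000000021d0, nat_lit 0, false, nat_lit 0⟩,
  ⟨nat_lit 0, nat_lit 2, nat_lit 0x1500000000006d0, nat_lit 0, false, nat_lit 0⟩,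
  ⟨nat_lit 0, nat_lit 2, nat_lit 0x160000000001170, nat_lit 0, false, nat_lit 0⟩,
  ⟨nat_lit 0, nat_lit 2, nat_lit 0x1600000000007d0, nat_lit 0, false, nat_lit 0⟩,
  ⟨nat_lit 0, nat_lit 2, nat_lit 0x60000000001050, nat_lit 0, false, nat_lit 0⟩,
  ⟨nat_lit 0, nat_lit 2, nat_lit 0x160000000000ac0, nat_lit 0, false, nat_lit 0⟩,
  ⟨nat_lit 0, nat_lit 2, nat_lit 0x38000000002230, nat_lit 0, false, nat_lit 0⟩,
  ⟨nat_lit 0, nat_lit 2, nat_lit 0x60000000000d80, nat_lit 0, false, nat_lit 0⟩,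
  ⟨nat_lit 0, nat_lit 2, nat_lit 0x1780000000005a0, nat_lit 0, false, nat_lit 0⟩,
  ⟨nat_lit 0, nat_lit 2, nat_lit 0x38000000001970, nat_lit 0, false, nat_lit 0⟩,
  ⟨nat_lit 0, nat_lit 2, nat_lit 0x170000000001730, nat_lit 0, false, nat_lit 0⟩,
  ⟨nat_lit 0, nat_lit 2, nat_lit 0x170000000001940, nat_lit 0, false, nat_lit 0⟩,
  ⟨nat_lit 0, nat_lit 2, nat_lit 0x158000000000fa0, nat_lit 0, false, nat_lit 0⟩,
  ⟨nat_lit 0, nat_lit 2, nat_lit 0x158000000001a90, nat_lit 0, false, nat_lit 0⟩,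
  ⟨nat_lit 0, nat_lit 2, nat_lit 0x1500000000005f0, nat_lit 0, false, nat_lit 0⟩,
  ⟨nat_lit 0, nat_lit 2, nat_lit 0x1600000000022c0, nat_lit 0, false, nat_lit 0⟩,
  ⟨nat_lit 0, nat_lit 2, nat_lit 0x60000000000e80, nat_lit 0, false, nat_lit 0⟩,
  ⟨nat_lit 0, nat_lit 2, nat_lit 0x158000000000400, nat_lit 0, false, nat_lit 0⟩,
  ⟨nat_lit 0, nat_lit 2, nat_lit 0x60000000001400, nat_lit 0, false, nat_lit 0⟩,
  ⟨nat_lit 0, nat_lit 2, nat_lit 0xd0000000001320, nat_lit 0, false, nat_lit 0⟩,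
  ⟨nat_lit 0, nat_lit 2, nat_lit 0x30000000001600, nat_lit 0, false, nat_lit 0⟩,
  ⟨nat_lit 0, nat_lit 2, nat_lit 0x160000000000320, nat_lit 0, false, nat_lit 0⟩,
  ⟨nat_lit 0, nat_lit 2, nat_lit 0x1580000000005e0, nat_lit 0, false, nat_lit 0⟩,
  ⟨nat_lit 0, nat_lit 2, nat_lit 0x60000000001860, nat_lit 0, false, nat_lit 0⟩,
  ⟨nat_lit 0, nat_lit 2, nat_lit 0x38000000001380, nat_lit 0, false, nat_lit 0⟩,
  ⟨nat_lit 0, nat_lit 2, nat_lit 0xd0000000000f70, nat_lit 0, false, nat_lit 0⟩,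
  ⟨nat_lit 0, nat_lit 2, nat_lit 0x60000000001f70, nat_lit 0, false, nat_lit 0⟩,
  ⟨nat_lit 0, nat_lit 2, nat_lit 0x170000000001200, nat_lit 0, false, nat_lit 0⟩,
  ⟨nat_lit 0, nat_lit 2, nat_lit 0x150000000001ae0, nat_lit 0, false, nat_lit 0⟩,
  ⟨nat_lit 0, nat_lit 2, nat_lit 0x60000000001340, nat_lit 0, false, nat_lit 0⟩,
  ⟨nat_lit 0, nat_lit 2, nat_lit 0x158000000000e80, nat_lit 0, false, nat_lit 0⟩,
  ⟨nat_lit 0, nat_lit 2, nat_lit 0x1700000000023c0, nat_lit 0, false, nat_lit 0⟩,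
  ⟨nat_lit 0, nat_lit 2, nat_lit 0x178000000000f50, nat_lit 0, false, nat_lit 0⟩,
  ⟨nat_lit 0, nat_lit 2, nat_lit 0x38000000001810, nat_lit 0, false, nat_lit 0⟩,
  ⟨nat_lit 0, nat_lit 2, nat_lit 0x1600000000023f0, nat_lit 0, false, nat_lit 0⟩,
  ⟨nat_lit 0, nat_lit 2, nat_lit 0x170000000001470, nat_lit 0, false, nat_lit 0⟩,
  ⟨nat_lit 0, nat_lit 2, nat_lit 0x60000000001da0, nat_lit 0, false, nat_lit 0⟩,
  ⟨nat_lit 0, nat_lit 2, nat_lit 0x30000000000760, nat_lit 0, false, nat_lit 0⟩,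
  ⟨nat_lit 0, nat_lit 2, nat_lit 0x178000000002430, nat_lit 0, false, nat_lit 0⟩,
  ⟨nat_lit 0, nat_lit 2, nat_lit 0x60000000001290, nat_lit 0, false, nat_lit 0⟩,
  ⟨nat_lit 0, nat_lit 2, nat_lit 0x60000000001e40, nat_lit 0, false, nat_lit 0⟩,
  ⟨nat_lit 0, nat_lit 2, nat_lit 0x160000000000dd0, nat_lit 0, false, nat_lit 0⟩,
  ⟨nat_lit 0, nat_lit 2, nat_lit 0x30000000001230, nat_lit 0, false, nat_lit 0⟩,
  ⟨nat_lit 0, nat_lit 2, nat_lit 0xd0000000000a10, nat_lit 0, false, nat_lit 0⟩,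
  ⟨nat_lit 0, nat_lit 2, nat_lit 0x158000000001a40, nat_lit 0, false, nat_lit 0⟩,
  ⟨nat_lit 0, nat_lit 2, nat_lit 0x60000000000b40, nat_lit 0, false, nat_lit 0⟩,
  ⟨nat_lit 0, nat_lit 2, nat_lit 0x158000000001480, nat_lit 0, false, nat_lit 0⟩,
  ⟨nat_lit 0, nat_lit 2, nat_lit 0x160000000000ee0, nat_lit 0, false, nat_lit 0⟩,
  ⟨nat_lit 0, nat_lit 2, nat_lit 0x1700000000019b0, nat_lit 0, false, nat_lit 0⟩,
  ⟨nat_lit 0, nat_lit 2, nat_lit 0x178000000001c40, nat_lit 0, false, nat_lit 0⟩,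
  ⟨nat_lit 0, nat_lit 2, nat_lit 0x160000000001b20, nat_lit 0, false, nat_lit 0⟩,
  ⟨nat_lit 0, nat_lit 2, nat_lit 0x150000000000da0, nat_lit 0, false, nat_lit 0⟩,
  ⟨nat_lit 0, nat_lit 2, nat_lit 0x60000000000de0, nat_lit 0, false, nat_lit 0⟩,
  ⟨nat_lit 0, nat_lit 2, nat_lit 0x30000000000e00, nat_lit 0, false, nat_lit 0⟩,
  ⟨nat_lit 0, nat_lit 2, nat_lit 0x1600000000024b0, nat_lit 0, false, nat_lit 0⟩,
  ⟨nat_lit 0, nat_lit 2, nat_lit 0x160000000000760, nat_lit 0, false, nat_lit 0⟩,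
  ⟨nat_lit 0, nat_lit 2, nat_lit 0x1580000000003d0, nat_lit 0, false, nat_lit 0⟩,
  ⟨nat_lit 0, nat_lit 2, nat_lit 0x160000000001310, nat_lit 0, false, nat_lit 0⟩]

theorem c2 : P.chkL D2 400 = true := by decide +kernel

def D3 : List De := [⟨nat_lit 0, nat_lit 2, nat_lit 0xd0000000001130, nat_lit 0, false, nat_lit 0⟩,
  ⟨nat_lit 0, nat_lit 2, nat_lit 0x30000000001ea0, nat_lit 0, false, nat_lit 0⟩,
  ⟨nat_lit 0, nat_lit 2, nat_lit 0x380000000013b0, nat_lit 0, false, nat_lit 0⟩,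
  ⟨nat_lit 0, nat_lit 2, nat_lit 0x160000000002300, nat_lit 0, false, nat_lit 0⟩,
  ⟨nat_lit 0, nat_lit 2, nat_lit 0x30000000001580, nat_lit 0, false, nat_lit 0⟩,
  ⟨nat_lit 0, nat_lit 2, nat_lit 0x150000000000c00, nat_lit 0, false, nat_lit 0⟩,
  ⟨nat_lit 0, nat_lit 2, nat_lit 0x300000000009b0, nat_lit 0, false, nat_lit 0⟩,
  ⟨nat_lit 0, nat_lit 2, nat_lit 0x150000000001ba0, nat_lit 0, false, nat_lit 0⟩,
  ⟨nat_lit 0, nat_lit 2, nat_lit 0x30000000000190, nat_lit 0, false, nat_lit 0⟩,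
  ⟨nat_lit 0, nat_lit 2, nat_lit 0x158000000001120, nat_lit 0, false, nat_lit 0⟩,
  ⟨nat_lit 0, nat_lit 2, nat_lit 0x158000000002180, nat_lit 0, false, nat_lit 0⟩,
  ⟨nat_lit 0, nat_lit 2, nat_lit 0x30000000001d40, nat_lit 0, false, nat_lit 0⟩,
  ⟨nat_lit 0, nat_lit 2, nat_lit 0x150000000002520, nat_lit 0, false, nat_lit 0⟩,
  ⟨nat_lit 0, nat_lit 2, nat_lit 0x158000000001f20, nat_lit 0, false, nat_lit 0⟩,
  ⟨nat_lit 0, nat_lit 2, nat_lit 0x1700000000013b0, nat_lit 0, false, nat_lit 0⟩,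
  ⟨nat_lit 0, nat_lit 2, nat_lit 0x160000000001150, nat_lit 0, false, nat_lit 0⟩,
  ⟨nat_lit 0, nat_lit 2, nat_lit 0x1580000000016d0, nat_lit 0, false, nat_lit 0⟩,
  ⟨nat_lit 0, nat_lit 2, nat_lit 0x38000000001e80, nat_lit 0, false, nat_lit 0⟩,
  ⟨nat_lit 0, nat_lit 2, nat_lit 0x160000000001280, nat_lit 0, false, nat_lit 0⟩,
  ⟨nat_lit 0, nat_lit 2, nat_lit 0x380000000020e0, nat_lit 0, false, nat_lit 0⟩,
  ⟨nat_lit 0, nat_lit 2, nat_lit 0x170000000000b10, nat_lit 0, false, nat_lit 0⟩,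
  ⟨nat_lit 0, nat_lit 2, nat_lit 0x60000000000220, nat_lit 0, false, nat_lit 0⟩,
  ⟨nat_lit 0, nat_lit 2, nat_lit 0x150000000001340, nat_lit 0, false, nat_lit 0⟩,
  ⟨nat_lit 0, nat_lit 2, nat_lit 0x60000000001cb0, nat_lit 0, false, nat_lit 0⟩,
  ⟨nat_lit 2, nat_lit 0, nat_lit 0, nat_lit 0, false, nat_lit 0⟩,
  ⟨nat_lit 0, nat_lit 22, nat_lit 0x27020000000024110000000016c10000000006110000000000380000000000680000000001280000000001380000000001280000000001380000000001380000000000680000000000300000000001280000000000300000000001380000000000d8000000000030000000000120000000000038000000000038000000002704, nat_lit 0, false, nat_lit 0⟩,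
  ⟨nat_lit 0, nat_lit 24, nat_lit 0x27020000000026010000000019110000000005510000000001380000000000680000000001480000000000680000000001280000000001380000000001480000000000380000000000680000000000380000000001200000000000300000000001480000000000d80000000000300000000001200000000000d8000000000068000000000038000000002704, nat_lit 0, false, nat_lit 0⟩,
  ⟨nat_lit 0, nat_lit 16, nat_lit 0x2728000000002710000000002710000000002728000000002718000000002710000000002710000000002728000000002710000000002710000000002718000000002728000000002718000000002718000000002718000000002728, nat_lit 0, false, nat_lit 0⟩,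
  ⟨nat_lit 0, nat_lit 18, nat_lit 0x27020000000010910000000023b10000000007810000000000300000000000680000000001200000000001380000000001380000000000680000000000380000000001200000000000680000000000d8000000000038000000000038000000000068000000002704, nat_lit 0, false, nat_lit 0⟩,
  ⟨nat_lit 0, nat_lit 5, nat_lit 0x2728000000002728000000002710000000002710000000002740, nat_lit 0, false, nat_lit 0⟩,
  ⟨nat_lit 0, nat_lit 28, nat_lit 0x2730000000002758000000002738000000002738000000002738000000002718000000002730000000002710000000002720000000002748000000002738000000002758000000002730000000002730000000002758000000002718000000002728000000002738000000002738000000002710000000002730000000002758000000002738000000002758000000002738000000002758000000002720000000002710, nat_lit 0, false, nat_lit 0⟩,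
  ⟨nat_lit 0, nat_lit 16, nat_lit 0x27020000000014310000000026510000000001b10000000001480000000001280000000001300000000000380000000001280000000001300000000000300000000000d80000000001480000000000680000000000d8000000002704, nat_lit 0, false, nat_lit 0⟩,
  ⟨nat_lit 0, nat_lit 18, nat_lit 0x2718000000002730000000002730000000002768000000002758000000002738000000002758000000002718000000002778000000002758000000002778000000002768000000002730000000002768000000002738000000002758000000002710000000002768, nat_lit 0, false, nat_lit 0⟩,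
  ⟨nat_lit 0, nat_lit 19, nat_lit 0x27020000000019310000000012610000000003810000000000300000000000680000000001200000000001300000000000300000000001200000000001300000000001480000000000680000000000d80000000000380000000001480000000000300000000000d8000000002704, nat_lit 0, false, nat_lit 0⟩,
  ⟨nat_lit 0, nat_lit 5, nat_lit 0x2718000000002730000000002728000000002710000000002790, nat_lit 0, false, nat_lit 0⟩,
  ⟨nat_lit 0, nat_lit 13, nat_lit 0x272000000001631000000000b51000000000a810000000000300000000000d800000000003800000000013800000000270a000000001cc10000000021f1000000000a81000000000d13, nat_lit 0, false, nat_lit 0⟩,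
  ⟨nat_lit 4, nat_lit 0, nat_lit 0, nat_lit 635, false, nat_lit 0⟩,
  ⟨nat_lit 4, nat_lit 0, nat_lit 0, nat_lit 635, true, nat_lit 30⟩,
  ⟨nat_lit 0, nat_lit 9, nat_lit 0x2702000000000a41000000002521000000000e210000000000380000000000380000000001200000000000380000000027bc, nat_lit 0, false, nat_lit 0⟩,
  ⟨nat_lit 4, nat_lit 0, nat_lit 0, nat_lit 638, false, nat_lit 0⟩,
  ⟨nat_lit 4, nat_lit 0, nat_lit 0, nat_lit 638, false, nat_lit 4⟩,
  ⟨nat_lit 4, nat_lit 0, nat_lit 0, nat_lit 638, false, nat_lit 18⟩,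
  ⟨nat_lit 4, nat_lit 0, nat_lit 0, nat_lit 638, false, nat_lit 22⟩,
  ⟨nat_lit 4, nat_lit 0, nat_lit 0, nat_lit 638, true, nat_lit 17⟩,
  ⟨nat_lit 4, nat_lit 0, nat_lit 0, nat_lit 638, true, nat_lit 31⟩,
  ⟨nat_lit 0, nat_lit 15, nat_lit 0x2720000000009d1000000001461000000000371000000000030000000000068000000000ce20000000014a10000000014110000000007c100000000270a0000000017210000000022210000000012710000000027c3, nat_lit 0, false, nat_lit 0⟩,
  ⟨nat_lit 4, nat_lit 0, nat_lit 0, nat_lit 645, false, nat_lit 0⟩,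
  ⟨nat_lit 4, nat_lit 0, nat_lit 0, nat_lit 645, false, nat_lit 18⟩,
  ⟨nat_lit 4, nat_lit 0, nat_lit 0, nat_lit 645, false, nat_lit 32⟩,
  ⟨nat_lit 4, nat_lit 0, nat_lit 0, nat_lit 645, true, nat_lit 10⟩,
  ⟨nat_lit 0, nat_lit 8, nat_lit 0x2702000000001551000000000bc100000000049100000000013800000000003000000000013800000000285c, nat_lit 0, false, nat_lit 0⟩,
  ⟨nat_lit 0, nat_lit 17, nat_lit 0x27200000000027a80000000027680000000027a80000000027800000000027180000000028a80000000027e80000000027100000000027100000000027380000000027680000000027a80000000027580000000027e80000000027300000000028a0, nat_lit 0, false, nat_lit 0⟩,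
  ⟨nat_lit 0, nat_lit 23, nat_lit 0x27a00000000027580000000028b00000000027780000000027a00000000027100000000027e00000000027680000000027380000000027880000000027a00000000027780000000027200000000027a80000000027100000000027680000000027380000000027a80000000027300000000027880000000027e80000000027200000000028b8, nat_lit 0, false, nat_lit 0⟩,
  ⟨nat_lit 0, nat_lit 26, nat_lit 0x27300000000028b80000000027380000000027180000000027e00000000027e00000000028b80000000028a00000000027680000000028c80000000027380000000027380000000027a80000000028b00000000027200000000027780000000028a00000000027100000000027680000000028c80000000027300000000028b8000000002768000000002728000000002770000000002738, nat_lit 0, false, nat_lit 0⟩,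
  ⟨nat_lit 4, nat_lit 0, nat_lit 0, nat_lit 650, false, nat_lit 0⟩,
  ⟨nat_lit 4, nat_lit 0, nat_lit 0, nat_lit 650, false, nat_lit 22⟩,
  ⟨nat_lit 0, nat_lit 13, nat_lit 0x2702000000001ec10000000022d1000000000be10000000000380000000000680000000000d800000000014800000000270a0000000004110000000003e10000000012710000000002b3, nat_lit 0, false, nat_lit 0⟩,
  ⟨nat_lit 0, nat_lit 12, nat_lit 0x2702000000001cf100000000225100000000073100000000003000000000014800000000003800000000270a000000001d71000000000ae1000000000af1000000000d23, nat_lit 0, false, nat_lit 0⟩,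
  ⟨nat_lit 2, nat_lit 0, nat_lit 0, nat_lit 0, false, nat_lit 0⟩,
  ⟨nat_lit 0, nat_lit 23, nat_lit 0x2922000000001d81000000000f910000000002f10000000000380000000000380000000001280000000000d80000000000680000000001300000000001200000000001300000000001480000000000380000000001280000000000380000000000680000000001300000000000d80000000000300000000001480000000000d8000000002924, nat_lit 0, false, nat_lit 0⟩,
  ⟨nat_lit 0, nat_lit 21, nat_lit 0x2922000000000dd1000000000d810000000002510000000000680000000001380000000000680000000000d80000000000380000000001280000000001380000000001280000000001380000000000380000000001200000000000380000000001300000000000d8000000000030000000000130000000002924, nat_lit 0, false, nat_lit 0⟩,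
  ⟨nat_lit 0, nat_lit 20, nat_lit 0x29220000000022b1000000001ca10000000001710000000001200000000000680000000000d80000000001200000000001380000000001280000000001300000000000300000000001300000000001480000000000380000000001480000000000d80000000001200000000000d8000000002924, nat_lit 0, false, nat_lit 0⟩,
  ⟨nat_lit 0, nat_lit 6, nat_lit 0x2948000000002948000000002938000000002948000000002948000000002950, nat_lit 0, false, nat_lit 0⟩,
  ⟨nat_lit 0, nat_lit 12, nat_lit 0x2940000000002968000000002930000000002950000000002930000000002948000000002968000000002930000000002940000000002938000000002940000000002938, nat_lit 0, false, nat_lit 0⟩,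
  ⟨nat_lit 0, nat_lit 24, nat_lit 0x2922000000001c310000000016710000000012710000000000680000000001280000000001480000000000680000000001300000000000d80000000001280000000001380000000001280000000000380000000001200000000001480000000000380000000001280000000000d80000000001280000000001480000000000d8000000000068000000002924, nat_lit 0, false, nat_lit 0⟩,
  ⟨nat_lit 0, nat_lit 22, nat_lit 0x29220000000018910000000024610000000006a10000000000380000000001480000000000380000000000d80000000000680000000001200000000001280000000001380000000000680000000001480000000000380000000000380000000000d80000000001280000000000300000000001480000000000d8000000002924, nat_lit 0, false, nat_lit 0⟩,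
  ⟨nat_lit 0, nat_lit 4, nat_lit 0x2938000000002948000000002938000000002990, nat_lit 0, false, nat_lit 0⟩,
  ⟨nat_lit 0, nat_lit 23, nat_lit 0x2922000000001cc10000000020b1000000000a810000000000380000000001280000000001300000000000380000000001480000000000d80000000001280000000001300000000001480000000000380000000001200000000000380000000001200000000001480000000000d8000000000038000000000130000000000030000000002924, nat_lit 0, false, nat_lit 0⟩,
  ⟨nat_lit 0, nat_lit 3, nat_lit 0x29380000000029400000000029b0, nat_lit 0, false, nat_lit 0⟩,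
  ⟨nat_lit 0, nat_lit 25, nat_lit 0x29220000000019d10000000026910000000012710000000000380000000000680000000001380000000001480000000000680000000001300000000001200000000001300000000001480000000000380000000001380000000000680000000000300000000001300000000000d80000000000300000000001200000000000d8000000000068000000000038000000002924, nat_lit 0, false, nat_lit 0⟩,
  ⟨nat_lit 0, nat_lit 4, nat_lit 0x29300000000029800000000029400000000029d0, nat_lit 0, false, nat_lit 0⟩,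
  ⟨nat_lit 0, nat_lit 12, nat_lit 0x29480000000029e00000000029c80000000029380000000029400000000029300000000029900000000029680000000029780000000029c8000000002988000000002938, nat_lit 0, false, nat_lit 0⟩,
  ⟨nat_lit 0, nat_lit 19, nat_lit 0x27020000000023310000000017710000000001710000000001380000000000300000000000d80000000002720000000024d10000000025a10000000007810000000000300000000000d800000000012800000000292a000000001fe1000000001f910000000008d10000000028f3, nat_lit 0, false, nat_lit 0⟩,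
  ⟨nat_lit 0, nat_lit 18, nat_lit 0x2a0a000000000b21000000001ed10000000008d10000000027380000000028b80000000027700000000027680000000028c80000000028d80000000027380000000028b80000000027880000000028d80000000027780000000027200000000027e0000000002a0c, nat_lit 0, false, nat_lit 0⟩,
  ⟨nat_lit 0, nat_lit 4, nat_lit 0x2938000000002948000000002978000000002a10, nat_lit 0, false, nat_lit 0⟩,
  ⟨nat_lit 0, nat_lit 15, nat_lit 0x29380000000029380000000029e8000000002a280000000029c80000000029380000000029c8000000002938000000002a10000000002a28000000002a28000000002a280000000029a8000000002988000000002948, nat_lit 0, false, nat_lit 0⟩,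
  ⟨nat_lit 4, nat_lit 0, nat_lit 0, nat_lit 673, false, nat_lit 16⟩,
  ⟨nat_lit 4, nat_lit 0, nat_lit 0, nat_lit 673, false, nat_lit 18⟩,
  ⟨nat_lit 4, nat_lit 0, nat_lit 0, nat_lit 673, true, nat_lit 15⟩,
  ⟨nat_lit 4, nat_lit 0, nat_lit 0, nat_lit 673, true, nat_lit 31⟩,
  ⟨nat_lit 0, nat_lit 15, nat_lit 0x2922000000000cb10000000021c1000000000a710000000000380000000001280000000000380000000000380000000001380000000000d800000000270a0000000010e1000000002321000000000a71000000000503, nat_lit 0, false, nat_lit 0⟩,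
  ⟨nat_lit 0, nat_lit 18, nat_lit 0x2922000000000db1000000000a310000000004b1000000000128000000000038000000000120000000000030000000000ce20000000018f10000000024210000000001c100000000006800000000292a000000000411000000000a610000000001b1000000002a63, nat_lit 0, false, nat_lit 0⟩,
  ⟨nat_lit 0, nat_lit 12, nat_lit 0x2a82000000000ef10000000026c10000000004910000000027100000000027100000000027a8000000002a8a000000001d910000000026e1000000000151000000000d03, nat_lit 0, false, nat_lit 0⟩,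
  ⟨nat_lit 0, nat_lit 11, nat_lit 0x2a0a000000001af1000000000fc1000000000179000000002710000000002730000000002a02000000000dd1000000001831000000000301000000000283, nat_lit 0, false, nat_lit 0⟩,
  ⟨nat_lit 0, nat_lit 16, nat_lit 0x2a0a000000001dc10000000021010000000003010000000027180000000027580000000029020000000015f1000000002081000000000371000000002718000000002a8a000000001d91000000000981000000000be1000000002863, nat_lit 0, false, nat_lit 0⟩,
  ⟨nat_lit 0, nat_lit 18, nat_lit 0x2a82000000001dd10000000026d1000000000a810000000027200000000028d80000000027e00000000029120000000016e10000000019c10000000001510000000028a8000000002718000000002a8a0000000017d1000000002511000000000af1000000002a53, nat_lit 0, false, nat_lit 0⟩,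
  ⟨nat_lit 0, nat_lit 12, nat_lit 0x2ad20000000017e1000000000eb1000000000151000000002a20000000002ad2000000001e610000000025710000000007c1000000002988000000002a280000000002b3, nat_lit 0, false, nat_lit 0⟩,
  ⟨nat_lit 2, nat_lit 0, nat_lit 0, nat_lit 0, false, nat_lit 0⟩,
  ⟨nat_lit 0, nat_lit 21, nat_lit 0x2af2000000000681000000000e110000000001790000000001480000000000300000000000680000000000d80000000001200000000001280000000001380000000001280000000000300000000001200000000000680000000000300000000000d8000000000030000000000138000000000138000000002af4, nat_lit 0, false, nat_lit 0⟩,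
  ⟨nat_lit 0, nat_lit 22, nat_lit 0x2af20000000019e10000000026d10000000007c10000000000680000000001380000000000680000000000300000000000d80000000000680000000001380000000001380000000000680000000000300000000001280000000001380000000000d8000000000038000000000148000000000030000000000120000000002af4, nat_lit 0, false, nat_lit 0⟩,
  ⟨nat_lit 0, nat_lit 21, nat_lit 0x2af2000000001af10000000026310000000008d10000000001200000000000680000000001200000000001380000000000d80000000001200000000001380000000000380000000001200000000001380000000000300000000000d80000000000380000000000d8000000000128000000000068000000002af4, nat_lit 0, false, nat_lit 0⟩,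
  ⟨nat_lit 0, nat_lit 4, nat_lit 0x2b00000000002b18000000002b00000000002b20, nat_lit 0, false, nat_lit 0⟩,
  ⟨nat_lit 0, nat_lit 15, nat_lit 0x2b08000000002b08000000002b18000000002b30000000002b00000000002b20000000002b38000000002b18000000002b30000000002b00000000002b10000000002b38000000002b10000000002b30000000002b18, nat_lit 0, false, nat_lit 0⟩,
  ⟨nat_lit 0, nat_lit 18, nat_lit 0x2af2000000001fe10000000026710000000001b10000000001380000000000d80000000000380000000001380000000001280000000001380000000001480000000000300000000001380000000001280000000000d8000000000068000000000120000000002af4, nat_lit 0, false, nat_lit 0⟩,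
  ⟨nat_lit 0, nat_lit 5, nat_lit 0x2b00000000002b18000000002b30000000002b18000000002b50, nat_lit 0, false, nat_lit 0⟩,
  ⟨nat_lit 0, nat_lit 19, nat_lit 0x2af2000000001841000000001251000000000ea10000000001300000000000d800000000014800000000003800000000003800000000270a000000001d01000000001b410000000004a10000000028d8000000002a8a0000000018a1000000001541000000000d91000000000083, nat_lit 0, false, nat_lit 0⟩,
  ⟨nat_lit 0, nat_lit 14, nat_lit 0x2b720000000007510000000022a10000000015910000000029380000000029e8000000002a28000000002a38000000002a28000000002968000000002930000000002988000000002940000000002b74, nat_lit 0, false, nat_lit 0⟩,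
  ⟨nat_lit 0, nat_lit 4, nat_lit 0x2b18000000002b00000000002b38000000002b80, nat_lit 0, false, nat_lit 0⟩,
  ⟨nat_lit 4, nat_lit 0, nat_lit 0, nat_lit 696, false, nat_lit 19⟩,
  ⟨nat_lit 4, nat_lit 0, nat_lit 0, nat_lit 696, true, nat_lit 13⟩,
  ⟨nat_lit 4, nat_lit 0, nat_lit 0, nat_lit 696, true, nat_lit 32⟩,
  ⟨nat_lit 0, nat_lit 18, nat_lit 0x2b720000000023710000000009a1000000000ff1000000002948000000002a28000000002980000000002ad20000000019e1000000002001000000000a81000000002988000000002a28000000002b7a000000001be1000000001b21000000000781000000002893, nat_lit 0, false, nat_lit 0⟩,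
  ⟨nat_lit 0, nat_lit 13, nat_lit 0x2af20000000012a1000000001401000000000ff10000000000380000000001200000000001300000000000d8000000002afa000000000e710000000016210000000004910000000002a3, nat_lit 0, false, nat_lit 0⟩,
  ⟨nat_lit 0, nat_lit 12, nat_lit 0x2af2000000002171000000001f11000000000a810000000001280000000000d8000000000120000000002afa0000000017010000000007710000000002f1000000000d03, nat_lit 0, false, nat_lit 0⟩,
  ⟨nat_lit 0, nat_lit 16, nat_lit 0x2be2000000002591000000002191000000000ea1000000002b08000000002b08000000002b30000000002be2000000002471000000000e51000000000f11000000002b00000000002b98000000002b00000000002b180000000002b3, nat_lit 0, false, nat_lit 0⟩,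
  ⟨nat_lit 0, nat_lit 18, nat_lit 0x2b72000000002311000000002481000000000161000000002930000000002988000000002a30000000002aa20000000013c1000000001b110000000003f1000000002a30000000002988000000002b7a000000000a510000000008c1000000000a810000000028e3, nat_lit 0, false, nat_lit 0⟩,
  ⟨nat_lit 0, nat_lit 19, nat_lit 0x2b720000000003610000000020210000000008f1000000002930000000002988000000002a200000000029220000000012d1000000002391000000000a71000000000068000000000038000000000128000000000030000000002afa000000000661000000002151000000002a73, nat_lit 0, false, nat_lit 0⟩,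
  ⟨nat_lit 0, nat_lit 18, nat_lit 0x2c220000000008b1000000001b71000000000711000000002b98000000002b00000000002b10000000002b68000000002c22000000001331000000001ef1000000000179000000002b08000000002b10000000002b98000000002b10000000002b40000000000283, nat_lit 0, false, nat_lit 0⟩,
  ⟨nat_lit 0, nat_lit 17, nat_lit 0x2af2000000000ab10000000018810000000007810000000000300000000001480000000000380000000001200000000004d2000000001fe100000000254100000000078100000000014800000000292a000000002291000000001ac1000000002bb3, nat_lit 0, false, nat_lit 0⟩,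
  ⟨nat_lit 0, nat_lit 13, nat_lit 0x2c42000000000521000000001eb1000000000a81000000002938000000002988000000002a30000000002940000000002b7a0000000022f1000000001f610000000006a1000000000293, nat_lit 0, false, nat_lit 0⟩,
  ⟨nat_lit 0, nat_lit 14, nat_lit 0x2af2000000001ad1000000001cd10000000012710000000001380000000001380000000000300000000000d800000000013000000000292a000000001941000000002281000000000be10000000004e3, nat_lit 0, false, nat_lit 0⟩,
  ⟨nat_lit 2, nat_lit 0, nat_lit 0, nat_lit 0, false, nat_lit 0⟩,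
  ⟨nat_lit 0, nat_lit 12, nat_lit 0x2c72000000000c510000000024f1000000000a71000000002948000000002938000000002a38000000002a280000000029680000000029400000000029e0000000002c74, nat_lit 0, false, nat_lit 0⟩,
  ⟨nat_lit 0, nat_lit 13, nat_lit 0x2c720000000011d10000000018710000000007c1000000002930000000002a28000000002a380000000029a8000000002a28000000002948000000002938000000002a28000000002c74, nat_lit 0, false, nat_lit 0⟩,
  ⟨nat_lit 0, nat_lit 14, nat_lit 0x2c88000000002c88000000002c90000000002c88000000002c98000000002c88000000002c98000000002c88000000002c80000000002c88000000002c90000000002c88000000002c88000000002c88, nat_lit 0, false, nat_lit 0⟩,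
  ⟨nat_lit 0, nat_lit 12, nat_lit 0x2c72000000001d110000000014010000000015910000000029400000000029c80000000029e8000000002a28000000002940000000002938000000002a28000000002c74, nat_lit 0, false, nat_lit 0⟩,
  ⟨nat_lit 0, nat_lit 5, nat_lit 0x2c80000000002ca0000000002c88000000002c90000000002cb0, nat_lit 0, false, nat_lit 0⟩,
  ⟨nat_lit 0, nat_lit 12, nat_lit 0x2c420000000008410000000023a10000000006e1000000002a28000000002930000000002a28000000002c7a000000000c41000000002121000000000d910000000000e3, nat_lit 0, false, nat_lit 0⟩,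
  ⟨nat_lit 0, nat_lit 10, nat_lit 0x2cda000000002211000000001f51000000000ff1000000002b38000000002b68000000002b30000000002b48000000002b00000000002cdc, nat_lit 0, false, nat_lit 0⟩,
  ⟨nat_lit 0, nat_lit 14, nat_lit 0x2c72000000001e310000000016a1000000000381000000002a28000000002ae20000000015710000000023d1000000000f11000000002a0a000000001fa1000000002031000000000251000000002833, nat_lit 0, false, nat_lit 0⟩,
  ⟨nat_lit 0, nat_lit 17, nat_lit 0x2ac2000000001a51000000002381000000000171000000002a28000000002930000000002ab2000000001b310000000009210000000001590000000029880000000029e8000000002c7a000000002261000000001301000000000e21000000002803, nat_lit 0, false, nat_lit 0⟩]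

theorem c3 : P.chkL D3 600 = true := by decide +kernel

def D4 : List De := [⟨nat_lit 0, nat_lit 18, nat_lit 0x2cf20000000020610000000023e1000000000a010000000027100000000027800000000027200000000029020000000017a10000000010a1000000000611000000002718000000002730000000002cfa0000000017010000000011f10000000001b10000000027f3, nat_lit 0, false, nat_lit 0⟩,
  ⟨nat_lit 0, nat_lit 16, nat_lit 0x2ab20000000010b1000000002201000000000301000000002938000000002948000000002c7a0000000024910000000025f1000000000161000000002d12000000001cf1000000002381000000000ea1000000002c88000000002893, nat_lit 0, false, nat_lit 0⟩,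
  ⟨nat_lit 0, nat_lit 13, nat_lit 0x2d0a000000000d41000000001f61000000000ff1000000002948000000002a92000000001291000000001f81000000000731000000002938000000002a38000000002948000000000113, nat_lit 0, false, nat_lit 0⟩,
  ⟨nat_lit 0, nat_lit 17, nat_lit 0x2b720000000009e10000000026f10000000006e10000000029800000000029e8000000002d02000000001211000000001fd10000000001b1000000002ce8000000002d12000000001f010000000012c1000000000a71000000002c88000000002883, nat_lit 0, false, nat_lit 0⟩,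
  ⟨nat_lit 0, nat_lit 20, nat_lit 0x2cd2000000000b31000000002441000000000af1000000002c80000000002c98000000002c88000000002ce8000000002d32000000001551000000000ec1000000001071000000002988000000002940000000002a30000000002d3a0000000019010000000017310000000006410000000028e3, nat_lit 0, false, nat_lit 0⟩,
  ⟨nat_lit 0, nat_lit 12, nat_lit 0x2d4a000000001a110000000020910000000002f1000000002b08000000002b38000000002b18000000002d42000000000701000000000fe1000000000591000000000d33, nat_lit 0, false, nat_lit 0⟩,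
  ⟨nat_lit 0, nat_lit 17, nat_lit 0x2d32000000001b01000000002351000000000a01000000002988000000002a28000000002940000000002ab2000000001041000000001241000000000d91000000002930000000002d020000000025d1000000002501000000000241000000002bc3, nat_lit 0, false, nat_lit 0⟩,
  ⟨nat_lit 0, nat_lit 17, nat_lit 0x2d0a000000001ab1000000000c210000000006410000000029c8000000002938000000002ad20000000011610000000020d1000000000151000000002938000000002948000000002d02000000001961000000002661000000000a71000000002a43, nat_lit 0, false, nat_lit 0⟩,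
  ⟨nat_lit 0, nat_lit 10, nat_lit 0x2d2a0000000011910000000024a1000000001591000000002978000000002c7a0000000015510000000015a1000000000ed10000000000f3, nat_lit 0, false, nat_lit 0⟩,
  ⟨nat_lit 0, nat_lit 21, nat_lit 0x2cf20000000018b10000000004710000000001790000000027100000000027a80000000028d8000000002728000000002cfa000000001691000000002681000000000179000000002c88000000002d620000000022f10000000013e1000000000ed1000000002c98000000002c80000000002ca00000000027d3, nat_lit 0, false, nat_lit 0⟩,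
  ⟨nat_lit 0, nat_lit 19, nat_lit 0x2d5a000000001551000000000aa1000000002b08000000002b98000000002b10000000002b38000000002c22000000000b010000000024010000000006a1000000002b10000000002b68000000002b38000000002d42000000001821000000001bb10000000001c1000000002a73, nat_lit 0, false, nat_lit 0⟩,
  ⟨nat_lit 0, nat_lit 17, nat_lit 0x2d72000000001521000000001a31000000002c88000000002cc8000000002ce8000000002c80000000002ce8000000002d720000000013a1000000001d51000000000151000000002ce8000000002ca0000000002c98000000002ca8000000000293, nat_lit 0, false, nat_lit 0⟩,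
  ⟨nat_lit 0, nat_lit 20, nat_lit 0x2db2000000002041000000001a71000000000ed1000000002ce8000000002c98000000002c98000000002d320000000011110000000021a1000000001591000000002930000000002a20000000002988000000002a28000000002d02000000000a41000000002551000000000171000000002843, nat_lit 0, false, nat_lit 0⟩,
  ⟨nat_lit 0, nat_lit 24, nat_lit 0x2cda0000000022710000000021410000000008f1000000002b38000000002b00000000002d42000000001c71000000001e91000000000a81000000002c88000000002ce8000000002ca0000000002c98000000002d5a000000001fb1000000002361000000000731000000002b08000000002b98000000002b00000000002b10000000002b98000000000083, nat_lit 0, false, nat_lit 0⟩,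
  ⟨nat_lit 0, nat_lit 18, nat_lit 0x2d5a0000000015e1000000000a31000000000151000000002b68000000002b98000000002b38000000002b18000000002b18000000002d520000000017610000000013710000000006e1000000002ce8000000002ca8000000002ce8000000002c900000000004f3, nat_lit 0, false, nat_lit 0⟩,
  ⟨nat_lit 0, nat_lit 12, nat_lit 0x2c720000000024510000000025310000000002510000000029380000000029f8000000002c7a0000000014f1000000001d610000000002c1000000002ce8000000000cf3, nat_lit 0, false, nat_lit 0⟩,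
  ⟨nat_lit 2, nat_lit 0, nat_lit 0, nat_lit 0, false, nat_lit 0⟩,
  ⟨nat_lit 0, nat_lit 14, nat_lit 0x2e120000000019910000000013510000000004a1000000002930000000002a200000000029e00000000029f0000000002a300000000029f8000000002940000000002930000000002940000000002e14, nat_lit 0, false, nat_lit 0⟩,
  ⟨nat_lit 0, nat_lit 11, nat_lit 0x2e12000000001641000000000541000000000d91000000002930000000002a20000000002940000000002a20000000002978000000002980000000002e14, nat_lit 0, false, nat_lit 0⟩,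
  ⟨nat_lit 0, nat_lit 15, nat_lit 0x2e12000000002581000000001a01000000000961000000002930000000002a280000000029c8000000002a280000000029780000000029c8000000002a280000000029300000000029480000000029e8000000002e14, nat_lit 0, false, nat_lit 0⟩,
  ⟨nat_lit 0, nat_lit 4, nat_lit 0x2e28000000002e40000000002e48000000002e48, nat_lit 0, false, nat_lit 0⟩,
  ⟨nat_lit 0, nat_lit 12, nat_lit 0x2c42000000001c11000000001ff1000000001591000000002968000000002a380000000029f0000000002e1a000000000b310000000020c10000000005510000000000e3, nat_lit 0, false, nat_lit 0⟩,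
  ⟨nat_lit 0, nat_lit 13, nat_lit 0x2e6a0000000010610000000026b1000000000241000000002b48000000002b10000000002b68000000002b38000000002b08000000002b10000000002b08000000002b10000000002e6c, nat_lit 0, false, nat_lit 0⟩,
  ⟨nat_lit 0, nat_lit 21, nat_lit 0x2e6a0000000016810000000024c1000000000159000000002b98000000002b18000000002b30000000002b48000000002b18000000002bd2000000000911000000002031000000000151000000002b00000000002b38000000002b18000000002d520000000010c1000000000061000000000af10000000027d3, nat_lit 0, false, nat_lit 0⟩,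
  ⟨nat_lit 0, nat_lit 21, nat_lit 0x2d720000000023410000000022a10000000002c1000000002c88000000002c88000000002ca8000000002c90000000002ce8000000002d0a0000000008710000000025c1000000001071000000002940000000002980000000002a30000000002e1a0000000006f1000000001f610000000007310000000027c3, nat_lit 0, false, nat_lit 0⟩,
  ⟨nat_lit 0, nat_lit 16, nat_lit 0x2e12000000001c51000000000fb1000000000a010000000029400000000029a8000000002a28000000002d3a000000001f410000000026a1000000000591000000002e8a000000000701000000001621000000000af1000000002823, nat_lit 0, false, nat_lit 0⟩,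
  ⟨nat_lit 0, nat_lit 21, nat_lit 0x2e82000000000c71000000000de1000000000ff1000000002c90000000002ca8000000002ce8000000002c98000000002cc8000000002e8a0000000016310000000024e10000000008d1000000002e58000000002e78000000002e38000000002e58000000002e78000000002e38000000002e58000000000103, nat_lit 0, false, nat_lit 0⟩,
  ⟨nat_lit 0, nat_lit 19, nat_lit 0x2e120000000020110000000022e1000000000371000000002938000000002a28000000002948000000002988000000002d020000000020510000000020b1000000002ca0000000002ce8000000002c98000000002e8a000000001fc10000000015c1000000000ed1000000000093, nat_lit 0, false, nat_lit 0⟩,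
  ⟨nat_lit 0, nat_lit 24, nat_lit 0x2eb20000000007d1000000001c61000000001271000000002e58000000002e78000000002e38000000002e78000000002e40000000002e58000000002e6a000000001191000000002621000000000611000000002b00000000002b98000000002b38000000002b10000000002b40000000002c52000000000401000000002071000000000a81000000002a63, nat_lit 0, false, nat_lit 0⟩,
  ⟨nat_lit 0, nat_lit 20, nat_lit 0x2e6a0000000015610000000025e1000000000171000000002b30000000002b98000000002b18000000002b00000000002c620000000014d10000000021e1000000001271000000002938000000002a30000000002988000000002e1a0000000020a10000000025610000000004b1000000002ba3, nat_lit 0, false, nat_lit 0⟩,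
  ⟨nat_lit 0, nat_lit 21, nat_lit 0x2d5a000000001801000000001aa1000000000151000000002b00000000002b10000000002b48000000002b10000000002b68000000002e62000000001c010000000022410000000008f1000000002e50000000002e78000000002e28000000002e58000000002e78000000002e28000000002e58000000000103, nat_lit 0, false, nat_lit 0⟩,
  ⟨nat_lit 0, nat_lit 28, nat_lit 0x2eb2000000001bc1000000002161000000000151000000002e78000000002e40000000002e78000000002e40000000002ee20000000022910000000025b1000000000641000000002e78000000002e50000000002e38000000002e78000000002e38000000002e50000000002ec2000000001de1000000002641000000000881000000002e50000000002e48000000002e78000000002e38000000002e580000000000a3, nat_lit 0, false, nat_lit 0⟩,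
  ⟨nat_lit 0, nat_lit 25, nat_lit 0x2e82000000001c81000000000d51000000000241000000002c80000000002ca8000000002c88000000002ce8000000002e8a000000001331000000002691000000001591000000002e78000000002e28000000002e78000000002e40000000002e58000000002e6a000000001c71000000000ec1000000000a81000000002b18000000002b00000000002b68000000002873, nat_lit 0, false, nat_lit 0⟩,
  ⟨nat_lit 0, nat_lit 20, nat_lit 0x2ed2000000000691000000002611000000001591000000002b00000000002b40000000002b30000000002c220000000019a1000000001f31000000000611000000002b98000000002b68000000002b18000000002b00000000002eda0000000019a10000000018d1000000000161000000002813, nat_lit 0, false, nat_lit 0⟩]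

theorem c4 : P.chkL D4 721 = true := by decide +kernel


theorem val {H : Type} [Group H] {N : ℕ} {Γ : Type} [Group Γ] {A : RAct H N} {g : ℕ → H} {φ : H →* Γ} {z : Γ}
    {c : ℕ → Subgroup.center Γ} (h : CtxH P A g) (hG : CtxG P g φ z c) :
    ∀ x < 755, Val P g φ z c (P.F x) := by
  have h0 : ∀ x < 0, Val P g φ z c (P.F x) := forall_lt_zero'
  have h1 : ∀ x < 200, Val P g φ z c (P.F x) := chkL_spec h hG h0 c0
  have h2 : ∀ x < 400, Val P g φ z c (P.F x) := chkL_spec h hG h1 c1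
  have h3 : ∀ x < 600, Val P g φ z c (P.F x) := chkL_spec h hG h2 c2
  have h4 : ∀ x < 721, Val P g φ z c (P.F x) := chkL_spec h hG h3 c3
  have h5 : ∀ x < 755, Val P g φ z c (P.F x) := chkL_spec h hG h4 c4
  exact h5

end Cfsg.Agent.L0.J4FB
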