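import Cfsg.Agent.L0.DceZ
import Cfsg.Agent.L0.J4.Act0

/-! Generated: double coset enumeration. -/

set_option autoImplicit false
set_option maxRecDepth 100000

namespace Cfsg.Agent.L0.J4FP

open Dce

noncomputable def F0 : GT Fa := .node (.node (.node (.node (.node (.leaf ⟨nat_lit 1, nat_lit 0, nat_lit 1, nat_lit 0, nat_lit 0, nat_lit 0, [], [], []⟩) (.leaf ⟨nat_lit 1, nat_lit 31, nat_lit 29, nat_lit 0x2950d060ad21, nat_lit 0x414ca4a42a, nat_lit 0x485996829504, [], [], []⟩)) (.node (.leaf ⟨nat_lit 1, nat_lit 7, nat_lit 20, nat_lit 0x32206b3a105, nat_lit 0, nat_lit 0x25848739c4a, [], [], []⟩) (.leaf ⟨nat_lit 1, nat_lit 51, nat_lit 47, nat_lit 0x49c672184a, nat_lit 0x6740d2322041, nat_lit 0x1128661244b, [], [], []⟩))) (.node (.node (.leaf ⟨nat_lit 0, nat_lit 1, nat_lit 1, nat_lit 0, nat_lit 0x330ca92106a, nat_lit 0xb114a8208e2, [], [], []⟩) (.leaf ⟨nat_lit 0, nat_lit 32, nat_lit 32, nat_lit 0, nat_lit 0x2538ce912ce3, nat_lit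 0x322026220c2, [], [], []⟩)) (.leaf ⟨nat_lit 1, nat_lit 45, nat_lit 46, nat_lit 130, nat_lit 0, nat_lit 0, [], [], []⟩))) (.node (.node (.node (.leaf ⟨nat_lit 1, nat_lit 1, nat_lit 2, nat_lit 0x308c2308c22088230882208822, nat_lit 0, nat_lit 0, [], [], []⟩) (.leaf ⟨nat_lit 1, nat_lit 43, nat_lit 44, nat_lit 0x4b1ad264ad02, nat_lit 0x90ac611a467, nat_lit 0x740446520c3, [], [], []⟩)) (.node (.leaf ⟨nat_lit 1, nat_lit 3, nat_lit 34, nat_lit 0x71986612822, nat_lit 0, nat_lit 0, [], [], []⟩) (.leaf ⟨nat_lit 0, nat_lit 39, nat_lit 3, nat_lit 0, nat_lit 6, nat_lit 0x30ac67108a711c6612822, [], [], []⟩))) (.node (.node (.leaf ⟨nat_lit 0, nat_lit 8, nat_lit 8, nat_lit 0, nat_lit 0x48310ea4a521, nat_lit 0x461950712922, [], [], []⟩) (.leaf ⟨nat_lit 1, nat_lit 2, nat_lit 48, nat_lit 323, nat_lit 0, nat_lit 0, [], [], []⟩)) (.leaf ⟨nat_lit 0, nat_lit 2, nat_lit 2, nat_lit 0, nat_lit 0x71a16708ce7, nat_lit 0x4946b19548, [], [], []⟩)))) (.node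 (.node (.node (.node (.leaf ⟨nat_lit 2, nat_lit 0, nat_lit 0, nat_lit 328, nat_lit 0, nat_lit 0, [], [], [nat_lit 9, nat_lit 328, nat_lit 9]⟩) (.leaf ⟨nat_lit 1, nat_lit 26, nat_lit 28, nat_lit 0x1321014a4e1, nat_lit 0x6612822, nat_lit 0x22a86a0a0e1, [], [], []⟩)) (.node (.leaf ⟨nat_lit 1, nat_lit 26, nat_lit 27, nat_lit 0x308c2308c22088230882208822, nat_lit 0, nat_lit 0, [], [], []⟩) (.leaf ⟨nat_lit 0, nat_lit 27, nat_lit 3, nat_lit 0, nat_lit 0x130d2741c83, nat_lit 0x61a90209503, [], [], []⟩))) (.node (.node (.leaf ⟨nat_lit 1, nat_lit 5, nat_lit 6, nat_lit 0x308c2308c22088230882208822, nat_lit 0, nat_lit 0, [], [], []⟩) (.leaf ⟨nat_lit 1, nat_lit 44, nat_lit 7, nat_lit 0x92090b48884, nat_lit 0x54996709122, nat_lit 0x939d4349445, [], [], []⟩)) (.leaf ⟨nat_lit 1, nat_lit 8, nat_lit 7, nat_lit 0x658c2810522, nat_lit 0x43286432d0a, nat_lit 0x24ad2619445, [], [], []⟩))) (.node (.node (.node (.leaf ⟨nat_lit 0, nat_lit 2, nat_lit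 2, nat_lit 0, nat_lit 0x11c4a31962, nat_lit 0x4121c48324e1, [], [], []⟩) (.leaf ⟨nat_lit 0, nat_lit 26, nat_lit 41, nat_lit 0, nat_lit 0x542ce548524, nat_lit 0x25850718563, [], [], []⟩)) (.leaf ⟨nat_lit 0, nat_lit 40, nat_lit 25, nat_lit 0, nat_lit 0x1390894a883, nat_lit 0x12952552164, [], [], []⟩)) (.node (.node (.leaf ⟨nat_lit 1, nat_lit 14, nat_lit 15, nat_lit 0x308c2308c22088230882208822, nat_lit 0, nat_lit 0, [], [], []⟩) (.leaf ⟨nat_lit 1, nat_lit 32, nat_lit 49, nat_lit 0x41292b4a8e1, nat_lit 0x449c2a39d21, nat_lit 0x14216742861, [], [], []⟩)) (.leaf ⟨nat_lit 1, nat_lit 31, nat_lit 7, nat_lit 0x2a0a0a618502, nat_lit 0x1414e81a8e1, nat_lit 0x2a0a065124c2, [], [], []⟩))))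

noncomputable def F1 : GT Fa := .node (.node (.node (.node (.node (.leaf ⟨nat_lit 2, nat_lit 0, nat_lit 0, nat_lit 5, nat_lit 0, nat_lit 0, [], [], [nat_lit 4]⟩) (.leaf ⟨nat_lit 0, nat_lit 0, nat_lit 0, nat_lit 0, nat_lit 0x8231849090c4, nat_lit 0xa72850339c65, [], [], []⟩)) (.node (.leaf ⟨nat_lit 0, nat_lit 20, nat_lit 8, nat_lit 0, nat_lit 0x538cc932143, nat_lit 0xb19ce728543, [], [], []⟩) (.leaf ⟨nat_lit 1, nat_lit 51, nat_lit 48, nat_lit 0x249d6441881, nat_lit 0xb4210b4ad0a, nat_lit 0x88233a025, [], [], []⟩))) (.node (.node (.leaf ⟨nat_lit 0, nat_lit 3, nat_lit 3, nat_lit 0, nat_lit 0x2a902390ca, nat_lit 0xa08d0b1ac24, [], [], []⟩) (.leaf ⟨nat_lit 1, nat_lit 9, nat_lit 32, nat_lit 0x2208d233a424, nat_lit 0x11254308ceb, nat_lit 0x2a1282811841, [], [], []⟩)) (.leaf ⟨nat_lit 0, nat_lit 1, nat_lit 1, nat_lit 0, nat_lit 0x529d04328e1, nat_lit 0x132ce549884, [], [], []⟩))) (.node (.node (.node (.leaf ⟨nat_lit 0, nat_lit 1, nat_lit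 1, nat_lit 0, nat_lit 37, nat_lit 129, [], [], []⟩) (.leaf ⟨nat_lit 1, nat_lit 44, nat_lit 44, nat_lit 0x23519430a561, nat_lit 0x7524a748cc6, nat_lit 0x51846288c9, [], [], []⟩)) (.node (.leaf ⟨nat_lit 0, nat_lit 34, nat_lit 34, nat_lit 0, nat_lit 0xac2420541, nat_lit 0xac2528541, [], [], []⟩) (.leaf ⟨nat_lit 0, nat_lit 42, nat_lit 3, nat_lit 0, nat_lit 7, nat_lit 0x30ac6711ce33186612822, [], [], []⟩))) (.node (.node (.leaf ⟨nat_lit 1, nat_lit 8, nat_lit 9, nat_lit 0x308c2308c22088230882208822, nat_lit 0, nat_lit 0, [], [], []⟩) (.leaf ⟨nat_lit 0, nat_lit 48, nat_lit 48, nat_lit 0, nat_lit 0x33a4a32a466, nat_lit 0x33a42821922, [], [], []⟩)) (.leaf ⟨nat_lit 2, nat_lit 0, nat_lit 0, nat_lit 0x6612822, nat_lit 0, nat_lit 0, [], [], [nat_lit 0x1120411a461, nat_lit 0x6158ce2, nat_lit 0x1a0e9120c3]⟩)))) (.node (.node (.node (.node (.leaf ⟨nat_lit 2, nat_lit 0, nat_lit 0, nat_lit 299, nat_lit 0, nat_lit 0, [], [], [nat_lit 8, nat_lit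 299, nat_lit 8]⟩) (.leaf ⟨nat_lit 1, nat_lit 26, nat_lit 30, nat_lit 0xcc250441, nat_lit 0, nat_lit 0x22a86a0a0e1, [], [], []⟩)) (.node (.leaf ⟨nat_lit 1, nat_lit 3, nat_lit 28, nat_lit 0x186612822, nat_lit 0, nat_lit 0, [], [], []⟩) (.leaf ⟨nat_lit 0, nat_lit 3, nat_lit 3, nat_lit 0, nat_lit 1, nat_lit 0x30ac671046612822, [], [], []⟩))) (.node (.node (.leaf ⟨nat_lit 0, nat_lit 1, nat_lit 1, nat_lit 0, nat_lit 0x47488e95110a, nat_lit 0x1692ad061a0c3, [], [], []⟩) (.leaf ⟨nat_lit 1, nat_lit 1, nat_lit 47, nat_lit 6, nat_lit 0, nat_lit 0, [], [], []⟩)) (.leaf ⟨nat_lit 0, nat_lit 8, nat_lit 8, nat_lit 0, nat_lit 0x559904224e1, nat_lit 0x24ad2619445, [], [], []⟩))) (.node (.node (.node (.leaf ⟨nat_lit 0, nat_lit 2, nat_lit 2, nat_lit 0, nat_lit 0xa65a48152082, nat_lit 0x4942339d68, [], [], []⟩) (.leaf ⟨nat_lit 1, nat_lit 7, nat_lit 32, nat_lit 0x63214842866, nat_lit 0, nat_lit 0x246529d69, [], [], []⟩)) (.leaf ⟨nat_lit 1, nat_lit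 40, nat_lit 41, nat_lit 0x308c2308c22088230882208822, nat_lit 0, nat_lit 0, [], [], []⟩)) (.node (.node (.leaf ⟨nat_lit 1, nat_lit 8, nat_lit 15, nat_lit 0x58d4922023, nat_lit 0, nat_lit 0x128c8340926, [], [], []⟩) (.leaf ⟨nat_lit 1, nat_lit 44, nat_lit 49, nat_lit 0x61050328567, nat_lit 0x339d0358922, nat_lit 0x3321461a8e4, [], [], []⟩)) (.leaf ⟨nat_lit 0, nat_lit 7, nat_lit 7, nat_lit 0, nat_lit 0x40908631825, nat_lit 0xa0a42a48465, [], [], []⟩))))

noncomputable def F2 : GT Fa := .node (.node (.node (.node (.node (.leaf ⟨nat_lit 0, nat_lit 0, nat_lit 0, nat_lit 0, nat_lit 5, nat_lit 4, [], [], []⟩) (.leaf ⟨nat_lit 0, nat_lit 43, nat_lit 43, nat_lit 0, nat_lit 0x548c8738824, nat_lit 0x4749c8630882, [], [], []⟩)) (.node (.leaf ⟨nat_lit 1, nat_lit 20, nat_lit 21, nat_lit 0x308c2308c22088230882208822, nat_lit 0, nat_lit 0, [], [], []⟩) (.leaf ⟨nat_lit 1, nat_lit 43, nat_lit 52, nat_lit 3, nat_lit 0, nat_lit 0, [], [], []⟩)))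 (.node (.node (.leaf ⟨nat_lit 0, nat_lit 3, nat_lit 3, nat_lit 0, nat_lit 0x14342167, nat_lit 0x463246812422, [], [], []⟩) (.leaf ⟨nat_lit 0, nat_lit 9, nat_lit 33, nat_lit 0, nat_lit 0x198835a102, nat_lit 0x2a1282811841, [], [], []⟩)) (.leaf ⟨nat_lit 1, nat_lit 2, nat_lit 43, nat_lit 0x141ce122167, nat_lit 0x2910566428e3, nat_lit 0x5850352061, [], [], []⟩))) (.node (.node (.node (.leaf ⟨nat_lit 0, nat_lit 1, nat_lit 1, nat_lit 0, nat_lit 0x61acc51a923, nat_lit 0x242c443a847, [], [], []⟩) (.leaf ⟨nat_lit 1, nat_lit 3, nat_lit 2, nat_lit 0xa25848349883, nat_lit 0x234108828823, nat_lit 0x6a0a04438cc3, [], [], []⟩)) (.node (.leaf ⟨nat_lit 0, nat_lit 34, nat_lit 34, nat_lit 0, nat_lit 0x52630501, nat_lit 0x80956629c87, [], [], []⟩) (.leaf ⟨nat_lit 0, nat_lit 46, nat_lit 3, nat_lit 0, nat_lit 4135, nat_lit 0x4611845308c60946612822, [], [], []⟩))) (.node (.node (.leaf ⟨nat_lit 0, nat_lit 1, nat_lit 1, nat_lit 0, nat_lit 0x2a0e421921,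 nat_lit 0xa0e529924, [], [], []⟩) (.leaf ⟨nat_lit 0, nat_lit 48, nat_lit 48, nat_lit 0, nat_lit 0x2341c6658d61, nat_lit 0xb1206530922, [], [], []⟩)) (.leaf ⟨nat_lit 2, nat_lit 0, nat_lit 0, nat_lit 0x1120411a461, nat_lit 0, nat_lit 0, [], [], [nat_lit 0x6158ce2, nat_lit 0x1a0e9120c3, nat_lit 0x6612822]⟩)))) (.node (.node (.node (.node (.leaf ⟨nat_lit 0, nat_lit 1, nat_lit 1, nat_lit 0, nat_lit 0xa8c63102b, nat_lit 0x504a739d61, [], [], []⟩) (.leaf ⟨nat_lit 0, nat_lit 30, nat_lit 27, nat_lit 0, nat_lit 1, nat_lit 0x22a86a0a0e1, [], [], []⟩)) (.node (.leaf ⟨nat_lit 0, nat_lit 28, nat_lit 28, nat_lit 0, nat_lit 0x4184862a024, nat_lit 0x3098c551d67, [], [], []⟩) (.leaf ⟨nat_lit 0, nat_lit 3, nat_lit 3, nat_lit 0, nat_lit 2083, nat_lit 0xc2b19c4208c6612822, [], [], []⟩))) (.node (.node (.leaf ⟨nat_lit 0, nat_lit 1, nat_lit 1, nat_lit 0, nat_lit 161, nat_lit 36, [], [], []⟩) (.leaf ⟨nat_lit 0, nat_lit 47, nat_lit 47, nat_lit 0, nat_lit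 0x728561590e1, nat_lit 0x4aa0a824, [], [], []⟩)) (.leaf ⟨nat_lit 0, nat_lit 8, nat_lit 8, nat_lit 0, nat_lit 0x71a16708ce7, nat_lit 0xa929504, [], [], []⟩))) (.node (.node (.node (.leaf ⟨nat_lit 0, nat_lit 1, nat_lit 1, nat_lit 0, nat_lit 36, nat_lit 161, [], [], []⟩) (.leaf ⟨nat_lit 1, nat_lit 7, nat_lit 35, nat_lit 0x8588285a163, nat_lit 0, nat_lit 0xa0a44a4ac23, [], [], []⟩)) (.leaf ⟨nat_lit 1, nat_lit 25, nat_lit 41, nat_lit 0x5846909522, nat_lit 0, nat_lit 0x5524aa41081, [], [], []⟩)) (.node (.node (.leaf ⟨nat_lit 0, nat_lit 15, nat_lit 9, nat_lit 0, nat_lit 0x2ac2b0942a, nat_lit 0x740d2228881, [], [], []⟩) (.leaf ⟨nat_lit 1, nat_lit 49, nat_lit 25, nat_lit 0x114470a4c5, nat_lit 0x251ad0249901, nat_lit 0x661946b420e4, [], [], []⟩)) (.leaf ⟨nat_lit 0, nat_lit 7, nat_lit 7, nat_lit 0, nat_lit 0x151ce448882, nat_lit 0x2921c4a320a1, [], [], []⟩))))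

noncomputable def F3 : GT Fa := .node (.node (.node (.node (.node (.leaf ⟨nat_lit 0, nat_lit 1, nat_lit 1, nat_lit 0, nat_lit 5, nat_lit 4, [], [], []⟩) (.leaf ⟨nat_lit 2, nat_lit 0, nat_lit 0, nat_lit 0x1946612822, nat_lit 0, nat_lit 0, [], [], [nat_lit 0x6519ce5320c3, nat_lit 0x1856338882, nat_lit 0x508cc628904]⟩)) (.node (.leaf ⟨nat_lit 1, nat_lit 8, nat_lit 21, nat_lit 0x720cc858523, nat_lit 0, nat_lit 0x25848739c4a, [], [], []⟩) (.leaf ⟨nat_lit 0, nat_lit 52, nat_lit 52, nat_lit 0, nat_lit 0xac2420541, nat_lit 0x15a54611469, [], [], []⟩))) (.node (.node (.leaf ⟨nat_lit 0, nat_lit 3, nat_lit 3, nat_lit 0, nat_lit 0xa651104120e3, nat_lit 0x33ac66128e2, [], [], []⟩) (.leaf ⟨nat_lit 1, nat_lit 44, nat_lit 44, nat_lit 0x2b3ad2949943, nat_lit 0x20a651d41, nat_lit 0xa41ceb328e5, [], [], []⟩)) (.leaf ⟨nat_lit 0, nat_lit 1, nat_lit 1, nat_lit 0, nat_lit 0x450946548d01, nat_lit 0x291208220483, [], [], []⟩))) (.node (.node (.node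 (.leaf ⟨nat_lit 0, nat_lit 1, nat_lit 1, nat_lit 0, nat_lit 0x3a4a251c28, nat_lit 0x484cb19106, [], [], []⟩) (.leaf ⟨nat_lit 0, nat_lit 3, nat_lit 3, nat_lit 0, nat_lit 0x24e708ce4, nat_lit 0x6a0a04438cc3, [], [], []⟩)) (.leaf ⟨nat_lit 1, nat_lit 34, nat_lit 35, nat_lit 0x308c2308c22088230882208822, nat_lit 0, nat_lit 0, [], [], []⟩)) (.node (.node (.leaf ⟨nat_lit 1, nat_lit 3, nat_lit 10, nat_lit 0x106612822, nat_lit 0, nat_lit 0, [], [], []⟩) (.leaf ⟨nat_lit 1, nat_lit 48, nat_lit 44, nat_lit 0x311053a562, nat_lit 0x80a4e9310c9, nat_lit 0xb4292b19841, [], [], []⟩)) (.leaf ⟨nat_lit 2, nat_lit 0, nat_lit 0, nat_lit 0x6158ce2, nat_lit 0, nat_lit 0, [], [], [nat_lit 0x1a0e9120c3, nat_lit 0x6612822, nat_lit 0x1120411a461]⟩)))) (.node (.node (.node (.node (.leaf ⟨nat_lit 0, nat_lit 1, nat_lit 1, nat_lit 0, nat_lit 0x2841d6648d22, nat_lit 0x68120ea32521, [], [], []⟩) (.leaf ⟨nat_lit 1, nat_lit 7, nat_lit 41, nat_lit 0x163499061a902,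 nat_lit 0x10b110e930883, nat_lit 0x43112951962, [], [], []⟩)) (.node (.leaf ⟨nat_lit 0, nat_lit 28, nat_lit 28, nat_lit 0, nat_lit 0x3428c65a167, nat_lit 0x495014ad0a, [], [], []⟩) (.leaf ⟨nat_lit 0, nat_lit 3, nat_lit 3, nat_lit 0, nat_lit 5156, nat_lit 0xc2b19c450906612822, [], [], []⟩))) (.node (.node (.leaf ⟨nat_lit 0, nat_lit 1, nat_lit 1, nat_lit 0, nat_lit 0x2324654a887, nat_lit 0x62ad04120e3, [], [], []⟩) (.leaf ⟨nat_lit 0, nat_lit 47, nat_lit 47, nat_lit 0, nat_lit 0xa6525220a881, nat_lit 0x6939c4b0a841, [], [], []⟩)) (.leaf ⟨nat_lit 0, nat_lit 8, nat_lit 8, nat_lit 0, nat_lit 0x1252228ca2, nat_lit 0x8129425, [], [], []⟩))) (.node (.node (.node (.leaf ⟨nat_lit 0, nat_lit 1, nat_lit 1, nat_lit 0, nat_lit 0xa5644102a, nat_lit 0x584a92a901, [], [], []⟩) (.leaf ⟨nat_lit 0, nat_lit 35, nat_lit 32, nat_lit 0, nat_lit 0x520eb2192b, nat_lit 0x138d041a481, [], [], []⟩)) (.leaf ⟨nat_lit 1, nat_lit 41, nat_lit 42, nat_lit 0x308c2308c22088230882208822,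 nat_lit 0, nat_lit 0, [], [], []⟩)) (.node (.node (.leaf ⟨nat_lit 1, nat_lit 3, nat_lit 16, nat_lit 0x2046612822, nat_lit 0, nat_lit 0, [], [], []⟩) (.leaf ⟨nat_lit 1, nat_lit 7, nat_lit 49, nat_lit 0xa1216831082, nat_lit 0x34a4e23a84a, nat_lit 0x20950a49d63, [], [], []⟩)) (.leaf ⟨nat_lit 0, nat_lit 7, nat_lit 7, nat_lit 0, nat_lit 0x411ca839127, nat_lit 0x240d49288c2, [], [], []⟩))))

noncomputable def F4 : GT Fa := .node (.node (.node (.node (.node (.leaf ⟨nat_lit 2, nat_lit 0, nat_lit 0, nat_lit 1, nat_lit 0, nat_lit 0, [], [], [nat_lit 1]⟩) (.leaf ⟨nat_lit 2, nat_lit 0, nat_lit 0, nat_lit 0x6519ce5320c3, nat_lit 0, nat_lit 0, [], [], [nat_lit 0x1856338882, nat_lit 0x508cc628904, nat_lit 0x1946612822]⟩)) (.node (.leaf ⟨nat_lit 0, nat_lit 21, nat_lit 9, nat_lit 0, nat_lit 0x6125493a42a, nat_lit 0xb19ce728543, [], [], []⟩) (.leaf ⟨nat_lit 1, nat_lit 48, nat_lit 52, nat_lit 0x128cc5114e9, nat_lit 0x254092549d42, nat_lit 0x5848358487,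 [], [], []⟩))) (.node (.node (.leaf ⟨nat_lit 0, nat_lit 3, nat_lit 3, nat_lit 0, nat_lit 0x8121025, nat_lit 0x986a4186b, [], [], []⟩) (.leaf ⟨nat_lit 1, nat_lit 2, nat_lit 7, nat_lit 0x3498643a44b, nat_lit 0xb3896928cc3, nat_lit 0x13a92a1a906, [], [], []⟩)) (.leaf ⟨nat_lit 0, nat_lit 1, nat_lit 1, nat_lit 0, nat_lit 0x142420481, nat_lit 0x4a129424, [], [], []⟩))) (.node (.node (.node (.leaf ⟨nat_lit 0, nat_lit 1, nat_lit 1, nat_lit 0, nat_lit 0x8e74a849, nat_lit 0x206b418c3, [], [], []⟩) (.leaf ⟨nat_lit 0, nat_lit 3, nat_lit 3, nat_lit 0, nat_lit 0x430d0b09503, nat_lit 0x88aa09d25, [], [], []⟩)) (.leaf ⟨nat_lit 0, nat_lit 35, nat_lit 35, nat_lit 0, nat_lit 0x20c632484, nat_lit 0x1a101314ea, [], [], []⟩)) (.node (.node (.leaf ⟨nat_lit 0, nat_lit 10, nat_lit 7, nat_lit 0, nat_lit 0x351963488c6, nat_lit 0x25992a40489, [], [], []⟩) (.leaf ⟨nat_lit 1, nat_lit 43, nat_lit 48, nat_lit 0x250d4342d05, nat_lit 0x286640d2b, nat_lit 0x4659ce238d21,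 [], [], []⟩)) (.leaf ⟨nat_lit 2, nat_lit 0, nat_lit 0, nat_lit 0x1a0e9120c3, nat_lit 0, nat_lit 0, [], [], [nat_lit 0x6612822, nat_lit 0x1120411a461, nat_lit 0x6158ce2]⟩)))) (.node (.node (.node (.node (.leaf ⟨nat_lit 0, nat_lit 1, nat_lit 1, nat_lit 0, nat_lit 0x221ce140d49, nat_lit 0x858921318a3, [], [], []⟩) (.leaf ⟨nat_lit 1, nat_lit 43, nat_lit 43, nat_lit 0x40a924308a3, nat_lit 0x25846750904, nat_lit 0x29c86128e2, [], [], []⟩)) (.node (.leaf ⟨nat_lit 0, nat_lit 28, nat_lit 28, nat_lit 0, nat_lit 0x4a82339c88, nat_lit 0x4942339d68, [], [], []⟩) (.leaf ⟨nat_lit 0, nat_lit 0, nat_lit 0, nat_lit 0, nat_lit 0x2819d0258564, nat_lit 0xaa0a86930921, [], [], []⟩))) (.node (.node (.leaf ⟨nat_lit 1, nat_lit 3, nat_lit 7, nat_lit 0x146612822, nat_lit 0, nat_lit 0, [], [], []⟩) (.leaf ⟨nat_lit 0, nat_lit 47, nat_lit 47, nat_lit 0, nat_lit 0x75848708ca2, nat_lit 0x4a4ac294a441, [], [], []⟩)) (.leaf ⟨nat_lit 1, nat_lit 7, nat_lit 34,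 nat_lit 0x1414e81a8e1, nat_lit 0x30a46841942, nat_lit 0xd0a0ad22, [], [], []⟩))) (.node (.node (.node (.leaf ⟨nat_lit 0, nat_lit 1, nat_lit 1, nat_lit 0, nat_lit 0x11d223ac2b, nat_lit 0x505461a0c3, [], [], []⟩) (.leaf ⟨nat_lit 0, nat_lit 32, nat_lit 32, nat_lit 0, nat_lit 0x4acea308c1, nat_lit 0x1394e228d46, [], [], []⟩)) (.leaf ⟨nat_lit 1, nat_lit 1, nat_lit 43, nat_lit 0x1946612822, nat_lit 0, nat_lit 0, [], [], []⟩)) (.node (.node (.leaf ⟨nat_lit 0, nat_lit 1, nat_lit 1, nat_lit 0, nat_lit 0x229d0b1a10a, nat_lit 0xb4a44a49883, [], [], []⟩) (.leaf ⟨nat_lit 1, nat_lit 43, nat_lit 50, nat_lit 0x32022, nat_lit 0, nat_lit 0, [], [], []⟩)) (.leaf ⟨nat_lit 0, nat_lit 7, nat_lit 7, nat_lit 0, nat_lit 0x84090421d41, nat_lit 0x6b39c6158ca1, [], [], []⟩))))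

noncomputable def F5 : GT Fa := .node (.node (.node (.node (.node (.leaf ⟨nat_lit 0, nat_lit 0, nat_lit 0, nat_lit 0, nat_lit 1, nat_lit 1, [], [], []⟩) (.leaf ⟨nat_lit 2, nat_lit 0, nat_lit 0, nat_lit 0x1856338882, nat_lit 0, nat_lit 0, [], [], [nat_lit 0x508cc628904, nat_lit 0x1946612822, nat_lit 0x6519ce5320c3]⟩)) (.node (.leaf ⟨nat_lit 1, nat_lit 3, nat_lit 22, nat_lit 0x739c6612822, nat_lit 0, nat_lit 0, [], [], []⟩) (.leaf ⟨nat_lit 1, nat_lit 47, nat_lit 52, nat_lit 0x824208129d62, nat_lit 0x4499215a522, nat_lit 0x3314c349865, [], [], []⟩))) (.node (.node (.leaf ⟨nat_lit 0, nat_lit 3, nat_lit 3, nat_lit 0, nat_lit 0x25244a0ac24, nat_lit 0x58cc831444, [], [], []⟩) (.leaf ⟨nat_lit 0, nat_lit 2, nat_lit 8, nat_lit 0, nat_lit 0x359c8838887, nat_lit 0x13a92a1a906, [], [], []⟩)) (.leaf ⟨nat_lit 1, nat_lit 7, nat_lit 7, nat_lit 0x240a0e719424, nat_lit 0x2186728522, nat_lit 0x986a4186b, [], [], []⟩))) (.node (.node (.node (.leaf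 ⟨nat_lit 0, nat_lit 1, nat_lit 1, nat_lit 0, nat_lit 0x54ac8820481, nat_lit 0x1284a92a904, [], [], []⟩) (.leaf ⟨nat_lit 0, nat_lit 3, nat_lit 3, nat_lit 0, nat_lit 0x622483418c2, nat_lit 0x1598ab3186a, [], [], []⟩)) (.leaf ⟨nat_lit 1, nat_lit 35, nat_lit 36, nat_lit 0x308c2308c22088230882208822, nat_lit 0, nat_lit 0, [], [], []⟩)) (.node (.node (.leaf ⟨nat_lit 1, nat_lit 10, nat_lit 11, nat_lit 0x308c2308c22088230882208822, nat_lit 0, nat_lit 0, [], [], []⟩) (.leaf ⟨nat_lit 1, nat_lit 48, nat_lit 48, nat_lit 0x47288a921c22, nat_lit 0x55a44722481, nat_lit 0x13a429504c2, [], [], []⟩)) (.leaf ⟨nat_lit 2, nat_lit 0, nat_lit 0, nat_lit 0x6612822, nat_lit 0, nat_lit 0, [], [], [nat_lit 0x1120411a461, nat_lit 0x6158ce2, nat_lit 0x11d2341922]⟩)))) (.node (.node (.node (.node (.leaf ⟨nat_lit 0, nat_lit 1, nat_lit 1, nat_lit 0, nat_lit 0x350c88420e1, nat_lit 0x13252928962, [], [], []⟩) (.leaf ⟨nat_lit 1, nat_lit 2, nat_lit 44, nat_lit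 0x2c49208e7, nat_lit 0x3952921c45, nat_lit 0x83a4a3498a7, [], [], []⟩)) (.node (.leaf ⟨nat_lit 1, nat_lit 28, nat_lit 29, nat_lit 0x308c2308c22088230882208822, nat_lit 0, nat_lit 0, [], [], []⟩) (.leaf ⟨nat_lit 0, nat_lit 6, nat_lit 0, nat_lit 0, nat_lit 0x6158ce2, nat_lit 0, [], [], []⟩))) (.node (.node (.leaf ⟨nat_lit 0, nat_lit 7, nat_lit 7, nat_lit 0, nat_lit 0x5394c25a023, nat_lit 0x9841198c5, [], [], []⟩) (.leaf ⟨nat_lit 1, nat_lit 47, nat_lit 47, nat_lit 0x3ac6819025, nat_lit 0x280904b494c2, nat_lit 0x38ce342101, [], [], []⟩)) (.leaf ⟨nat_lit 0, nat_lit 43, nat_lit 43, nat_lit 0, nat_lit 0xb128ea120e1, nat_lit 0x33252118562, [], [], []⟩))) (.node (.node (.node (.leaf ⟨nat_lit 0, nat_lit 1, nat_lit 1, nat_lit 0, nat_lit 0xb38cc61a024, nat_lit 0x50a447388ca, [], [], []⟩) (.leaf ⟨nat_lit 0, nat_lit 32, nat_lit 32, nat_lit 0, nat_lit 0x4a8c610488, nat_lit 0x15992221d67, [], [], []⟩)) (.leaf ⟨nat_lit 0, nat_lit 43, nat_lit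 43, nat_lit 0, nat_lit 0x1328e930486, nat_lit 0x11848622081, [], [], []⟩)) (.node (.node (.leaf ⟨nat_lit 0, nat_lit 16, nat_lit 7, nat_lit 0, nat_lit 0x351ce112ce4, nat_lit 0x8c950924, [], [], []⟩) (.leaf ⟨nat_lit 0, nat_lit 50, nat_lit 50, nat_lit 0, nat_lit 0x5244a4a8e3, nat_lit 0x10c94a4ab, [], [], []⟩)) (.leaf ⟨nat_lit 0, nat_lit 25, nat_lit 25, nat_lit 0, nat_lit 0x2a30c8252522, nat_lit 0x4658ce40ad06, [], [], []⟩))))

noncomputable def F6 : GT Fa := .node (.node (.node (.node (.node (.leaf ⟨nat_lit 0, nat_lit 1, nat_lit 1, nat_lit 0, nat_lit 1, nat_lit 1, [], [], []⟩) (.leaf ⟨nat_lit 2, nat_lit 0, nat_lit 0, nat_lit 0x508cc628904, nat_lit 0, nat_lit 0, [], [], [nat_lit 0x1946612822, nat_lit 0x6519ce5320c3, nat_lit 0x1856338882]⟩)) (.node (.leaf ⟨nat_lit 0, nat_lit 22, nat_lit 7, nat_lit 0, nat_lit 0x9124834ac61, nat_lit 0x441ce3388c1, [], [], []⟩) (.leaf ⟨nat_lit 1, nat_lit 47, nat_lit 52, nat_lit 0x90a0c53a142, nat_lit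 0x528ccb20488, nat_lit 0x2cea32549, [], [], []⟩))) (.node (.node (.leaf ⟨nat_lit 0, nat_lit 3, nat_lit 3, nat_lit 0, nat_lit 0x5052949c86, nat_lit 0x2219013a0eb, [], [], []⟩) (.leaf ⟨nat_lit 1, nat_lit 2, nat_lit 9, nat_lit 0x350d42298a1, nat_lit 0, nat_lit 0x13a92a1a906, [], [], []⟩)) (.leaf ⟨nat_lit 0, nat_lit 0, nat_lit 0, nat_lit 0, nat_lit 0x94a2294e3, nat_lit 0x1188419081, [], [], []⟩))) (.node (.node (.node (.leaf ⟨nat_lit 0, nat_lit 2, nat_lit 2, nat_lit 0, nat_lit 0x90a9254a445, nat_lit 0x12092b1a108, [], [], []⟩) (.leaf ⟨nat_lit 0, nat_lit 3, nat_lit 3, nat_lit 0, nat_lit 0x32a46b1a8eb, nat_lit 0x84144432466, [], [], []⟩)) (.leaf ⟨nat_lit 1, nat_lit 3, nat_lit 37, nat_lit 0x4512822, nat_lit 0, nat_lit 0, [], [], []⟩)) (.node (.node (.leaf ⟨nat_lit 1, nat_lit 7, nat_lit 11, nat_lit 0x11ac673a922, nat_lit 0, nat_lit 0x44418a141c41, [], [], []⟩) (.leaf ⟨nat_lit 1, nat_lit 47, nat_lit 48, nat_lit 0x2341425320a3, nat_lit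 0x271a46530501, nat_lit 0x3184541c49, [], [], []⟩)) (.leaf ⟨nat_lit 2, nat_lit 0, nat_lit 0, nat_lit 0x1120411a461, nat_lit 0, nat_lit 0, [], [], [nat_lit 0x6158ce2, nat_lit 0x11d2341922, nat_lit 0x6612822]⟩)))) (.node (.node (.node (.node (.leaf ⟨nat_lit 0, nat_lit 1, nat_lit 1, nat_lit 0, nat_lit 0x23a44758561, nat_lit 0x1505461a0c3, [], [], []⟩) (.leaf ⟨nat_lit 0, nat_lit 44, nat_lit 44, nat_lit 0, nat_lit 0x51946a30ce4, nat_lit 0x12a8e739541, [], [], []⟩)) (.node (.leaf ⟨nat_lit 1, nat_lit 29, nat_lit 30, nat_lit 0x308c2308c22088230882208822, nat_lit 0, nat_lit 0, [], [], []⟩) (.leaf ⟨nat_lit 0, nat_lit 9, nat_lit 3, nat_lit 0, nat_lit 7399, nat_lit 0x18563388a63186612822, [], [], []⟩))) (.node (.node (.leaf ⟨nat_lit 0, nat_lit 7, nat_lit 7, nat_lit 0, nat_lit 0x2641d2331423, nat_lit 0xac2528541, [], [], []⟩) (.leaf ⟨nat_lit 1, nat_lit 47, nat_lit 43, nat_lit 0x922048114e1, nat_lit 0x2048411d61, nat_lit 0x6a1110542c44,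 [], [], []⟩)) (.leaf ⟨nat_lit 0, nat_lit 43, nat_lit 43, nat_lit 0, nat_lit 0x906b30461, nat_lit 0x3298c511041, [], [], []⟩))) (.node (.node (.node (.leaf ⟨nat_lit 0, nat_lit 2, nat_lit 2, nat_lit 0, nat_lit 0x1a84919c24, nat_lit 0x4309024844b, [], [], []⟩) (.leaf ⟨nat_lit 1, nat_lit 7, nat_lit 44, nat_lit 0xb0912610521, nat_lit 0x2a86449ce5, nat_lit 0x1115695a167, [], [], []⟩)) (.leaf ⟨nat_lit 0, nat_lit 43, nat_lit 43, nat_lit 0, nat_lit 0x16652522, nat_lit 0x6939c4b0a841, [], [], []⟩)) (.node (.node (.leaf ⟨nat_lit 1, nat_lit 16, nat_lit 17, nat_lit 0x308c2308c22088230882208822, nat_lit 0, nat_lit 0, [], [], []⟩) (.leaf ⟨nat_lit 1, nat_lit 50, nat_lit 44, nat_lit 0x430cea09126, nat_lit 0x148ca80a8eb, nat_lit 0xa14ac255a0e5, [], [], []⟩)) (.leaf ⟨nat_lit 0, nat_lit 25, nat_lit 25, nat_lit 0, nat_lit 0x43908949522, nat_lit 0x6a1952252468, [], [], []⟩))))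

noncomputable def F7 : GT Fa := .node (.node (.node (.node (.node (.leaf ⟨nat_lit 2, nat_lit 0, nat_lit 0, nat_lit 7238, nat_lit 0, nat_lit 0, [], [], [nat_lit 7238, nat_lit 7238]⟩) (.leaf ⟨nat_lit 2, nat_lit 0, nat_lit 0, nat_lit 0x1946612822, nat_lit 0, nat_lit 0, [], [], [nat_lit 0xb1a04628cc9, nat_lit 0x1856338882, nat_lit 0x548c8738824]⟩)) (.node (.leaf ⟨nat_lit 1, nat_lit 22, nat_lit 23, nat_lit 0x308c2308c22088230882208822, nat_lit 0, nat_lit 0, [], [], []⟩) (.leaf ⟨nat_lit 1, nat_lit 52, nat_lit 47, nat_lit 0x825318cb, nat_lit 0x2324a820921, nat_lit 0x130c8809865, [], [], []⟩))) (.node (.node (.leaf ⟨nat_lit 1, nat_lit 3, nat_lit 4, nat_lit 0x6612822, nat_lit 0, nat_lit 0, [], [], []⟩) (.leaf ⟨nat_lit 0, nat_lit 9, nat_lit 3, nat_lit 0, nat_lit 0x52846858d61, nat_lit 0x74ac4b42cc1, [], [], []⟩)) (.leaf ⟨nat_lit 1, nat_lit 1, nat_lit 1, nat_lit 0x1196608926, nat_lit 7238, nat_lit 0x118a5194a1, [], [], []⟩))) (.node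 (.node (.node (.leaf ⟨nat_lit 0, nat_lit 1, nat_lit 1, nat_lit 0, nat_lit 0x12a8254ac88, nat_lit 0x92a9040ac81, [], [], []⟩) (.leaf ⟨nat_lit 0, nat_lit 3, nat_lit 3, nat_lit 0, nat_lit 0x358cc50ad06, nat_lit 0x29caa19106, [], [], []⟩)) (.leaf ⟨nat_lit 0, nat_lit 37, nat_lit 28, nat_lit 0, nat_lit 0x282888749942, nat_lit 0x29cea4ac6b, [], [], []⟩)) (.node (.node (.leaf ⟨nat_lit 0, nat_lit 11, nat_lit 8, nat_lit 0, nat_lit 0xd26584a6, nat_lit 0x25992a40489, [], [], []⟩) (.leaf ⟨nat_lit 1, nat_lit 48, nat_lit 48, nat_lit 0x1309695204b, nat_lit 0x751d2208d21, nat_lit 0x4121c48324e1, [], [], []⟩)) (.leaf ⟨nat_lit 2, nat_lit 0, nat_lit 0, nat_lit 0x6158ce2, nat_lit 0, nat_lit 0, [], [], [nat_lit 0x11d2341922, nat_lit 0x6612822, nat_lit 0x1120411a461]⟩)))) (.node (.node (.node (.node (.leaf ⟨nat_lit 0, nat_lit 1, nat_lit 1, nat_lit 0, nat_lit 0x2c4420963, nat_lit 0x9432946a, [], [], []⟩) (.leaf ⟨nat_lit 1, nat_lit 43, nat_lit 43,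 nat_lit 0x4a44828469, nat_lit 0x53a0474a52a, nat_lit 0x11848622141, [], [], []⟩)) (.node (.leaf ⟨nat_lit 1, nat_lit 3, nat_lit 31, nat_lit 0x20c6612822, nat_lit 0, nat_lit 0, [], [], []⟩) (.leaf ⟨nat_lit 0, nat_lit 12, nat_lit 3, nat_lit 0, nat_lit 5281, nat_lit 0x18563388812106612822, [], [], []⟩))) (.node (.node (.leaf ⟨nat_lit 0, nat_lit 7, nat_lit 7, nat_lit 0, nat_lit 0x8121025, nat_lit 0x2a3094838924, [], [], []⟩) (.leaf ⟨nat_lit 1, nat_lit 47, nat_lit 43, nat_lit 0x11a0c239d07, nat_lit 0x23598a750563, nat_lit 0x62a0a12044a, [], [], []⟩)) (.leaf ⟨nat_lit 2, nat_lit 0, nat_lit 0, nat_lit 0x1946612822, nat_lit 0, nat_lit 0, [], [], [nat_lit 0x350441420e2, nat_lit 0x1856338882, nat_lit 0x13246b32c6a]⟩))) (.node (.node (.node (.leaf ⟨nat_lit 0, nat_lit 2, nat_lit 2, nat_lit 0, nat_lit 0x5052949c86, nat_lit 0x5190642082, [], [], []⟩) (.leaf ⟨nat_lit 1, nat_lit 1, nat_lit 6, nat_lit 0x92204a4a886, nat_lit 0, nat_lit 0x253082a39087,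 [], [], []⟩)) (.leaf ⟨nat_lit 0, nat_lit 43, nat_lit 43, nat_lit 0, nat_lit 0xa92422161, nat_lit 0x34090a12d2a, [], [], []⟩)) (.node (.node (.leaf ⟨nat_lit 1, nat_lit 7, nat_lit 17, nat_lit 0x711c2b49d23, nat_lit 0, nat_lit 0x15035a0e3, [], [], []⟩) (.leaf ⟨nat_lit 1, nat_lit 50, nat_lit 32, nat_lit 0x124e95a0c5, nat_lit 0x25a46549ce2, nat_lit 0x11242220ce8, [], [], []⟩)) (.leaf ⟨nat_lit 0, nat_lit 25, nat_lit 25, nat_lit 0, nat_lit 0xa61992141d41, nat_lit 0x308cc51a482, [], [], []⟩))))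

noncomputable def F8 : GT Fa := .node (.node (.node (.node (.node (.leaf ⟨nat_lit 2, nat_lit 0, nat_lit 0, nat_lit 7238, nat_lit 0, nat_lit 0, [], [], [nat_lit 7238, nat_lit 7238]⟩) (.leaf ⟨nat_lit 2, nat_lit 0, nat_lit 0, nat_lit 0x1856338882, nat_lit 0, nat_lit 0, [], [], [nat_lit 0x548c8738824, nat_lit 0x1946612822, nat_lit 0xb1a04628cc9]⟩)) (.node (.leaf ⟨nat_lit 1, nat_lit 7, nat_lit 23, nat_lit 0x43a4e251103, nat_lit 0, nat_lit 0x138cc231925, [], [], []⟩) (.leaf ⟨nat_lit 0, nat_lit 52, nat_lit 52, nat_lit 0, nat_lit 0x24a84948923, nat_lit 0xb39d2412522, [], [], []⟩))) (.node (.node (.leaf ⟨nat_lit 0, nat_lit 1, nat_lit 1, nat_lit 0, nat_lit 0x14ac8820564, nat_lit 0x5504a92a901, [], [], []⟩) (.leaf ⟨nat_lit 1, nat_lit 2, nat_lit 32, nat_lit 0x691282b41083, nat_lit 0x142420e15a522, nat_lit 0x654282920ca1, [], [], []⟩)) (.leaf ⟨nat_lit 2, nat_lit 0, nat_lit 0, nat_lit 0x1196608926, nat_lit 0, nat_lit 0, [], [], [nat_lit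 0x9082210e3, nat_lit 7270]⟩))) (.node (.node (.node (.leaf ⟨nat_lit 0, nat_lit 1, nat_lit 1, nat_lit 0, nat_lit 0x27210e240ca3, nat_lit 0x4412466294c1, [], [], []⟩) (.leaf ⟨nat_lit 0, nat_lit 3, nat_lit 3, nat_lit 0, nat_lit 0x12a08612d02, nat_lit 0x232c6811865, [], [], []⟩)) (.leaf ⟨nat_lit 1, nat_lit 37, nat_lit 38, nat_lit 0x308c2308c22088230882208822, nat_lit 0, nat_lit 0, [], [], []⟩)) (.node (.node (.leaf ⟨nat_lit 1, nat_lit 11, nat_lit 12, nat_lit 0x308c2308c22088230882208822, nat_lit 0, nat_lit 0, [], [], []⟩) (.leaf ⟨nat_lit 1, nat_lit 48, nat_lit 47, nat_lit 0x18c1520c5, nat_lit 0x55992b41c23, nat_lit 0x1484c8390c1, [], [], []⟩)) (.leaf ⟨nat_lit 2, nat_lit 0, nat_lit 0, nat_lit 0x11d2341922, nat_lit 0, nat_lit 0, [], [], [nat_lit 0x6612822, nat_lit 0x1120411a461, nat_lit 0x6158ce2]⟩)))) (.node (.node (.node (.node (.leaf ⟨nat_lit 0, nat_lit 1, nat_lit 1, nat_lit 0, nat_lit 0xa121024, nat_lit 0xa129424, [], [], []⟩)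 (.leaf ⟨nat_lit 0, nat_lit 44, nat_lit 44, nat_lit 0, nat_lit 0x63146821d66, nat_lit 0xb30c893090a, [], [], []⟩)) (.node (.leaf ⟨nat_lit 0, nat_lit 31, nat_lit 31, nat_lit 0, nat_lit 0xac2420541, nat_lit 0xa130ca511c24, [], [], []⟩) (.leaf ⟨nat_lit 0, nat_lit 15, nat_lit 3, nat_lit 0, nat_lit 129, nat_lit 0x18563388a50946612822, [], [], []⟩))) (.node (.node (.leaf ⟨nat_lit 0, nat_lit 1, nat_lit 1, nat_lit 0, nat_lit 0x20e421921, nat_lit 0x507294c9, [], [], []⟩) (.leaf ⟨nat_lit 1, nat_lit 44, nat_lit 47, nat_lit 0x14a86b418c8, nat_lit 0x50906449944, nat_lit 0x8c6488e4, [], [], []⟩)) (.leaf ⟨nat_lit 2, nat_lit 0, nat_lit 0, nat_lit 0x350441420e2, nat_lit 0, nat_lit 0, [], [], [nat_lit 0x1856338882, nat_lit 0x13246b32c6a, nat_lit 0x1946612822]⟩))) (.node (.node (.node (.leaf ⟨nat_lit 1, nat_lit 2, nat_lit 3, nat_lit 0x308c2308c22088230882208822, nat_lit 0, nat_lit 0, [], [], []⟩) (.leaf ⟨nat_lit 0, nat_lit 6, nat_lit 0, nat_lit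 0, nat_lit 0x92204a4a886, nat_lit 0x2819d0258564, [], [], []⟩)) (.leaf ⟨nat_lit 0, nat_lit 43, nat_lit 43, nat_lit 0, nat_lit 0x3290b22567, nat_lit 0x15a0e73a561, [], [], []⟩)) (.node (.node (.leaf ⟨nat_lit 0, nat_lit 17, nat_lit 8, nat_lit 0, nat_lit 0x2a40d4839c23, nat_lit 0x8c950924, [], [], []⟩) (.leaf ⟨nat_lit 1, nat_lit 50, nat_lit 50, nat_lit 0x1112a1944a, nat_lit 0x273a4c25186a, nat_lit 0x14acea1a06b, [], [], []⟩)) (.leaf ⟨nat_lit 0, nat_lit 28, nat_lit 28, nat_lit 0, nat_lit 0x8631964, nat_lit 0x12d0b1a904, [], [], []⟩))))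

noncomputable def F9 : GT Fa := .node (.node (.node (.node (.node (.leaf ⟨nat_lit 2, nat_lit 0, nat_lit 0, nat_lit 7238, nat_lit 0, nat_lit 0, [], [], [nat_lit 7238, nat_lit 7238]⟩) (.leaf ⟨nat_lit 2, nat_lit 0, nat_lit 0, nat_lit 0x548c8738824, nat_lit 0, nat_lit 0, [], [], [nat_lit 0x1946612822, nat_lit 0xb1a04628cc9, nat_lit 0x1856338882]⟩)) (.node (.leaf ⟨nat_lit 0, nat_lit 23, nat_lit 8, nat_lit 0, nat_lit 0x24986719521, nat_lit 0x441ce3388c1, [], [], []⟩) (.leaf ⟨nat_lit 1, nat_lit 52, nat_lit 51, nat_lit 0x9091211a0cb, nat_lit 0x221d2632906, nat_lit 0x420443ac2a, [], [], []⟩))) (.node (.node (.leaf ⟨nat_lit 0, nat_lit 1, nat_lit 1, nat_lit 0, nat_lit 0xe73894859d61, nat_lit 0x2a3292b198c6, [], [], []⟩) (.leaf ⟨nat_lit 1, nat_lit 3, nat_lit 32, nat_lit 0x40a841510e3, nat_lit 0x11254308ceb, nat_lit 0x209d253204b, [], [], []⟩)) (.leaf ⟨nat_lit 2, nat_lit 0, nat_lit 0, nat_lit 0x9082210e3, nat_lit 0, nat_lit 0, [], [],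 [nat_lit 7270, nat_lit 0x1196608926]⟩))) (.node (.node (.node (.leaf ⟨nat_lit 0, nat_lit 1, nat_lit 1, nat_lit 0, nat_lit 0x532c87508e3, nat_lit 0x230d662a8e4, [], [], []⟩) (.leaf ⟨nat_lit 0, nat_lit 4, nat_lit 2, nat_lit 0, nat_lit 0x13a4eb208a3, nat_lit 0x12950652041, [], [], []⟩)) (.leaf ⟨nat_lit 1, nat_lit 28, nat_lit 38, nat_lit 0x20cca32544, nat_lit 0, nat_lit 0x50948598c4, [], [], []⟩)) (.node (.node (.leaf ⟨nat_lit 1, nat_lit 8, nat_lit 12, nat_lit 0x2232c6b48d42, nat_lit 0, nat_lit 0x44418a141c41, [], [], []⟩) (.leaf ⟨nat_lit 1, nat_lit 48, nat_lit 48, nat_lit 0x253ad2328963, nat_lit 0x32a10228568, nat_lit 0x2b0996651d21, [], [], []⟩)) (.leaf ⟨nat_lit 0, nat_lit 3, nat_lit 3, nat_lit 0, nat_lit 0x5504811a163, nat_lit 0x23186b0a825, [], [], []⟩)))) (.node (.node (.node (.node (.leaf ⟨nat_lit 0, nat_lit 1, nat_lit 1, nat_lit 0, nat_lit 0xa651104120e3, nat_lit 0x4648ca92ace4, [], [], []⟩) (.leaf ⟨nat_lit 0, nat_lit 44,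 nat_lit 44, nat_lit 0, nat_lit 0x712cc419d69, nat_lit 0x13194342087, [], [], []⟩)) (.node (.leaf ⟨nat_lit 0, nat_lit 31, nat_lit 31, nat_lit 0, nat_lit 0xac2b20541, nat_lit 0x24a80a4a8, [], [], []⟩) (.leaf ⟨nat_lit 0, nat_lit 18, nat_lit 3, nat_lit 0, nat_lit 165, nat_lit 0x18563388812106612822, [], [], []⟩))) (.node (.node (.leaf ⟨nat_lit 0, nat_lit 7, nat_lit 7, nat_lit 0, nat_lit 0xa324ca08c82, nat_lit 0x1585252a141, [], [], []⟩) (.leaf ⟨nat_lit 1, nat_lit 7, nat_lit 47, nat_lit 0x6630c2959c41, nat_lit 0x35994240927, nat_lit 0x3584e2598a1, [], [], []⟩)) (.leaf ⟨nat_lit 2, nat_lit 0, nat_lit 0, nat_lit 0x13246b32c6a, nat_lit 0, nat_lit 0, [], [], [nat_lit 0x1946612822, nat_lit 0x350441420e2, nat_lit 0x1856338882]⟩))) (.node (.node (.node (.leaf ⟨nat_lit 0, nat_lit 1, nat_lit 1, nat_lit 0, nat_lit 0x1598a73a143, nat_lit 0x25a4c621d41, [], [], []⟩) (.leaf ⟨nat_lit 1, nat_lit 26, nat_lit 42, nat_lit 0x44292611ca2, nat_lit 0,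 nat_lit 0x25850718563, [], [], []⟩)) (.leaf ⟨nat_lit 0, nat_lit 43, nat_lit 43, nat_lit 0, nat_lit 0x2ad2422144, nat_lit 0x33acc40952b, [], [], []⟩)) (.node (.node (.leaf ⟨nat_lit 1, nat_lit 17, nat_lit 18, nat_lit 0x308c2308c22088230882208822, nat_lit 0, nat_lit 0, [], [], []⟩) (.leaf ⟨nat_lit 1, nat_lit 50, nat_lit 7, nat_lit 0x1520e342cc2, nat_lit 0x2ccb20521, nat_lit 0x42d2b38883, [], [], []⟩)) (.leaf ⟨nat_lit 0, nat_lit 31, nat_lit 31, nat_lit 0, nat_lit 0x33ad0a12ce3, nat_lit 0x121052a523, [], [], []⟩))))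

noncomputable def F10 : GT Fa := .node (.node (.node (.node (.node (.leaf ⟨nat_lit 2, nat_lit 0, nat_lit 0, nat_lit 7270, nat_lit 0, nat_lit 0, [], [], [nat_lit 7270, nat_lit 7270]⟩) (.leaf ⟨nat_lit 1, nat_lit 43, nat_lit 43, nat_lit 0x958c2341841, nat_lit 0x23410c44a441, nat_lit 0x2a0942b0ac81, [], [], []⟩)) (.node (.leaf ⟨nat_lit 1, nat_lit 23, nat_lit 24, nat_lit 0x308c2308c22088230882208822, nat_lit 0, nat_lit 0, [], [], []⟩) (.leaf ⟨nat_lit 1, nat_lit 49, nat_lit 52, nat_lit 0x6b314485a483, nat_lit 0x1418c531849, nat_lit 0x73a54641527, [], [], []⟩))) (.node (.node (.leaf ⟨nat_lit 0, nat_lit 1, nat_lit 1, nat_lit 0, nat_lit 0x50a447388ca, nat_lit 0xb38cc61a024, [], [], []⟩) (.leaf ⟨nat_lit 0, nat_lit 32, nat_lit 32, nat_lit 0, nat_lit 0x40cca1a4a3, nat_lit 0x72896150c86, [], [], []⟩)) (.leaf ⟨nat_lit 2, nat_lit 0, nat_lit 0, nat_lit 7270, nat_lit 0, nat_lit 0, [], [], [nat_lit 0x1196608926, nat_lit 0x9082210e3]⟩))) (.node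 (.node (.node (.leaf ⟨nat_lit 0, nat_lit 2, nat_lit 2, nat_lit 0, nat_lit 0x1c8151d02, nat_lit 0x351963488c6, [], [], []⟩) (.leaf ⟨nat_lit 0, nat_lit 28, nat_lit 7, nat_lit 0, nat_lit 0x158484, nat_lit 0x51846a32c4a, [], [], []⟩)) (.leaf ⟨nat_lit 0, nat_lit 38, nat_lit 29, nat_lit 0, nat_lit 0x53a0c839c22, nat_lit 0x26110e7218a1, [], [], []⟩)) (.node (.node (.leaf ⟨nat_lit 0, nat_lit 12, nat_lit 9, nat_lit 0, nat_lit 0xb394c628ce1, nat_lit 0x25992a40489, [], [], []⟩) (.leaf ⟨nat_lit 1, nat_lit 48, nat_lit 48, nat_lit 0x118a729c44, nat_lit 0xa751c8949d02, nat_lit 0x338d223190a, [], [], []⟩)) (.leaf ⟨nat_lit 0, nat_lit 3, nat_lit 3, nat_lit 0, nat_lit 0x6195061ac24, nat_lit 0x23186449548, [], [], []⟩)))) (.node (.node (.node (.node (.leaf ⟨nat_lit 0, nat_lit 1, nat_lit 1, nat_lit 0, nat_lit 0x118c9220c3, nat_lit 0x11d2541ce3, [], [], []⟩) (.leaf ⟨nat_lit 1, nat_lit 31, nat_lit 44, nat_lit 0x129d02324e7, nat_lit 0x2a86449ce5,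 nat_lit 0x7518a12a4e9, [], [], []⟩)) (.node (.leaf ⟨nat_lit 0, nat_lit 31, nat_lit 31, nat_lit 0, nat_lit 0x8110675a141, nat_lit 0x328d0531961, [], [], []⟩) (.leaf ⟨nat_lit 0, nat_lit 21, nat_lit 3, nat_lit 0, nat_lit 4, nat_lit 0x18563388a50946612822, [], [], []⟩))) (.node (.node (.leaf ⟨nat_lit 1, nat_lit 7, nat_lit 8, nat_lit 0x308c2308c22088230882208822, nat_lit 0, nat_lit 0, [], [], []⟩) (.leaf ⟨nat_lit 1, nat_lit 47, nat_lit 47, nat_lit 0x64292719ca2, nat_lit 0x48151c66, nat_lit 0x7520c439d22, [], [], []⟩)) (.leaf ⟨nat_lit 2, nat_lit 0, nat_lit 0, nat_lit 0x1946612822, nat_lit 0, nat_lit 0, [], [], [nat_lit 0x33252118562, nat_lit 0x1856338882, nat_lit 0xb128ea120e1]⟩))) (.node (.node (.node (.leaf ⟨nat_lit 0, nat_lit 1, nat_lit 1, nat_lit 0, nat_lit 0x1cea4ac6b, nat_lit 0x284a42cc6, [], [], []⟩) (.leaf ⟨nat_lit 1, nat_lit 32, nat_lit 36, nat_lit 0x52064124c2, nat_lit 0, nat_lit 0x12a045488c1, [], [], []⟩)) (.leaf ⟨nat_lit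 0, nat_lit 43, nat_lit 43, nat_lit 0, nat_lit 0x8128e921022, nat_lit 0x88158949, [], [], []⟩)) (.node (.node (.leaf ⟨nat_lit 1, nat_lit 8, nat_lit 18, nat_lit 0x653094929d63, nat_lit 0, nat_lit 0x15035a0e3, [], [], []⟩) (.leaf ⟨nat_lit 1, nat_lit 26, nat_lit 50, nat_lit 0x621d612a022, nat_lit 0x461204842d02, nat_lit 0x248ca919444, [], [], []⟩)) (.leaf ⟨nat_lit 0, nat_lit 31, nat_lit 31, nat_lit 0, nat_lit 0x84090421d41, nat_lit 0x8220c448925, [], [], []⟩))))

noncomputable def F11 : GT Fa := .node (.node (.node (.node (.node (.leaf ⟨nat_lit 2, nat_lit 0, nat_lit 0, nat_lit 7270, nat_lit 0, nat_lit 0, [], [], [nat_lit 7270, nat_lit 7270]⟩) (.leaf ⟨nat_lit 1, nat_lit 44, nat_lit 43, nat_lit 0x90e750542, nat_lit 0x41a8e939ca6, nat_lit 0x11848622141, [], [], []⟩)) (.node (.leaf ⟨nat_lit 1, nat_lit 8, nat_lit 24, nat_lit 0x12a064124c2, nat_lit 0, nat_lit 0x138cc231925, [], [], []⟩) (.leaf ⟨nat_lit 1, nat_lit 49, nat_lit 49, nat_lit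 0x6420e919503, nat_lit 0x4912b12105, nat_lit 0x1508a74a525, [], [], []⟩))) (.node (.node (.leaf ⟨nat_lit 0, nat_lit 1, nat_lit 1, nat_lit 0, nat_lit 0x150d0a12c6b, nat_lit 0xa1286b48961, [], [], []⟩) (.leaf ⟨nat_lit 0, nat_lit 32, nat_lit 32, nat_lit 0, nat_lit 0x82a42958d61, nat_lit 0x95094911028, [], [], []⟩)) (.leaf ⟨nat_lit 2, nat_lit 0, nat_lit 0, nat_lit 0x3a0613a8e3, nat_lit 0, nat_lit 0, [], [], [nat_lit 7238, nat_lit 0x118a5194a1]⟩))) (.node (.node (.node (.leaf ⟨nat_lit 0, nat_lit 2, nat_lit 2, nat_lit 0, nat_lit 0x16652522, nat_lit 0x5a02359c67, [], [], []⟩) (.leaf ⟨nat_lit 0, nat_lit 31, nat_lit 7, nat_lit 0, nat_lit 0x4984148524, nat_lit 0x214629448, [], [], []⟩)) (.leaf ⟨nat_lit 1, nat_lit 38, nat_lit 39, nat_lit 0x308c2308c22088230882208822, nat_lit 0, nat_lit 0, [], [], []⟩)) (.node (.node (.leaf ⟨nat_lit 1, nat_lit 3, nat_lit 13, nat_lit 0x2946612822, nat_lit 0, nat_lit 0, [], [], []⟩) (.leaf ⟨nat_lit 1, nat_lit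 48, nat_lit 47, nat_lit 0x52986721882, nat_lit 0x20487590c8, nat_lit 0x49518693ad01, [], [], []⟩)) (.leaf ⟨nat_lit 0, nat_lit 3, nat_lit 3, nat_lit 0, nat_lit 0x4a88850541, nat_lit 0x664ac6829524, [], [], []⟩)))) (.node (.node (.node (.node (.leaf ⟨nat_lit 0, nat_lit 1, nat_lit 1, nat_lit 0, nat_lit 0x107210c9, nat_lit 0x107294c9, [], [], []⟩) (.leaf ⟨nat_lit 0, nat_lit 31, nat_lit 45, nat_lit 0, nat_lit 0x2a0e7408e5, nat_lit 0x7518a12a4e9, [], [], []⟩)) (.node (.leaf ⟨nat_lit 1, nat_lit 31, nat_lit 32, nat_lit 0x308c2308c22088230882208822, nat_lit 0, nat_lit 0, [], [], []⟩) (.leaf ⟨nat_lit 0, nat_lit 24, nat_lit 3, nat_lit 0, nat_lit 5, nat_lit 0x18563388e73906612822, [], [], []⟩))) (.node (.node (.leaf ⟨nat_lit 0, nat_lit 1, nat_lit 1, nat_lit 0, nat_lit 5157, nat_lit 4132, [], [], []⟩) (.leaf ⟨nat_lit 1, nat_lit 47, nat_lit 47, nat_lit 0x64292421ca8, nat_lit 0x2510e931503, nat_lit 0x2448d2352562, [], [], []⟩)) (.leaf ⟨nat_lit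 2, nat_lit 0, nat_lit 0, nat_lit 0x1856338882, nat_lit 0, nat_lit 0, [], [], [nat_lit 0xb128ea120e1, nat_lit 0x1946612822, nat_lit 0x33252118562]⟩))) (.node (.node (.node (.leaf ⟨nat_lit 0, nat_lit 3, nat_lit 3, nat_lit 0, nat_lit 0x1850a0a0e8, nat_lit 0x25a5413ad21, [], [], []⟩) (.leaf ⟨nat_lit 0, nat_lit 42, nat_lit 27, nat_lit 0, nat_lit 0x41146b49841, nat_lit 0x25044648543, [], [], []⟩)) (.leaf ⟨nat_lit 0, nat_lit 43, nat_lit 43, nat_lit 0, nat_lit 0x142c6a09461, nat_lit 0x23a0c33a562, [], [], []⟩)) (.node (.node (.leaf ⟨nat_lit 0, nat_lit 18, nat_lit 9, nat_lit 0, nat_lit 0xe24214728c82, nat_lit 0x8c950924, [], [], []⟩) (.leaf ⟨nat_lit 1, nat_lit 43, nat_lit 51, nat_lit 9, nat_lit 0, nat_lit 0, [], [], []⟩)) (.leaf ⟨nat_lit 0, nat_lit 8, nat_lit 8, nat_lit 0, nat_lit 0x248619883, nat_lit 0x671a42b18481, [], [], []⟩))))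

noncomputable def F12 : GT Fa := .node (.node (.node (.node (.node (.leaf ⟨nat_lit 2, nat_lit 0, nat_lit 0, nat_lit 7270, nat_lit 0, nat_lit 0, [], [], [nat_lit 7270, nat_lit 7270]⟩) (.leaf ⟨nat_lit 0, nat_lit 44, nat_lit 44, nat_lit 0, nat_lit 0x106a0ac45, nat_lit 0x8d614a563, [], [], []⟩)) (.node (.leaf ⟨nat_lit 0, nat_lit 24, nat_lit 9, nat_lit 0, nat_lit 0x7118ca3a902, nat_lit 0x441ce3388c1, [], [], []⟩) (.leaf ⟨nat_lit 1, nat_lit 49, nat_lit 44, nat_lit 0x529948198a3, nat_lit 0x159d0448468, nat_lit 0x19d075a0a9, [], [], []⟩))) (.node (.node (.leaf ⟨nat_lit 0, nat_lit 1, nat_lit 1, nat_lit 0, nat_lit 132, nat_lit 165, [], [], []⟩) (.leaf ⟨nat_lit 1, nat_lit 32, nat_lit 43, nat_lit 0x328e239d23, nat_lit 0x5288e34a922, nat_lit 0x83a4c540568, [], [], []⟩)) (.leaf ⟨nat_lit 2, nat_lit 0, nat_lit 0, nat_lit 7238, nat_lit 0, nat_lit 0, [], [], [nat_lit 0x118a5194a1, nat_lit 0x3a0613a8e3]⟩))) (.node (.node (.node (.leaf ⟨nat_lit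 0, nat_lit 2, nat_lit 2, nat_lit 0, nat_lit 0xa651104120e3, nat_lit 0x199013a4eb, [], [], []⟩) (.leaf ⟨nat_lit 1, nat_lit 2, nat_lit 5, nat_lit 0x2907284a1, nat_lit 0, nat_lit 0x11a567494a1, [], [], []⟩)) (.leaf ⟨nat_lit 1, nat_lit 29, nat_lit 39, nat_lit 0x20a4662a089, nat_lit 0, nat_lit 0x61494e53a081, [], [], []⟩)) (.node (.node (.leaf ⟨nat_lit 0, nat_lit 13, nat_lit 7, nat_lit 0, nat_lit 0x91a0eb19884, nat_lit 0x740d2228881, [], [], []⟩) (.leaf ⟨nat_lit 1, nat_lit 48, nat_lit 47, nat_lit 0x2a06b4ad0b, nat_lit 0x6411044a4a3, nat_lit 0x52846b09ca3, [], [], []⟩)) (.leaf ⟨nat_lit 0, nat_lit 3, nat_lit 3, nat_lit 0, nat_lit 0xb3a10350ce2, nat_lit 0x921d2a1ac68, [], [], []⟩)))) (.node (.node (.node (.node (.leaf ⟨nat_lit 0, nat_lit 1, nat_lit 1, nat_lit 0, nat_lit 0xa4852531503, nat_lit 0x2490e44050b, [], [], []⟩) (.leaf ⟨nat_lit 1, nat_lit 31, nat_lit 46, nat_lit 0x3090cb4142a, nat_lit 0, nat_lit 0x7518a12a4e9, [], [], []⟩))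 (.node (.leaf ⟨nat_lit 0, nat_lit 32, nat_lit 32, nat_lit 0, nat_lit 0x759c2a30883, nat_lit 0x5a02359c67, [], [], []⟩) (.leaf ⟨nat_lit 0, nat_lit 27, nat_lit 3, nat_lit 0, nat_lit 0x39c66, nat_lit 0x30ac6711ce23186612822, [], [], []⟩))) (.node (.node (.leaf ⟨nat_lit 0, nat_lit 1, nat_lit 1, nat_lit 0, nat_lit 0x298c621025, nat_lit 0x204a539ce4, [], [], []⟩) (.leaf ⟨nat_lit 1, nat_lit 47, nat_lit 47, nat_lit 0x242c2949d61, nat_lit 0xa49c8920cc1, nat_lit 0xb40549498c8, [], [], []⟩)) (.leaf ⟨nat_lit 2, nat_lit 0, nat_lit 0, nat_lit 0xb128ea120e1, nat_lit 0, nat_lit 0, [], [], [nat_lit 0x1946612822, nat_lit 0x33252118562, nat_lit 0x1856338882]⟩))) (.node (.node (.node (.leaf ⟨nat_lit 0, nat_lit 1, nat_lit 1, nat_lit 0, nat_lit 0x40a4490a0e8, nat_lit 0x9324281a025, [], [], []⟩) (.leaf ⟨nat_lit 0, nat_lit 36, nat_lit 33, nat_lit 0, nat_lit 0x902b204a1, nat_lit 0x138d041a481, [], [], []⟩)) (.leaf ⟨nat_lit 1, nat_lit 43, nat_lit 44,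 nat_lit 0x308c2308c22088230882208822, nat_lit 0, nat_lit 0, [], [], []⟩)) (.node (.node (.leaf ⟨nat_lit 1, nat_lit 3, nat_lit 19, nat_lit 0x52846612822, nat_lit 0, nat_lit 0, [], [], []⟩) (.leaf ⟨nat_lit 1, nat_lit 32, nat_lit 51, nat_lit 0x1216610567, nat_lit 0x285a56742141, nat_lit 0x24952418561, [], [], []⟩)) (.leaf ⟨nat_lit 0, nat_lit 8, nat_lit 8, nat_lit 0, nat_lit 0x4a8c610488, nat_lit 0x643090419461, [], [], []⟩))))

noncomputable def F13 : GT Fa := .node (.node (.node (.node (.node (.leaf ⟨nat_lit 2, nat_lit 0, nat_lit 0, nat_lit 9, nat_lit 0, nat_lit 0, [], [], [nat_lit 328, nat_lit 9, nat_lit 328]⟩) (.leaf ⟨nat_lit 0, nat_lit 44, nat_lit 44, nat_lit 0, nat_lit 0x210b19d06, nat_lit 0xa12ac2b0ac81, [], [], []⟩)) (.node (.leaf ⟨nat_lit 1, nat_lit 3, nat_lit 25, nat_lit 0x1c6612822, nat_lit 0, nat_lit 0, [], [], []⟩) (.leaf ⟨nat_lit 1, nat_lit 49, nat_lit 50, nat_lit 0xa62a069490e3, nat_lit 0x509c860a028, nat_lit 0x308c831504,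 [], [], []⟩))) (.node (.node (.leaf ⟨nat_lit 0, nat_lit 1, nat_lit 1, nat_lit 0, nat_lit 0x89218451a541, nat_lit 0x2b4088339505, [], [], []⟩) (.leaf ⟨nat_lit 1, nat_lit 32, nat_lit 7, nat_lit 0x48d0142c6a, nat_lit 0xb3906b18482, nat_lit 0x33a16111941, [], [], []⟩)) (.leaf ⟨nat_lit 1, nat_lit 34, nat_lit 25, nat_lit 0x239d6620962, nat_lit 0x28ccb4ac61, nat_lit 0xa130ca511c24, [], [], []⟩))) (.node (.node (.node (.leaf ⟨nat_lit 0, nat_lit 1, nat_lit 1, nat_lit 0, nat_lit 0x819447520c6, nat_lit 0x73a56619049, [], [], []⟩) (.leaf ⟨nat_lit 0, nat_lit 5, nat_lit 1, nat_lit 0, nat_lit 0x41282a114c1, nat_lit 0x2819d0258564, [], [], []⟩)) (.leaf ⟨nat_lit 0, nat_lit 39, nat_lit 30, nat_lit 0, nat_lit 0x22395253a8e1, nat_lit 0x26110e7218a1, [], [], []⟩)) (.node (.node (.leaf ⟨nat_lit 1, nat_lit 13, nat_lit 14, nat_lit 0x308c2308c22088230882208822, nat_lit 0, nat_lit 0, [], [], []⟩) (.leaf ⟨nat_lit 1, nat_lit 47, nat_lit 48, nat_lit 0x654946a0a881,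 nat_lit 0x29520c412543, nat_lit 0x654210a124e3, [], [], []⟩)) (.leaf ⟨nat_lit 0, nat_lit 3, nat_lit 3, nat_lit 0, nat_lit 0x254196749d01, nat_lit 0x14844620464, [], [], []⟩)))) (.node (.node (.node (.node (.leaf ⟨nat_lit 0, nat_lit 1, nat_lit 1, nat_lit 0, nat_lit 0x23a44758561, nat_lit 0x1505461a0c3, [], [], []⟩) (.leaf ⟨nat_lit 0, nat_lit 46, nat_lit 3, nat_lit 0, nat_lit 0x30888649022, nat_lit 0x83208121d66, [], [], []⟩)) (.node (.leaf ⟨nat_lit 0, nat_lit 32, nat_lit 32, nat_lit 0, nat_lit 0x5a54619883, nat_lit 0xa130ca511c24, [], [], []⟩) (.leaf ⟨nat_lit 0, nat_lit 30, nat_lit 3, nat_lit 0, nat_lit 70882, nat_lit 0x30ac671186620c6612822, [], [], []⟩))) (.node (.node (.leaf ⟨nat_lit 0, nat_lit 8, nat_lit 8, nat_lit 0, nat_lit 0x112422025, nat_lit 0x80956629c87, [], [], []⟩) (.leaf ⟨nat_lit 1, nat_lit 47, nat_lit 47, nat_lit 0x124c149868, nat_lit 0x1105675092b, nat_lit 0x659866490c2, [], [], []⟩)) (.leaf ⟨nat_lit 0, nat_lit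 2, nat_lit 2, nat_lit 0, nat_lit 0x11d2341922, nat_lit 0x1120411a461, [], [], []⟩))) (.node (.node (.node (.leaf ⟨nat_lit 0, nat_lit 1, nat_lit 1, nat_lit 0, nat_lit 0x204a128564, nat_lit 0x2a82409025, [], [], []⟩) (.leaf ⟨nat_lit 1, nat_lit 44, nat_lit 44, nat_lit 0x4a4190721861, nat_lit 0x15a02812046, nat_lit 0xb1a0240a523, [], [], []⟩)) (.leaf ⟨nat_lit 0, nat_lit 44, nat_lit 44, nat_lit 0, nat_lit 0xa648d6651c61, nat_lit 0x6939c4b0a841, [], [], []⟩)) (.node (.node (.leaf ⟨nat_lit 0, nat_lit 1, nat_lit 1, nat_lit 0, nat_lit 0x415a526210e1, nat_lit 0x26294e842823, [], [], []⟩) (.leaf ⟨nat_lit 1, nat_lit 51, nat_lit 51, nat_lit 0x52a047104a3, nat_lit 0x62a8c12a086, nat_lit 0x95252a081, [], [], []⟩)) (.leaf ⟨nat_lit 0, nat_lit 8, nat_lit 8, nat_lit 0, nat_lit 0x1110e151101, nat_lit 0x58c8749901, [], [], []⟩))))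

noncomputable def F14 : GT Fa := .node (.node (.node (.node (.node (.leaf ⟨nat_lit 2, nat_lit 0, nat_lit 0, nat_lit 328, nat_lit 0, nat_lit 0, [], [], [nat_lit 9, nat_lit 328, nat_lit 9]⟩) (.leaf ⟨nat_lit 1, nat_lit 29, nat_lit 25, nat_lit 0x441044320a2, nat_lit 0x229c2832424, nat_lit 0x20a4ca1a107, [], [], []⟩)) (.node (.leaf ⟨nat_lit 0, nat_lit 25, nat_lit 25, nat_lit 0, nat_lit 0x93110839529, nat_lit 0x1a101314ea, [], [], []⟩) (.leaf ⟨nat_lit 0, nat_lit 26, nat_lit 25, nat_lit 0, nat_lit 0x29c4a22041, nat_lit 0x61a90209503, [], [], []⟩))) (.node (.node (.leaf ⟨nat_lit 0, nat_lit 1, nat_lit 1, nat_lit 0, nat_lit 0x20e421925, nat_lit 0x1107294c9, [], [], []⟩) (.leaf ⟨nat_lit 1, nat_lit 32, nat_lit 32, nat_lit 0x3892612929, nat_lit 0x224902321c41, nat_lit 0xa14184809ca2, [], [], []⟩)) (.leaf ⟨nat_lit 1, nat_lit 7, nat_lit 31, nat_lit 0xc81a06748961, nat_lit 0x111d481a903, nat_lit 0x85992659ca1, [], [], []⟩))) (.node (.node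 (.node (.leaf ⟨nat_lit 0, nat_lit 1, nat_lit 1, nat_lit 0, nat_lit 0x95110b09424, nat_lit 0x50902a49568, [], [], []⟩) (.leaf ⟨nat_lit 1, nat_lit 7, nat_lit 29, nat_lit 0x71216248cc2, nat_lit 0, nat_lit 0xb1a8e411844, [], [], []⟩)) (.leaf ⟨nat_lit 1, nat_lit 3, nat_lit 40, nat_lit 0xe71986612822, nat_lit 0, nat_lit 0, [], [], []⟩)) (.node (.node (.leaf ⟨nat_lit 1, nat_lit 7, nat_lit 14, nat_lit 0x4198a91ad21, nat_lit 0, nat_lit 0x128c8340926, [], [], []⟩) (.leaf ⟨nat_lit 1, nat_lit 2, nat_lit 49, nat_lit 6, nat_lit 0, nat_lit 0, [], [], []⟩)) (.leaf ⟨nat_lit 0, nat_lit 34, nat_lit 31, nat_lit 0, nat_lit 0x254440541, nat_lit 0x902648481, [], [], []⟩)))) (.node (.node (.node (.node (.leaf ⟨nat_lit 0, nat_lit 1, nat_lit 1, nat_lit 0, nat_lit 0x294250ac25, nat_lit 0x2054120484, [], [], []⟩) (.leaf ⟨nat_lit 1, nat_lit 2, nat_lit 2, nat_lit 0x44946720d42, nat_lit 0x1683056419424, nat_lit 0x2910566314c2, [], [], []⟩)) (.node (.leaf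 ⟨nat_lit 0, nat_lit 32, nat_lit 32, nat_lit 0, nat_lit 0x1615902a, nat_lit 0x6a3ac2229ca1, [], [], []⟩) (.leaf ⟨nat_lit 0, nat_lit 33, nat_lit 3, nat_lit 0, nat_lit 7270, nat_lit 0x30ac67110671186612822, [], [], []⟩))) (.node (.node (.leaf ⟨nat_lit 0, nat_lit 8, nat_lit 8, nat_lit 0, nat_lit 0x508e9588e1, nat_lit 0x2a3094838924, [], [], []⟩) (.leaf ⟨nat_lit 1, nat_lit 47, nat_lit 47, nat_lit 0xb1850411423, nat_lit 0x9324c530ca9, nat_lit 0x1186541561, [], [], []⟩)) (.leaf ⟨nat_lit 0, nat_lit 2, nat_lit 2, nat_lit 0, nat_lit 0x3248239c81, nat_lit 0x221cab40cc2, [], [], []⟩))) (.node (.node (.node (.leaf ⟨nat_lit 0, nat_lit 3, nat_lit 3, nat_lit 0, nat_lit 0x12054150544, nat_lit 0x7198c3418c6, [], [], []⟩) (.leaf ⟨nat_lit 1, nat_lit 7, nat_lit 44, nat_lit 0x1a54658d21, nat_lit 0x25195070ad23, nat_lit 0x5089235a045, [], [], []⟩)) (.leaf ⟨nat_lit 0, nat_lit 44, nat_lit 44, nat_lit 0, nat_lit 0xa308a919841, nat_lit 0x454106a4a422,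 [], [], []⟩)) (.node (.node (.leaf ⟨nat_lit 0, nat_lit 19, nat_lit 7, nat_lit 0, nat_lit 0x2256750446, nat_lit 0xb19ce728543, [], [], []⟩) (.leaf ⟨nat_lit 1, nat_lit 43, nat_lit 51, nat_lit 0x5494eb38963, nat_lit 0x841c2439d49, nat_lit 0x95252a081, [], [], []⟩)) (.leaf ⟨nat_lit 0, nat_lit 32, nat_lit 32, nat_lit 0, nat_lit 0x952422081, nat_lit 0x8220c448925, [], [], []⟩))))

noncomputable def F15 : GT Fa := .node (.node (.node (.node (.node (.leaf ⟨nat_lit 2, nat_lit 0, nat_lit 0, nat_lit 9, nat_lit 0, nat_lit 0, [], [], [nat_lit 328, nat_lit 9, nat_lit 328]⟩) (.leaf ⟨nat_lit 0, nat_lit 29, nat_lit 26, nat_lit 0, nat_lit 0x1321014a4e1, nat_lit 0x22a86a0a0e1, [], [], []⟩)) (.node (.leaf ⟨nat_lit 1, nat_lit 25, nat_lit 26, nat_lit 0x308c2308c22088230882208822, nat_lit 0, nat_lit 0, [], [], []⟩) (.leaf ⟨nat_lit 1, nat_lit 25, nat_lit 27, nat_lit 0x50a82412922, nat_lit 0, nat_lit 0x2490234ac47, [], [], []⟩))) (.node (.node (.leaf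 ⟨nat_lit 1, nat_lit 4, nat_lit 5, nat_lit 0x308c2308c22088230882208822, nat_lit 0, nat_lit 0, [], [], []⟩) (.leaf ⟨nat_lit 1, nat_lit 44, nat_lit 44, nat_lit 0x2584675a543, nat_lit 0x140d4611c22, nat_lit 0x22a0273a483, [], [], []⟩)) (.leaf ⟨nat_lit 1, nat_lit 7, nat_lit 25, nat_lit 0x13290332526, nat_lit 0x33102a110e3, nat_lit 0xa9035a0e3, [], [], []⟩))) (.node (.node (.node (.leaf ⟨nat_lit 0, nat_lit 2, nat_lit 2, nat_lit 0, nat_lit 0x51c23208eb, nat_lit 0xa1acc9598c4, [], [], []⟩) (.leaf ⟨nat_lit 0, nat_lit 29, nat_lit 41, nat_lit 0, nat_lit 0x2750d0439d62, nat_lit 0x4750d6729c41, [], [], []⟩)) (.leaf ⟨nat_lit 0, nat_lit 1, nat_lit 1, nat_lit 0, nat_lit 0x2a48750446, nat_lit 0x38c2b31504, [], [], []⟩)) (.node (.node (.leaf ⟨nat_lit 0, nat_lit 14, nat_lit 8, nat_lit 0, nat_lit 0x2ac2409025, nat_lit 0x740d2228881, [], [], []⟩) (.leaf ⟨nat_lit 0, nat_lit 49, nat_lit 49, nat_lit 0, nat_lit 0x3484a822523, nat_lit 0x140925194c4,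 [], [], []⟩)) (.leaf ⟨nat_lit 1, nat_lit 31, nat_lit 35, nat_lit 0x11a84440923, nat_lit 0, nat_lit 0x9428098a1, [], [], []⟩)))) (.node (.node (.node (.node (.leaf ⟨nat_lit 0, nat_lit 1, nat_lit 1, nat_lit 0, nat_lit 0x9432106a, nat_lit 0x2c4528963, [], [], []⟩) (.leaf ⟨nat_lit 1, nat_lit 44, nat_lit 44, nat_lit 0x74044540c23, nat_lit 0x54a88850942, nat_lit 0x48567110e8, [], [], []⟩)) (.node (.leaf ⟨nat_lit 1, nat_lit 32, nat_lit 33, nat_lit 0x308c2308c22088230882208822, nat_lit 0, nat_lit 0, [], [], []⟩) (.leaf ⟨nat_lit 0, nat_lit 36, nat_lit 3, nat_lit 0, nat_lit 131, nat_lit 0x30ac6711c661146612822, [], [], []⟩))) (.node (.node (.leaf ⟨nat_lit 0, nat_lit 8, nat_lit 8, nat_lit 0, nat_lit 0x11c4a31962, nat_lit 0xac2528541, [], [], []⟩) (.leaf ⟨nat_lit 1, nat_lit 47, nat_lit 47, nat_lit 0x330d060892b, nat_lit 0x350924204a7, nat_lit 0x1902b12923, [], [], []⟩)) (.leaf ⟨nat_lit 0, nat_lit 2, nat_lit 2, nat_lit 0, nat_lit 0x71214329869,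 nat_lit 0x2720902220e1, [], [], []⟩))) (.node (.node (.node (.leaf ⟨nat_lit 0, nat_lit 1, nat_lit 1, nat_lit 0, nat_lit 0xa3094838924, nat_lit 0x540cc958ceb, [], [], []⟩) (.leaf ⟨nat_lit 1, nat_lit 8, nat_lit 32, nat_lit 0x51a0c129944, nat_lit 0x142420e15a522, nat_lit 0x3204aa3a929, [], [], []⟩)) (.leaf ⟨nat_lit 1, nat_lit 44, nat_lit 45, nat_lit 0x308c2308c22088230882208822, nat_lit 0, nat_lit 0, [], [], []⟩)) (.node (.node (.leaf ⟨nat_lit 1, nat_lit 19, nat_lit 20, nat_lit 0x308c2308c22088230882208822, nat_lit 0, nat_lit 0, [], [], []⟩) (.leaf ⟨nat_lit 1, nat_lit 47, nat_lit 51, nat_lit 0xa5404a918501, nat_lit 0xa488c859025, nat_lit 0x452a0c659861, [], [], []⟩)) (.leaf ⟨nat_lit 0, nat_lit 32, nat_lit 32, nat_lit 0, nat_lit 0x84090421d41, nat_lit 0x35856718548, [], [], []⟩))))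

noncomputable def F : GT Fa := (.node (.node (.node (.node F0 F8) (.node F4 F12)) (.node (.node F2 F10) (.node F6 F14))) (.node (.node (.node F1 F9) (.node F5 F13)) (.node (.node F3 F11) (.node F7 F15))))

noncomputable def W0 : GT (List ℕ) := .node (.node (.node (.node (.node (.leaf ([])) (.leaf ([nat_lit 11, nat_lit 1, nat_lit 0, nat_lit 1, nat_lit 0, nat_lit 1, nat_lit 0, nat_lit 1, nat_lit 0, nat_lit 2, nat_lit 0, nat_lit 1, nat_lit 0, nat_lit 1, nat_lit 0, nat_lit 2, nat_lit 0, nat_lit 2, nat_lit 0, nat_lit 2, nat_lit 0, nat_lit 2, nat_lit 11, nat_lit 1, nat_lit 0, nat_lit 9, nat_lit 1, nat_lit 5, nat_lit 2, nat_lit 2, nat_lit 3, nat_lit 11, nat_lit 1, nat_lit 0, nat_lit 1, nat_lit 0, nat_lit 1, nat_lit 0, nat_lit 1, nat_lit 0, nat_lit 2, nat_lit 0, nat_lit 1, nat_lit 0, nat_lit 1, nat_lit 0, nat_lit 2, nat_lit 0, nat_lit 2, nat_lit 0, nat_lit 2, nat_lit 0, nat_lit 2, nat_lit 11, nat_lit 1, nat_lit 0, nat_lit 1, nat_lit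 0, nat_lit 1, nat_lit 0, nat_lit 1, nat_lit 0, nat_lit 2, nat_lit 0, nat_lit 1, nat_lit 0, nat_lit 1, nat_lit 0, nat_lit 2, nat_lit 0, nat_lit 2, nat_lit 0, nat_lit 2, nat_lit 0, nat_lit 2, nat_lit 11]))) (.node (.leaf ([nat_lit 11, nat_lit 1, nat_lit 0, nat_lit 9, nat_lit 1, nat_lit 5, nat_lit 2, nat_lit 0, nat_lit 3, nat_lit 11, nat_lit 1, nat_lit 0, nat_lit 1, nat_lit 0, nat_lit 1, nat_lit 0, nat_lit 1, nat_lit 0, nat_lit 2, nat_lit 0, nat_lit 1, nat_lit 0, nat_lit 1, nat_lit 0, nat_lit 2, nat_lit 0, nat_lit 2, nat_lit 0, nat_lit 2, nat_lit 0, nat_lit 2, nat_lit 11, nat_lit 1, nat_lit 0, nat_lit 1, nat_lit 0, nat_lit 1, nat_lit 0, nat_lit 1, nat_lit 0, nat_lit 2, nat_lit 0, nat_lit 1, nat_lit 0, nat_lit 1, nat_lit 0, nat_lit 2, nat_lit 0, nat_lit 2, nat_lit 0, nat_lit 2, nat_lit 0, nat_lit 2, nat_lit 11])) (.leaf ([nat_lit 11, nat_lit 2, nat_lit 9, nat_lit 11, nat_lit 1, nat_lit 0, nat_lit 1, nat_lit 0, nat_lit 1, nat_lit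 0, nat_lit 1, nat_lit 0, nat_lit 2, nat_lit 0, nat_lit 1, nat_lit 0, nat_lit 1, nat_lit 0, nat_lit 2, nat_lit 0, nat_lit 2, nat_lit 0, nat_lit 2, nat_lit 0, nat_lit 2, nat_lit 11])))) (.node (.node (.leaf ([nat_lit 11, nat_lit 1, nat_lit 0, nat_lit 1, nat_lit 0, nat_lit 1, nat_lit 0, nat_lit 1, nat_lit 0, nat_lit 2, nat_lit 0, nat_lit 1, nat_lit 0, nat_lit 1, nat_lit 0, nat_lit 2, nat_lit 0, nat_lit 2, nat_lit 0, nat_lit 2, nat_lit 0, nat_lit 2, nat_lit 11, nat_lit 1, nat_lit 0, nat_lit 9, nat_lit 1, nat_lit 5, nat_lit 2, nat_lit 4, nat_lit 11, nat_lit 1, nat_lit 0, nat_lit 1, nat_lit 0, nat_lit 1, nat_lit 0, nat_lit 1, nat_lit 0, nat_lit 2, nat_lit 0, nat_lit 1, nat_lit 0, nat_lit 1, nat_lit 0, nat_lit 2, nat_lit 0, nat_lit 2, nat_lit 0, nat_lit 2, nat_lit 0, nat_lit 2, nat_lit 11, nat_lit 1, nat_lit 0, nat_lit 1, nat_lit 0, nat_lit 1, nat_lit 0, nat_lit 1, nat_lit 0, nat_lit 2, nat_lit 0, nat_lit 1, nat_lit 0, nat_lit 1,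 nat_lit 0, nat_lit 2, nat_lit 0, nat_lit 2, nat_lit 0, nat_lit 2, nat_lit 0, nat_lit 2, nat_lit 11])) (.leaf ([nat_lit 11, nat_lit 1, nat_lit 0, nat_lit 9, nat_lit 1, nat_lit 5, nat_lit 2, nat_lit 5, nat_lit 2, nat_lit 6, nat_lit 6, nat_lit 11, nat_lit 1, nat_lit 0, nat_lit 1, nat_lit 0, nat_lit 1, nat_lit 0, nat_lit 1, nat_lit 0, nat_lit 2, nat_lit 0, nat_lit 1, nat_lit 0, nat_lit 1, nat_lit 0, nat_lit 2, nat_lit 0, nat_lit 2, nat_lit 0, nat_lit 2, nat_lit 0, nat_lit 2, nat_lit 11, nat_lit 1, nat_lit 0, nat_lit 1, nat_lit 0, nat_lit 1, nat_lit 0, nat_lit 1, nat_lit 0, nat_lit 2, nat_lit 0, nat_lit 1, nat_lit 0, nat_lit 1, nat_lit 0, nat_lit 2, nat_lit 0, nat_lit 2, nat_lit 0, nat_lit 2, nat_lit 0, nat_lit 2, nat_lit 11]))) (.leaf ([nat_lit 11, nat_lit 1, nat_lit 0, nat_lit 1, nat_lit 0, nat_lit 1, nat_lit 0, nat_lit 1, nat_lit 0, nat_lit 2, nat_lit 0, nat_lit 1, nat_lit 0, nat_lit 1, nat_lit 0, nat_lit 2, nat_lit 0, nat_lit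 2, nat_lit 0, nat_lit 2, nat_lit 0, nat_lit 2, nat_lit 11, nat_lit 1, nat_lit 0, nat_lit 1, nat_lit 0, nat_lit 1, nat_lit 0, nat_lit 1, nat_lit 0, nat_lit 2, nat_lit 0, nat_lit 1, nat_lit 0, nat_lit 1, nat_lit 0, nat_lit 2, nat_lit 0, nat_lit 2, nat_lit 0, nat_lit 2, nat_lit 0, nat_lit 2, nat_lit 11, nat_lit 1, nat_lit 0, nat_lit 9, nat_lit 1, nat_lit 5, nat_lit 2, nat_lit 6, nat_lit 6, nat_lit 6, nat_lit 11, nat_lit 1, nat_lit 0, nat_lit 1, nat_lit 0, nat_lit 1, nat_lit 0, nat_lit 1, nat_lit 0, nat_lit 2, nat_lit 0, nat_lit 1, nat_lit 0, nat_lit 1, nat_lit 0, nat_lit 2, nat_lit 0, nat_lit 2, nat_lit 0, nat_lit 2, nat_lit 0, nat_lit 2, nat_lit 11, nat_lit 1, nat_lit 0, nat_lit 1, nat_lit 0, nat_lit 1, nat_lit 0, nat_lit 1, nat_lit 0, nat_lit 2, nat_lit 0, nat_lit 1, nat_lit 0, nat_lit 1, nat_lit 0, nat_lit 2, nat_lit 0, nat_lit 2, nat_lit 0, nat_lit 2, nat_lit 0, nat_lit 2, nat_lit 11])))) (.node (.node (.node (.leaf ([nat_lit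 11, nat_lit 1, nat_lit 0, nat_lit 9, nat_lit 1, nat_lit 5, nat_lit 2, nat_lit 11, nat_lit 1, nat_lit 0, nat_lit 1, nat_lit 0, nat_lit 1, nat_lit 0, nat_lit 1, nat_lit 0, nat_lit 2, nat_lit 0, nat_lit 1, nat_lit 0, nat_lit 1, nat_lit 0, nat_lit 2, nat_lit 0, nat_lit 2, nat_lit 0, nat_lit 2, nat_lit 0, nat_lit 2, nat_lit 11, nat_lit 1, nat_lit 0, nat_lit 1, nat_lit 0, nat_lit 1, nat_lit 0, nat_lit 1, nat_lit 0, nat_lit 2, nat_lit 0, nat_lit 1, nat_lit 0, nat_lit 1, nat_lit 0, nat_lit 2, nat_lit 0, nat_lit 2, nat_lit 0, nat_lit 2, nat_lit 0, nat_lit 2, nat_lit 11])) (.leaf ([nat_lit 11, nat_lit 1, nat_lit 0, nat_lit 1, nat_lit 0, nat_lit 1, nat_lit 0, nat_lit 1, nat_lit 0, nat_lit 2, nat_lit 0, nat_lit 1, nat_lit 0, nat_lit 1, nat_lit 0, nat_lit 2, nat_lit 0, nat_lit 2, nat_lit 0, nat_lit 2, nat_lit 0, nat_lit 2, nat_lit 11, nat_lit 1, nat_lit 0, nat_lit 1, nat_lit 0, nat_lit 1, nat_lit 0, nat_lit 1, nat_lit 0, nat_lit 2, nat_lit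 0, nat_lit 1, nat_lit 0, nat_lit 1, nat_lit 0, nat_lit 2, nat_lit 0, nat_lit 2, nat_lit 0, nat_lit 2, nat_lit 0, nat_lit 2, nat_lit 11, nat_lit 1, nat_lit 0, nat_lit 9, nat_lit 1, nat_lit 5, nat_lit 2, nat_lit 5, nat_lit 2, nat_lit 6, nat_lit 11, nat_lit 1, nat_lit 0, nat_lit 1, nat_lit 0, nat_lit 1, nat_lit 0, nat_lit 1, nat_lit 0, nat_lit 2, nat_lit 0, nat_lit 1, nat_lit 0, nat_lit 1, nat_lit 0, nat_lit 2, nat_lit 0, nat_lit 2, nat_lit 0, nat_lit 2, nat_lit 0, nat_lit 2, nat_lit 11, nat_lit 1, nat_lit 0, nat_lit 1, nat_lit 0, nat_lit 1, nat_lit 0, nat_lit 1, nat_lit 0, nat_lit 2, nat_lit 0, nat_lit 1, nat_lit 0, nat_lit 1, nat_lit 0, nat_lit 2, nat_lit 0, nat_lit 2, nat_lit 0, nat_lit 2, nat_lit 0, nat_lit 2, nat_lit 11]))) (.node (.leaf ([nat_lit 11, nat_lit 1, nat_lit 0, nat_lit 1, nat_lit 0, nat_lit 1, nat_lit 0, nat_lit 1, nat_lit 0, nat_lit 2, nat_lit 0, nat_lit 1, nat_lit 0, nat_lit 1, nat_lit 0, nat_lit 2, nat_lit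 0, nat_lit 2, nat_lit 0, nat_lit 2, nat_lit 0, nat_lit 2, nat_lit 11, nat_lit 1, nat_lit 0, nat_lit 9, nat_lit 1, nat_lit 5, nat_lit 2, nat_lit 0, nat_lit 4, nat_lit 4, nat_lit 11, nat_lit 1, nat_lit 0, nat_lit 1, nat_lit 0, nat_lit 1, nat_lit 0, nat_lit 1, nat_lit 0, nat_lit 2, nat_lit 0, nat_lit 1, nat_lit 0, nat_lit 1, nat_lit 0, nat_lit 2, nat_lit 0, nat_lit 2, nat_lit 0, nat_lit 2, nat_lit 0, nat_lit 2, nat_lit 11, nat_lit 1, nat_lit 0, nat_lit 1, nat_lit 0, nat_lit 1, nat_lit 0, nat_lit 1, nat_lit 0, nat_lit 2, nat_lit 0, nat_lit 1, nat_lit 0, nat_lit 1, nat_lit 0, nat_lit 2, nat_lit 0, nat_lit 2, nat_lit 0, nat_lit 2, nat_lit 0, nat_lit 2, nat_lit 11])) (.leaf ([nat_lit 11, nat_lit 2, nat_lit 11, nat_lit 1, nat_lit 0, nat_lit 9, nat_lit 1, nat_lit 5, nat_lit 2, nat_lit 4, nat_lit 2, nat_lit 11])))) (.node (.node (.leaf ([nat_lit 11, nat_lit 1, nat_lit 0, nat_lit 1, nat_lit 0, nat_lit 1, nat_lit 0, nat_lit 1, nat_lit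 0, nat_lit 2, nat_lit 0, nat_lit 1, nat_lit 0, nat_lit 1, nat_lit 0, nat_lit 2, nat_lit 0, nat_lit 2, nat_lit 0, nat_lit 2, nat_lit 0, nat_lit 2, nat_lit 11, nat_lit 1, nat_lit 0, nat_lit 1, nat_lit 0, nat_lit 1, nat_lit 0, nat_lit 1, nat_lit 0, nat_lit 2, nat_lit 0, nat_lit 1, nat_lit 0, nat_lit 1, nat_lit 0, nat_lit 2, nat_lit 0, nat_lit 2, nat_lit 0, nat_lit 2, nat_lit 0, nat_lit 2, nat_lit 11, nat_lit 1, nat_lit 0, nat_lit 9, nat_lit 1, nat_lit 5, nat_lit 2, nat_lit 3, nat_lit 11, nat_lit 1, nat_lit 0, nat_lit 1, nat_lit 0, nat_lit 1, nat_lit 0, nat_lit 1, nat_lit 0, nat_lit 2, nat_lit 0, nat_lit 1, nat_lit 0, nat_lit 1, nat_lit 0, nat_lit 2, nat_lit 0, nat_lit 2, nat_lit 0, nat_lit 2, nat_lit 0, nat_lit 2, nat_lit 11, nat_lit 1, nat_lit 0, nat_lit 1, nat_lit 0, nat_lit 1, nat_lit 0, nat_lit 1, nat_lit 0, nat_lit 2, nat_lit 0, nat_lit 1, nat_lit 0, nat_lit 1, nat_lit 0, nat_lit 2, nat_lit 0, nat_lit 2, nat_lit 0, nat_lit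 2, nat_lit 0, nat_lit 2, nat_lit 11])) (.leaf ([nat_lit 11, nat_lit 1, nat_lit 0, nat_lit 1, nat_lit 0, nat_lit 1, nat_lit 0, nat_lit 1, nat_lit 0, nat_lit 2, nat_lit 0, nat_lit 1, nat_lit 0, nat_lit 1, nat_lit 0, nat_lit 2, nat_lit 0, nat_lit 2, nat_lit 0, nat_lit 2, nat_lit 0, nat_lit 2, nat_lit 11, nat_lit 1, nat_lit 0, nat_lit 9, nat_lit 1, nat_lit 5, nat_lit 2, nat_lit 4, nat_lit 2, nat_lit 11]))) (.leaf ([nat_lit 11, nat_lit 1, nat_lit 0, nat_lit 9, nat_lit 1, nat_lit 5, nat_lit 2, nat_lit 5, nat_lit 11, nat_lit 1, nat_lit 0, nat_lit 1, nat_lit 0, nat_lit 1, nat_lit 0, nat_lit 1, nat_lit 0, nat_lit 2, nat_lit 0, nat_lit 1, nat_lit 0, nat_lit 1, nat_lit 0, nat_lit 2, nat_lit 0, nat_lit 2, nat_lit 0, nat_lit 2, nat_lit 0, nat_lit 2, nat_lit 11, nat_lit 1, nat_lit 0, nat_lit 1, nat_lit 0, nat_lit 1, nat_lit 0, nat_lit 1, nat_lit 0, nat_lit 2, nat_lit 0, nat_lit 1, nat_lit 0, nat_lit 1, nat_lit 0, nat_lit 2, nat_lit 0, nat_lit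 2, nat_lit 0, nat_lit 2, nat_lit 0, nat_lit 2, nat_lit 11]))))) (.node (.node (.node (.node (.leaf ([nat_lit 11, nat_lit 1, nat_lit 0, nat_lit 1, nat_lit 0, nat_lit 1, nat_lit 0, nat_lit 1, nat_lit 0, nat_lit 2, nat_lit 0, nat_lit 1, nat_lit 0, nat_lit 1, nat_lit 0, nat_lit 2, nat_lit 0, nat_lit 2, nat_lit 0, nat_lit 2, nat_lit 0, nat_lit 2, nat_lit 11])) (.leaf ([nat_lit 11, nat_lit 1, nat_lit 0, nat_lit 9, nat_lit 1, nat_lit 5, nat_lit 2, nat_lit 5, nat_lit 2, nat_lit 6, nat_lit 11, nat_lit 1, nat_lit 0, nat_lit 1, nat_lit 0, nat_lit 1, nat_lit 0, nat_lit 1, nat_lit 0, nat_lit 2, nat_lit 0, nat_lit 1, nat_lit 0, nat_lit 1, nat_lit 0, nat_lit 2, nat_lit 0, nat_lit 2, nat_lit 0, nat_lit 2, nat_lit 0, nat_lit 2, nat_lit 11, nat_lit 1, nat_lit 0, nat_lit 1, nat_lit 0, nat_lit 1, nat_lit 0, nat_lit 1, nat_lit 0, nat_lit 2, nat_lit 0, nat_lit 1, nat_lit 0, nat_lit 1, nat_lit 0, nat_lit 2, nat_lit 0, nat_lit 2, nat_lit 0, nat_lit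 2, nat_lit 0, nat_lit 2, nat_lit 11]))) (.node (.leaf ([nat_lit 11, nat_lit 1, nat_lit 0, nat_lit 1, nat_lit 0, nat_lit 1, nat_lit 0, nat_lit 1, nat_lit 0, nat_lit 2, nat_lit 0, nat_lit 1, nat_lit 0, nat_lit 1, nat_lit 0, nat_lit 2, nat_lit 0, nat_lit 2, nat_lit 0, nat_lit 2, nat_lit 0, nat_lit 2, nat_lit 11, nat_lit 1, nat_lit 0, nat_lit 1, nat_lit 0, nat_lit 1, nat_lit 0, nat_lit 1, nat_lit 0, nat_lit 2, nat_lit 0, nat_lit 1, nat_lit 0, nat_lit 1, nat_lit 0, nat_lit 2, nat_lit 0, nat_lit 2, nat_lit 0, nat_lit 2, nat_lit 0, nat_lit 2, nat_lit 11, nat_lit 1, nat_lit 0, nat_lit 9, nat_lit 1, nat_lit 5, nat_lit 2, nat_lit 0, nat_lit 3, nat_lit 11, nat_lit 1, nat_lit 0, nat_lit 1, nat_lit 0, nat_lit 1, nat_lit 0, nat_lit 1, nat_lit 0, nat_lit 2, nat_lit 0, nat_lit 1, nat_lit 0, nat_lit 1, nat_lit 0, nat_lit 2, nat_lit 0, nat_lit 2, nat_lit 0, nat_lit 2, nat_lit 0, nat_lit 2, nat_lit 11, nat_lit 1, nat_lit 0, nat_lit 1, nat_lit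 0, nat_lit 1, nat_lit 0, nat_lit 1, nat_lit 0, nat_lit 2, nat_lit 0, nat_lit 1, nat_lit 0, nat_lit 1, nat_lit 0, nat_lit 2, nat_lit 0, nat_lit 2, nat_lit 0, nat_lit 2, nat_lit 0, nat_lit 2, nat_lit 11])) (.leaf ([nat_lit 11, nat_lit 1, nat_lit 0, nat_lit 7, nat_lit 5, nat_lit 11, nat_lit 1, nat_lit 0, nat_lit 9, nat_lit 1, nat_lit 5, nat_lit 2, nat_lit 4, nat_lit 2, nat_lit 11])))) (.node (.node (.leaf ([nat_lit 11, nat_lit 1, nat_lit 0, nat_lit 9, nat_lit 1, nat_lit 5, nat_lit 2, nat_lit 3, nat_lit 11, nat_lit 1, nat_lit 0, nat_lit 1, nat_lit 0, nat_lit 1, nat_lit 0, nat_lit 1, nat_lit 0, nat_lit 2, nat_lit 0, nat_lit 1, nat_lit 0, nat_lit 1, nat_lit 0, nat_lit 2, nat_lit 0, nat_lit 2, nat_lit 0, nat_lit 2, nat_lit 0, nat_lit 2, nat_lit 11, nat_lit 1, nat_lit 0, nat_lit 1, nat_lit 0, nat_lit 1, nat_lit 0, nat_lit 1, nat_lit 0, nat_lit 2, nat_lit 0, nat_lit 1, nat_lit 0, nat_lit 1, nat_lit 0, nat_lit 2, nat_lit 0, nat_lit 2,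 nat_lit 0, nat_lit 2, nat_lit 0, nat_lit 2, nat_lit 11])) (.leaf ([nat_lit 11, nat_lit 1, nat_lit 0, nat_lit 1, nat_lit 0, nat_lit 1, nat_lit 0, nat_lit 1, nat_lit 0, nat_lit 2, nat_lit 0, nat_lit 1, nat_lit 0, nat_lit 1, nat_lit 0, nat_lit 2, nat_lit 0, nat_lit 2, nat_lit 0, nat_lit 2, nat_lit 0, nat_lit 2, nat_lit 11, nat_lit 1, nat_lit 0, nat_lit 1, nat_lit 0, nat_lit 1, nat_lit 0, nat_lit 1, nat_lit 0, nat_lit 2, nat_lit 0, nat_lit 1, nat_lit 0, nat_lit 1, nat_lit 0, nat_lit 2, nat_lit 0, nat_lit 2, nat_lit 0, nat_lit 2, nat_lit 0, nat_lit 2, nat_lit 11, nat_lit 1, nat_lit 0, nat_lit 9, nat_lit 1, nat_lit 5, nat_lit 2, nat_lit 5, nat_lit 2, nat_lit 6, nat_lit 6, nat_lit 11, nat_lit 1, nat_lit 0, nat_lit 1, nat_lit 0, nat_lit 1, nat_lit 0, nat_lit 1, nat_lit 0, nat_lit 2, nat_lit 0, nat_lit 1, nat_lit 0, nat_lit 1, nat_lit 0, nat_lit 2, nat_lit 0, nat_lit 2, nat_lit 0, nat_lit 2, nat_lit 0, nat_lit 2, nat_lit 11, nat_lit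 1, nat_lit 0, nat_lit 1, nat_lit 0, nat_lit 1, nat_lit 0, nat_lit 1, nat_lit 0, nat_lit 2, nat_lit 0, nat_lit 1, nat_lit 0, nat_lit 1, nat_lit 0, nat_lit 2, nat_lit 0, nat_lit 2, nat_lit 0, nat_lit 2, nat_lit 0, nat_lit 2, nat_lit 11]))) (.leaf ([nat_lit 11, nat_lit 1, nat_lit 0, nat_lit 1, nat_lit 0, nat_lit 1, nat_lit 0, nat_lit 1, nat_lit 0, nat_lit 2, nat_lit 0, nat_lit 1, nat_lit 0, nat_lit 1, nat_lit 0, nat_lit 2, nat_lit 0, nat_lit 2, nat_lit 0, nat_lit 2, nat_lit 0, nat_lit 2, nat_lit 11, nat_lit 1, nat_lit 0, nat_lit 9, nat_lit 1, nat_lit 5, nat_lit 2, nat_lit 6, nat_lit 11, nat_lit 1, nat_lit 0, nat_lit 1, nat_lit 0, nat_lit 1, nat_lit 0, nat_lit 1, nat_lit 0, nat_lit 2, nat_lit 0, nat_lit 1, nat_lit 0, nat_lit 1, nat_lit 0, nat_lit 2, nat_lit 0, nat_lit 2, nat_lit 0, nat_lit 2, nat_lit 0, nat_lit 2, nat_lit 11, nat_lit 1, nat_lit 0, nat_lit 1, nat_lit 0, nat_lit 1, nat_lit 0, nat_lit 1, nat_lit 0, nat_lit 2, nat_lit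 0, nat_lit 1, nat_lit 0, nat_lit 1, nat_lit 0, nat_lit 2, nat_lit 0, nat_lit 2, nat_lit 0, nat_lit 2, nat_lit 0, nat_lit 2, nat_lit 11])))) (.node (.node (.node (.leaf ([nat_lit 11, nat_lit 1, nat_lit 0, nat_lit 1, nat_lit 0, nat_lit 1, nat_lit 0, nat_lit 1, nat_lit 0, nat_lit 2, nat_lit 0, nat_lit 1, nat_lit 0, nat_lit 1, nat_lit 0, nat_lit 2, nat_lit 0, nat_lit 2, nat_lit 0, nat_lit 2, nat_lit 0, nat_lit 2, nat_lit 11, nat_lit 1, nat_lit 0, nat_lit 1, nat_lit 0, nat_lit 1, nat_lit 0, nat_lit 1, nat_lit 0, nat_lit 2, nat_lit 0, nat_lit 1, nat_lit 0, nat_lit 1, nat_lit 0, nat_lit 2, nat_lit 0, nat_lit 2, nat_lit 0, nat_lit 2, nat_lit 0, nat_lit 2, nat_lit 11, nat_lit 1, nat_lit 0, nat_lit 9, nat_lit 1, nat_lit 5, nat_lit 2, nat_lit 11, nat_lit 1, nat_lit 0, nat_lit 1, nat_lit 0, nat_lit 1, nat_lit 0, nat_lit 1, nat_lit 0, nat_lit 2, nat_lit 0, nat_lit 1, nat_lit 0, nat_lit 1, nat_lit 0, nat_lit 2, nat_lit 0, nat_lit 2, nat_lit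 0, nat_lit 2, nat_lit 0, nat_lit 2, nat_lit 11, nat_lit 1, nat_lit 0, nat_lit 1, nat_lit 0, nat_lit 1, nat_lit 0, nat_lit 1, nat_lit 0, nat_lit 2, nat_lit 0, nat_lit 1, nat_lit 0, nat_lit 1, nat_lit 0, nat_lit 2, nat_lit 0, nat_lit 2, nat_lit 0, nat_lit 2, nat_lit 0, nat_lit 2, nat_lit 11])) (.leaf ([nat_lit 11, nat_lit 1, nat_lit 0, nat_lit 1, nat_lit 0, nat_lit 1, nat_lit 0, nat_lit 1, nat_lit 0, nat_lit 2, nat_lit 0, nat_lit 1, nat_lit 0, nat_lit 1, nat_lit 0, nat_lit 2, nat_lit 0, nat_lit 2, nat_lit 0, nat_lit 2, nat_lit 0, nat_lit 2, nat_lit 11, nat_lit 1, nat_lit 0, nat_lit 9, nat_lit 1, nat_lit 4, nat_lit 1, nat_lit 11, nat_lit 1, nat_lit 0, nat_lit 1, nat_lit 0, nat_lit 1, nat_lit 0, nat_lit 1, nat_lit 0, nat_lit 2, nat_lit 0, nat_lit 1, nat_lit 0, nat_lit 1, nat_lit 0, nat_lit 2, nat_lit 0, nat_lit 2, nat_lit 0, nat_lit 2, nat_lit 0, nat_lit 2, nat_lit 11, nat_lit 1, nat_lit 0, nat_lit 1, nat_lit 0, nat_lit 1, nat_lit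 0, nat_lit 1, nat_lit 0, nat_lit 2, nat_lit 0, nat_lit 1, nat_lit 0, nat_lit 1, nat_lit 0, nat_lit 2, nat_lit 0, nat_lit 2, nat_lit 0, nat_lit 2, nat_lit 0, nat_lit 2, nat_lit 11]))) (.leaf ([nat_lit 11, nat_lit 1, nat_lit 0, nat_lit 9, nat_lit 1, nat_lit 5, nat_lit 2, nat_lit 6, nat_lit 6, nat_lit 6, nat_lit 11, nat_lit 1, nat_lit 0, nat_lit 1, nat_lit 0, nat_lit 1, nat_lit 0, nat_lit 1, nat_lit 0, nat_lit 2, nat_lit 0, nat_lit 1, nat_lit 0, nat_lit 1, nat_lit 0, nat_lit 2, nat_lit 0, nat_lit 2, nat_lit 0, nat_lit 2, nat_lit 0, nat_lit 2, nat_lit 11, nat_lit 1, nat_lit 0, nat_lit 1, nat_lit 0, nat_lit 1, nat_lit 0, nat_lit 1, nat_lit 0, nat_lit 2, nat_lit 0, nat_lit 1, nat_lit 0, nat_lit 1, nat_lit 0, nat_lit 2, nat_lit 0, nat_lit 2, nat_lit 0, nat_lit 2, nat_lit 0, nat_lit 2, nat_lit 11]))) (.node (.node (.leaf ([nat_lit 11, nat_lit 1, nat_lit 0, nat_lit 1, nat_lit 0, nat_lit 1, nat_lit 0, nat_lit 1, nat_lit 0, nat_lit 2,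 nat_lit 0, nat_lit 1, nat_lit 0, nat_lit 1, nat_lit 0, nat_lit 2, nat_lit 0, nat_lit 2, nat_lit 0, nat_lit 2, nat_lit 0, nat_lit 2, nat_lit 11, nat_lit 1, nat_lit 0, nat_lit 9, nat_lit 1, nat_lit 5, nat_lit 2, nat_lit 4, nat_lit 4, nat_lit 11, nat_lit 1, nat_lit 0, nat_lit 1, nat_lit 0, nat_lit 1, nat_lit 0, nat_lit 1, nat_lit 0, nat_lit 2, nat_lit 0, nat_lit 1, nat_lit 0, nat_lit 1, nat_lit 0, nat_lit 2, nat_lit 0, nat_lit 2, nat_lit 0, nat_lit 2, nat_lit 0, nat_lit 2, nat_lit 11, nat_lit 1, nat_lit 0, nat_lit 1, nat_lit 0, nat_lit 1, nat_lit 0, nat_lit 1, nat_lit 0, nat_lit 2, nat_lit 0, nat_lit 1, nat_lit 0, nat_lit 1, nat_lit 0, nat_lit 2, nat_lit 0, nat_lit 2, nat_lit 0, nat_lit 2, nat_lit 0, nat_lit 2, nat_lit 11])) (.leaf ([nat_lit 11, nat_lit 1, nat_lit 3, nat_lit 11, nat_lit 1, nat_lit 0, nat_lit 1, nat_lit 0, nat_lit 1, nat_lit 0, nat_lit 1, nat_lit 0, nat_lit 2, nat_lit 0, nat_lit 1, nat_lit 0, nat_lit 1, nat_lit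 0, nat_lit 2, nat_lit 0, nat_lit 2, nat_lit 0, nat_lit 2, nat_lit 0, nat_lit 2, nat_lit 11, nat_lit 1, nat_lit 0, nat_lit 1, nat_lit 0, nat_lit 1, nat_lit 0, nat_lit 1, nat_lit 0, nat_lit 2, nat_lit 0, nat_lit 1, nat_lit 0, nat_lit 1, nat_lit 0, nat_lit 2, nat_lit 0, nat_lit 2, nat_lit 0, nat_lit 2, nat_lit 0, nat_lit 2, nat_lit 11, nat_lit 1, nat_lit 0, nat_lit 9, nat_lit 1, nat_lit 5, nat_lit 2, nat_lit 4, nat_lit 2, nat_lit 11]))) (.leaf ([nat_lit 11, nat_lit 1, nat_lit 0, nat_lit 1, nat_lit 0, nat_lit 1, nat_lit 0, nat_lit 1, nat_lit 0, nat_lit 2, nat_lit 0, nat_lit 1, nat_lit 0, nat_lit 1, nat_lit 0, nat_lit 2, nat_lit 0, nat_lit 2, nat_lit 0, nat_lit 2, nat_lit 0, nat_lit 2, nat_lit 11, nat_lit 1, nat_lit 0, nat_lit 1, nat_lit 0, nat_lit 1, nat_lit 0, nat_lit 1, nat_lit 0, nat_lit 2, nat_lit 0, nat_lit 1, nat_lit 0, nat_lit 1, nat_lit 0, nat_lit 2, nat_lit 0, nat_lit 2, nat_lit 0, nat_lit 2, nat_lit 0, nat_lit 2, nat_lit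 11, nat_lit 1, nat_lit 0, nat_lit 9, nat_lit 1, nat_lit 5, nat_lit 2, nat_lit 5, nat_lit 11, nat_lit 1, nat_lit 0, nat_lit 1, nat_lit 0, nat_lit 1, nat_lit 0, nat_lit 1, nat_lit 0, nat_lit 2, nat_lit 0, nat_lit 1, nat_lit 0, nat_lit 1, nat_lit 0, nat_lit 2, nat_lit 0, nat_lit 2, nat_lit 0, nat_lit 2, nat_lit 0, nat_lit 2, nat_lit 11, nat_lit 1, nat_lit 0, nat_lit 1, nat_lit 0, nat_lit 1, nat_lit 0, nat_lit 1, nat_lit 0, nat_lit 2, nat_lit 0, nat_lit 1, nat_lit 0, nat_lit 1, nat_lit 0, nat_lit 2, nat_lit 0, nat_lit 2, nat_lit 0, nat_lit 2, nat_lit 0, nat_lit 2, nat_lit 11])))))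

noncomputable def W1 : GT (List ℕ) := .node (.node (.node (.node (.node (.leaf ([nat_lit 11])) (.leaf ([nat_lit 11, nat_lit 1, nat_lit 0, nat_lit 1, nat_lit 0, nat_lit 1, nat_lit 0, nat_lit 1, nat_lit 0, nat_lit 2, nat_lit 0, nat_lit 1, nat_lit 0, nat_lit 1, nat_lit 0, nat_lit 2, nat_lit 0, nat_lit 2, nat_lit 0, nat_lit 2, nat_lit 0, nat_lit 2, nat_lit 11, nat_lit 1, nat_lit 0, nat_lit 1, nat_lit 0, nat_lit 1, nat_lit 0, nat_lit 1, nat_lit 0, nat_lit 2, nat_lit 0, nat_lit 1, nat_lit 0, nat_lit 1, nat_lit 0, nat_lit 2, nat_lit 0, nat_lit 2, nat_lit 0, nat_lit 2, nat_lit 0, nat_lit 2, nat_lit 11, nat_lit 1, nat_lit 0, nat_lit 9, nat_lit 1, nat_lit 5, nat_lit 2, nat_lit 2, nat_lit 3, nat_lit 11, nat_lit 1, nat_lit 0, nat_lit 1, nat_lit 0, nat_lit 1, nat_lit 0, nat_lit 1, nat_lit 0, nat_lit 2, nat_lit 0, nat_lit 1, nat_lit 0, nat_lit 1, nat_lit 0, nat_lit 2, nat_lit 0, nat_lit 2, nat_lit 0, nat_lit 2, nat_lit 0, nat_lit 2, nat_lit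 11, nat_lit 1, nat_lit 0, nat_lit 1, nat_lit 0, nat_lit 1, nat_lit 0, nat_lit 1, nat_lit 0, nat_lit 2, nat_lit 0, nat_lit 1, nat_lit 0, nat_lit 1, nat_lit 0, nat_lit 2, nat_lit 0, nat_lit 2, nat_lit 0, nat_lit 2, nat_lit 0, nat_lit 2, nat_lit 11]))) (.node (.leaf ([nat_lit 11, nat_lit 1, nat_lit 0, nat_lit 1, nat_lit 0, nat_lit 1, nat_lit 0, nat_lit 1, nat_lit 0, nat_lit 2, nat_lit 0, nat_lit 1, nat_lit 0, nat_lit 1, nat_lit 0, nat_lit 2, nat_lit 0, nat_lit 2, nat_lit 0, nat_lit 2, nat_lit 0, nat_lit 2, nat_lit 11, nat_lit 1, nat_lit 0, nat_lit 9, nat_lit 1, nat_lit 5, nat_lit 2, nat_lit 0, nat_lit 3, nat_lit 11, nat_lit 1, nat_lit 0, nat_lit 1, nat_lit 0, nat_lit 1, nat_lit 0, nat_lit 1, nat_lit 0, nat_lit 2, nat_lit 0, nat_lit 1, nat_lit 0, nat_lit 1, nat_lit 0, nat_lit 2, nat_lit 0, nat_lit 2, nat_lit 0, nat_lit 2, nat_lit 0, nat_lit 2, nat_lit 11, nat_lit 1, nat_lit 0, nat_lit 1, nat_lit 0, nat_lit 1, nat_lit 0, nat_lit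 1, nat_lit 0, nat_lit 2, nat_lit 0, nat_lit 1, nat_lit 0, nat_lit 1, nat_lit 0, nat_lit 2, nat_lit 0, nat_lit 2, nat_lit 0, nat_lit 2, nat_lit 0, nat_lit 2, nat_lit 11])) (.leaf ([nat_lit 11, nat_lit 5, nat_lit 11, nat_lit 1, nat_lit 0, nat_lit 1, nat_lit 0, nat_lit 1, nat_lit 0, nat_lit 1, nat_lit 0, nat_lit 2, nat_lit 0, nat_lit 1, nat_lit 0, nat_lit 1, nat_lit 0, nat_lit 2, nat_lit 0, nat_lit 2, nat_lit 0, nat_lit 2, nat_lit 0, nat_lit 2, nat_lit 11])))) (.node (.node (.leaf ([nat_lit 11, nat_lit 1, nat_lit 0, nat_lit 1, nat_lit 0, nat_lit 1, nat_lit 0, nat_lit 1, nat_lit 0, nat_lit 2, nat_lit 0, nat_lit 1, nat_lit 0, nat_lit 1, nat_lit 0, nat_lit 2, nat_lit 0, nat_lit 2, nat_lit 0, nat_lit 2, nat_lit 0, nat_lit 2, nat_lit 11, nat_lit 1, nat_lit 0, nat_lit 1, nat_lit 0, nat_lit 1, nat_lit 0, nat_lit 1, nat_lit 0, nat_lit 2, nat_lit 0, nat_lit 1, nat_lit 0, nat_lit 1, nat_lit 0, nat_lit 2, nat_lit 0, nat_lit 2, nat_lit 0,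 nat_lit 2, nat_lit 0, nat_lit 2, nat_lit 11, nat_lit 1, nat_lit 0, nat_lit 9, nat_lit 1, nat_lit 5, nat_lit 2, nat_lit 4, nat_lit 11, nat_lit 1, nat_lit 0, nat_lit 1, nat_lit 0, nat_lit 1, nat_lit 0, nat_lit 1, nat_lit 0, nat_lit 2, nat_lit 0, nat_lit 1, nat_lit 0, nat_lit 1, nat_lit 0, nat_lit 2, nat_lit 0, nat_lit 2, nat_lit 0, nat_lit 2, nat_lit 0, nat_lit 2, nat_lit 11, nat_lit 1, nat_lit 0, nat_lit 1, nat_lit 0, nat_lit 1, nat_lit 0, nat_lit 1, nat_lit 0, nat_lit 2, nat_lit 0, nat_lit 1, nat_lit 0, nat_lit 1, nat_lit 0, nat_lit 2, nat_lit 0, nat_lit 2, nat_lit 0, nat_lit 2, nat_lit 0, nat_lit 2, nat_lit 11])) (.leaf ([nat_lit 11, nat_lit 1, nat_lit 0, nat_lit 1, nat_lit 0, nat_lit 1, nat_lit 0, nat_lit 1, nat_lit 0, nat_lit 2, nat_lit 0, nat_lit 1, nat_lit 0, nat_lit 1, nat_lit 0, nat_lit 2, nat_lit 0, nat_lit 2, nat_lit 0, nat_lit 2, nat_lit 0, nat_lit 2, nat_lit 11, nat_lit 1, nat_lit 0, nat_lit 9, nat_lit 1, nat_lit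 5, nat_lit 2, nat_lit 5, nat_lit 2, nat_lit 6, nat_lit 6, nat_lit 11, nat_lit 1, nat_lit 0, nat_lit 1, nat_lit 0, nat_lit 1, nat_lit 0, nat_lit 1, nat_lit 0, nat_lit 2, nat_lit 0, nat_lit 1, nat_lit 0, nat_lit 1, nat_lit 0, nat_lit 2, nat_lit 0, nat_lit 2, nat_lit 0, nat_lit 2, nat_lit 0, nat_lit 2, nat_lit 11, nat_lit 1, nat_lit 0, nat_lit 1, nat_lit 0, nat_lit 1, nat_lit 0, nat_lit 1, nat_lit 0, nat_lit 2, nat_lit 0, nat_lit 1, nat_lit 0, nat_lit 1, nat_lit 0, nat_lit 2, nat_lit 0, nat_lit 2, nat_lit 0, nat_lit 2, nat_lit 0, nat_lit 2, nat_lit 11]))) (.leaf ([nat_lit 11, nat_lit 1, nat_lit 0, nat_lit 9, nat_lit 1, nat_lit 5, nat_lit 2, nat_lit 6, nat_lit 11, nat_lit 1, nat_lit 0, nat_lit 1, nat_lit 0, nat_lit 1, nat_lit 0, nat_lit 1, nat_lit 0, nat_lit 2, nat_lit 0, nat_lit 1, nat_lit 0, nat_lit 1, nat_lit 0, nat_lit 2, nat_lit 0, nat_lit 2, nat_lit 0, nat_lit 2, nat_lit 0, nat_lit 2, nat_lit 11, nat_lit 1, nat_lit 0, nat_lit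 1, nat_lit 0, nat_lit 1, nat_lit 0, nat_lit 1, nat_lit 0, nat_lit 2, nat_lit 0, nat_lit 1, nat_lit 0, nat_lit 1, nat_lit 0, nat_lit 2, nat_lit 0, nat_lit 2, nat_lit 0, nat_lit 2, nat_lit 0, nat_lit 2, nat_lit 11])))) (.node (.node (.node (.leaf ([nat_lit 11, nat_lit 1, nat_lit 0, nat_lit 1, nat_lit 0, nat_lit 1, nat_lit 0, nat_lit 1, nat_lit 0, nat_lit 2, nat_lit 0, nat_lit 1, nat_lit 0, nat_lit 1, nat_lit 0, nat_lit 2, nat_lit 0, nat_lit 2, nat_lit 0, nat_lit 2, nat_lit 0, nat_lit 2, nat_lit 11, nat_lit 1, nat_lit 0, nat_lit 9, nat_lit 1, nat_lit 5, nat_lit 2, nat_lit 11, nat_lit 1, nat_lit 0, nat_lit 1, nat_lit 0, nat_lit 1, nat_lit 0, nat_lit 1, nat_lit 0, nat_lit 2, nat_lit 0, nat_lit 1, nat_lit 0, nat_lit 1, nat_lit 0, nat_lit 2, nat_lit 0, nat_lit 2, nat_lit 0, nat_lit 2, nat_lit 0, nat_lit 2, nat_lit 11, nat_lit 1, nat_lit 0, nat_lit 1, nat_lit 0, nat_lit 1, nat_lit 0, nat_lit 1, nat_lit 0, nat_lit 2, nat_lit 0, nat_lit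 1, nat_lit 0, nat_lit 1, nat_lit 0, nat_lit 2, nat_lit 0, nat_lit 2, nat_lit 0, nat_lit 2, nat_lit 0, nat_lit 2, nat_lit 11])) (.leaf ([nat_lit 11, nat_lit 1, nat_lit 0, nat_lit 9, nat_lit 1, nat_lit 4, nat_lit 1, nat_lit 11, nat_lit 1, nat_lit 0, nat_lit 1, nat_lit 0, nat_lit 1, nat_lit 0, nat_lit 1, nat_lit 0, nat_lit 2, nat_lit 0, nat_lit 1, nat_lit 0, nat_lit 1, nat_lit 0, nat_lit 2, nat_lit 0, nat_lit 2, nat_lit 0, nat_lit 2, nat_lit 0, nat_lit 2, nat_lit 11, nat_lit 1, nat_lit 0, nat_lit 1, nat_lit 0, nat_lit 1, nat_lit 0, nat_lit 1, nat_lit 0, nat_lit 2, nat_lit 0, nat_lit 1, nat_lit 0, nat_lit 1, nat_lit 0, nat_lit 2, nat_lit 0, nat_lit 2, nat_lit 0, nat_lit 2, nat_lit 0, nat_lit 2, nat_lit 11]))) (.leaf ([nat_lit 11, nat_lit 1, nat_lit 0, nat_lit 1, nat_lit 0, nat_lit 1, nat_lit 0, nat_lit 1, nat_lit 0, nat_lit 2, nat_lit 0, nat_lit 1, nat_lit 0, nat_lit 1, nat_lit 0, nat_lit 2, nat_lit 0, nat_lit 2, nat_lit 0, nat_lit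 2, nat_lit 0, nat_lit 2, nat_lit 11, nat_lit 1, nat_lit 0, nat_lit 1, nat_lit 0, nat_lit 1, nat_lit 0, nat_lit 1, nat_lit 0, nat_lit 2, nat_lit 0, nat_lit 1, nat_lit 0, nat_lit 1, nat_lit 0, nat_lit 2, nat_lit 0, nat_lit 2, nat_lit 0, nat_lit 2, nat_lit 0, nat_lit 2, nat_lit 11, nat_lit 1, nat_lit 0, nat_lit 9, nat_lit 1, nat_lit 5, nat_lit 2, nat_lit 0, nat_lit 4, nat_lit 4, nat_lit 11, nat_lit 1, nat_lit 0, nat_lit 1, nat_lit 0, nat_lit 1, nat_lit 0, nat_lit 1, nat_lit 0, nat_lit 2, nat_lit 0, nat_lit 1, nat_lit 0, nat_lit 1, nat_lit 0, nat_lit 2, nat_lit 0, nat_lit 2, nat_lit 0, nat_lit 2, nat_lit 0, nat_lit 2, nat_lit 11, nat_lit 1, nat_lit 0, nat_lit 1, nat_lit 0, nat_lit 1, nat_lit 0, nat_lit 1, nat_lit 0, nat_lit 2, nat_lit 0, nat_lit 1, nat_lit 0, nat_lit 1, nat_lit 0, nat_lit 2, nat_lit 0, nat_lit 2, nat_lit 0, nat_lit 2, nat_lit 0, nat_lit 2, nat_lit 11]))) (.node (.node (.leaf ([nat_lit 11, nat_lit 1, nat_lit 0,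 nat_lit 9, nat_lit 1, nat_lit 5, nat_lit 2, nat_lit 4, nat_lit 4, nat_lit 11, nat_lit 1, nat_lit 0, nat_lit 1, nat_lit 0, nat_lit 1, nat_lit 0, nat_lit 1, nat_lit 0, nat_lit 2, nat_lit 0, nat_lit 1, nat_lit 0, nat_lit 1, nat_lit 0, nat_lit 2, nat_lit 0, nat_lit 2, nat_lit 0, nat_lit 2, nat_lit 0, nat_lit 2, nat_lit 11, nat_lit 1, nat_lit 0, nat_lit 1, nat_lit 0, nat_lit 1, nat_lit 0, nat_lit 1, nat_lit 0, nat_lit 2, nat_lit 0, nat_lit 1, nat_lit 0, nat_lit 1, nat_lit 0, nat_lit 2, nat_lit 0, nat_lit 2, nat_lit 0, nat_lit 2, nat_lit 0, nat_lit 2, nat_lit 11])) (.leaf ([nat_lit 11, nat_lit 1, nat_lit 0, nat_lit 1, nat_lit 0, nat_lit 1, nat_lit 0, nat_lit 1, nat_lit 0, nat_lit 2, nat_lit 0, nat_lit 1, nat_lit 0, nat_lit 1, nat_lit 0, nat_lit 2, nat_lit 0, nat_lit 2, nat_lit 0, nat_lit 2, nat_lit 0, nat_lit 2, nat_lit 11, nat_lit 1, nat_lit 0, nat_lit 1, nat_lit 0, nat_lit 1, nat_lit 0, nat_lit 1, nat_lit 0, nat_lit 2, nat_lit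 0, nat_lit 1, nat_lit 0, nat_lit 1, nat_lit 0, nat_lit 2, nat_lit 0, nat_lit 2, nat_lit 0, nat_lit 2, nat_lit 0, nat_lit 2, nat_lit 11, nat_lit 1, nat_lit 0, nat_lit 9, nat_lit 1, nat_lit 5, nat_lit 2, nat_lit 4, nat_lit 2, nat_lit 11]))) (.leaf ([nat_lit 11, nat_lit 1, nat_lit 0, nat_lit 1, nat_lit 0, nat_lit 1, nat_lit 0, nat_lit 1, nat_lit 0, nat_lit 2, nat_lit 0, nat_lit 1, nat_lit 0, nat_lit 1, nat_lit 0, nat_lit 2, nat_lit 0, nat_lit 2, nat_lit 0, nat_lit 2, nat_lit 0, nat_lit 2, nat_lit 11, nat_lit 1, nat_lit 0, nat_lit 9, nat_lit 1, nat_lit 5, nat_lit 2, nat_lit 5, nat_lit 11, nat_lit 1, nat_lit 0, nat_lit 1, nat_lit 0, nat_lit 1, nat_lit 0, nat_lit 1, nat_lit 0, nat_lit 2, nat_lit 0, nat_lit 1, nat_lit 0, nat_lit 1, nat_lit 0, nat_lit 2, nat_lit 0, nat_lit 2, nat_lit 0, nat_lit 2, nat_lit 0, nat_lit 2, nat_lit 11, nat_lit 1, nat_lit 0, nat_lit 1, nat_lit 0, nat_lit 1, nat_lit 0, nat_lit 1, nat_lit 0, nat_lit 2, nat_lit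 0, nat_lit 1, nat_lit 0, nat_lit 1, nat_lit 0, nat_lit 2, nat_lit 0, nat_lit 2, nat_lit 0, nat_lit 2, nat_lit 0, nat_lit 2, nat_lit 11]))))) (.node (.node (.node (.node (.leaf ([nat_lit 11, nat_lit 1, nat_lit 0, nat_lit 1, nat_lit 0, nat_lit 1, nat_lit 0, nat_lit 1, nat_lit 0, nat_lit 2, nat_lit 0, nat_lit 1, nat_lit 0, nat_lit 1, nat_lit 0, nat_lit 2, nat_lit 0, nat_lit 2, nat_lit 0, nat_lit 2, nat_lit 0, nat_lit 2, nat_lit 11, nat_lit 1, nat_lit 0, nat_lit 1, nat_lit 0, nat_lit 1, nat_lit 0, nat_lit 1, nat_lit 0, nat_lit 2, nat_lit 0, nat_lit 1, nat_lit 0, nat_lit 1, nat_lit 0, nat_lit 2, nat_lit 0, nat_lit 2, nat_lit 0, nat_lit 2, nat_lit 0, nat_lit 2, nat_lit 11])) (.leaf ([nat_lit 11, nat_lit 1, nat_lit 0, nat_lit 1, nat_lit 0, nat_lit 1, nat_lit 0, nat_lit 1, nat_lit 0, nat_lit 2, nat_lit 0, nat_lit 1, nat_lit 0, nat_lit 1, nat_lit 0, nat_lit 2, nat_lit 0, nat_lit 2, nat_lit 0, nat_lit 2, nat_lit 0, nat_lit 2, nat_lit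 11, nat_lit 1, nat_lit 0, nat_lit 9, nat_lit 1, nat_lit 5, nat_lit 2, nat_lit 5, nat_lit 2, nat_lit 6, nat_lit 11, nat_lit 1, nat_lit 0, nat_lit 1, nat_lit 0, nat_lit 1, nat_lit 0, nat_lit 1, nat_lit 0, nat_lit 2, nat_lit 0, nat_lit 1, nat_lit 0, nat_lit 1, nat_lit 0, nat_lit 2, nat_lit 0, nat_lit 2, nat_lit 0, nat_lit 2, nat_lit 0, nat_lit 2, nat_lit 11, nat_lit 1, nat_lit 0, nat_lit 1, nat_lit 0, nat_lit 1, nat_lit 0, nat_lit 1, nat_lit 0, nat_lit 2, nat_lit 0, nat_lit 1, nat_lit 0, nat_lit 1, nat_lit 0, nat_lit 2, nat_lit 0, nat_lit 2, nat_lit 0, nat_lit 2, nat_lit 0, nat_lit 2, nat_lit 11]))) (.node (.leaf ([nat_lit 11, nat_lit 1, nat_lit 0, nat_lit 9, nat_lit 1, nat_lit 5, nat_lit 2, nat_lit 0, nat_lit 4, nat_lit 4, nat_lit 11, nat_lit 1, nat_lit 0, nat_lit 1, nat_lit 0, nat_lit 1, nat_lit 0, nat_lit 1, nat_lit 0, nat_lit 2, nat_lit 0, nat_lit 1, nat_lit 0, nat_lit 1, nat_lit 0, nat_lit 2, nat_lit 0, nat_lit 2, nat_lit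 0, nat_lit 2, nat_lit 0, nat_lit 2, nat_lit 11, nat_lit 1, nat_lit 0, nat_lit 1, nat_lit 0, nat_lit 1, nat_lit 0, nat_lit 1, nat_lit 0, nat_lit 2, nat_lit 0, nat_lit 1, nat_lit 0, nat_lit 1, nat_lit 0, nat_lit 2, nat_lit 0, nat_lit 2, nat_lit 0, nat_lit 2, nat_lit 0, nat_lit 2, nat_lit 11])) (.leaf ([nat_lit 11, nat_lit 8, nat_lit 11, nat_lit 1, nat_lit 0, nat_lit 9, nat_lit 1, nat_lit 5, nat_lit 2, nat_lit 4, nat_lit 2, nat_lit 11])))) (.node (.node (.leaf ([nat_lit 11, nat_lit 1, nat_lit 0, nat_lit 1, nat_lit 0, nat_lit 1, nat_lit 0, nat_lit 1, nat_lit 0, nat_lit 2, nat_lit 0, nat_lit 1, nat_lit 0, nat_lit 1, nat_lit 0, nat_lit 2, nat_lit 0, nat_lit 2, nat_lit 0, nat_lit 2, nat_lit 0, nat_lit 2, nat_lit 11, nat_lit 1, nat_lit 0, nat_lit 9, nat_lit 1, nat_lit 5, nat_lit 2, nat_lit 3, nat_lit 11, nat_lit 1, nat_lit 0, nat_lit 1, nat_lit 0, nat_lit 1, nat_lit 0, nat_lit 1, nat_lit 0, nat_lit 2, nat_lit 0, nat_lit 1, nat_lit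 0, nat_lit 1, nat_lit 0, nat_lit 2, nat_lit 0, nat_lit 2, nat_lit 0, nat_lit 2, nat_lit 0, nat_lit 2, nat_lit 11, nat_lit 1, nat_lit 0, nat_lit 1, nat_lit 0, nat_lit 1, nat_lit 0, nat_lit 1, nat_lit 0, nat_lit 2, nat_lit 0, nat_lit 1, nat_lit 0, nat_lit 1, nat_lit 0, nat_lit 2, nat_lit 0, nat_lit 2, nat_lit 0, nat_lit 2, nat_lit 0, nat_lit 2, nat_lit 11])) (.leaf ([nat_lit 11, nat_lit 1, nat_lit 0, nat_lit 9, nat_lit 1, nat_lit 5, nat_lit 2, nat_lit 4, nat_lit 2, nat_lit 11]))) (.leaf ([nat_lit 11, nat_lit 1, nat_lit 0, nat_lit 1, nat_lit 0, nat_lit 1, nat_lit 0, nat_lit 1, nat_lit 0, nat_lit 2, nat_lit 0, nat_lit 1, nat_lit 0, nat_lit 1, nat_lit 0, nat_lit 2, nat_lit 0, nat_lit 2, nat_lit 0, nat_lit 2, nat_lit 0, nat_lit 2, nat_lit 11, nat_lit 1, nat_lit 0, nat_lit 1, nat_lit 0, nat_lit 1, nat_lit 0, nat_lit 1, nat_lit 0, nat_lit 2, nat_lit 0, nat_lit 1, nat_lit 0, nat_lit 1, nat_lit 0, nat_lit 2, nat_lit 0, nat_lit 2, nat_lit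 0, nat_lit 2, nat_lit 0, nat_lit 2, nat_lit 11, nat_lit 1, nat_lit 0, nat_lit 9, nat_lit 1, nat_lit 5, nat_lit 2, nat_lit 6, nat_lit 11, nat_lit 1, nat_lit 0, nat_lit 1, nat_lit 0, nat_lit 1, nat_lit 0, nat_lit 1, nat_lit 0, nat_lit 2, nat_lit 0, nat_lit 1, nat_lit 0, nat_lit 1, nat_lit 0, nat_lit 2, nat_lit 0, nat_lit 2, nat_lit 0, nat_lit 2, nat_lit 0, nat_lit 2, nat_lit 11, nat_lit 1, nat_lit 0, nat_lit 1, nat_lit 0, nat_lit 1, nat_lit 0, nat_lit 1, nat_lit 0, nat_lit 2, nat_lit 0, nat_lit 1, nat_lit 0, nat_lit 1, nat_lit 0, nat_lit 2, nat_lit 0, nat_lit 2, nat_lit 0, nat_lit 2, nat_lit 0, nat_lit 2, nat_lit 11])))) (.node (.node (.node (.leaf ([nat_lit 11, nat_lit 1, nat_lit 0, nat_lit 9, nat_lit 1, nat_lit 5, nat_lit 2, nat_lit 4, nat_lit 11, nat_lit 1, nat_lit 0, nat_lit 1, nat_lit 0, nat_lit 1, nat_lit 0, nat_lit 1, nat_lit 0, nat_lit 2, nat_lit 0, nat_lit 1, nat_lit 0, nat_lit 1, nat_lit 0, nat_lit 2, nat_lit 0, nat_lit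 2, nat_lit 0, nat_lit 2, nat_lit 0, nat_lit 2, nat_lit 11, nat_lit 1, nat_lit 0, nat_lit 1, nat_lit 0, nat_lit 1, nat_lit 0, nat_lit 1, nat_lit 0, nat_lit 2, nat_lit 0, nat_lit 1, nat_lit 0, nat_lit 1, nat_lit 0, nat_lit 2, nat_lit 0, nat_lit 2, nat_lit 0, nat_lit 2, nat_lit 0, nat_lit 2, nat_lit 11])) (.leaf ([nat_lit 11, nat_lit 1, nat_lit 0, nat_lit 1, nat_lit 0, nat_lit 1, nat_lit 0, nat_lit 1, nat_lit 0, nat_lit 2, nat_lit 0, nat_lit 1, nat_lit 0, nat_lit 1, nat_lit 0, nat_lit 2, nat_lit 0, nat_lit 2, nat_lit 0, nat_lit 2, nat_lit 0, nat_lit 2, nat_lit 11, nat_lit 1, nat_lit 0, nat_lit 1, nat_lit 0, nat_lit 1, nat_lit 0, nat_lit 1, nat_lit 0, nat_lit 2, nat_lit 0, nat_lit 1, nat_lit 0, nat_lit 1, nat_lit 0, nat_lit 2, nat_lit 0, nat_lit 2, nat_lit 0, nat_lit 2, nat_lit 0, nat_lit 2, nat_lit 11, nat_lit 1, nat_lit 0, nat_lit 9, nat_lit 1, nat_lit 4, nat_lit 1, nat_lit 11, nat_lit 1, nat_lit 0, nat_lit 1, nat_lit 0, nat_lit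 1, nat_lit 0, nat_lit 1, nat_lit 0, nat_lit 2, nat_lit 0, nat_lit 1, nat_lit 0, nat_lit 1, nat_lit 0, nat_lit 2, nat_lit 0, nat_lit 2, nat_lit 0, nat_lit 2, nat_lit 0, nat_lit 2, nat_lit 11, nat_lit 1, nat_lit 0, nat_lit 1, nat_lit 0, nat_lit 1, nat_lit 0, nat_lit 1, nat_lit 0, nat_lit 2, nat_lit 0, nat_lit 1, nat_lit 0, nat_lit 1, nat_lit 0, nat_lit 2, nat_lit 0, nat_lit 2, nat_lit 0, nat_lit 2, nat_lit 0, nat_lit 2, nat_lit 11]))) (.leaf ([nat_lit 11, nat_lit 1, nat_lit 0, nat_lit 1, nat_lit 0, nat_lit 1, nat_lit 0, nat_lit 1, nat_lit 0, nat_lit 2, nat_lit 0, nat_lit 1, nat_lit 0, nat_lit 1, nat_lit 0, nat_lit 2, nat_lit 0, nat_lit 2, nat_lit 0, nat_lit 2, nat_lit 0, nat_lit 2, nat_lit 11, nat_lit 1, nat_lit 0, nat_lit 9, nat_lit 1, nat_lit 5, nat_lit 2, nat_lit 6, nat_lit 6, nat_lit 6, nat_lit 11, nat_lit 1, nat_lit 0, nat_lit 1, nat_lit 0, nat_lit 1, nat_lit 0, nat_lit 1, nat_lit 0, nat_lit 2, nat_lit 0, nat_lit 1, nat_lit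 0, nat_lit 1, nat_lit 0, nat_lit 2, nat_lit 0, nat_lit 2, nat_lit 0, nat_lit 2, nat_lit 0, nat_lit 2, nat_lit 11, nat_lit 1, nat_lit 0, nat_lit 1, nat_lit 0, nat_lit 1, nat_lit 0, nat_lit 1, nat_lit 0, nat_lit 2, nat_lit 0, nat_lit 1, nat_lit 0, nat_lit 1, nat_lit 0, nat_lit 2, nat_lit 0, nat_lit 2, nat_lit 0, nat_lit 2, nat_lit 0, nat_lit 2, nat_lit 11]))) (.node (.node (.leaf ([nat_lit 11, nat_lit 1, nat_lit 0, nat_lit 1, nat_lit 0, nat_lit 1, nat_lit 0, nat_lit 1, nat_lit 0, nat_lit 2, nat_lit 0, nat_lit 1, nat_lit 0, nat_lit 1, nat_lit 0, nat_lit 2, nat_lit 0, nat_lit 2, nat_lit 0, nat_lit 2, nat_lit 0, nat_lit 2, nat_lit 11, nat_lit 1, nat_lit 0, nat_lit 1, nat_lit 0, nat_lit 1, nat_lit 0, nat_lit 1, nat_lit 0, nat_lit 2, nat_lit 0, nat_lit 1, nat_lit 0, nat_lit 1, nat_lit 0, nat_lit 2, nat_lit 0, nat_lit 2, nat_lit 0, nat_lit 2, nat_lit 0, nat_lit 2, nat_lit 11, nat_lit 1, nat_lit 0, nat_lit 9, nat_lit 1, nat_lit 5, nat_lit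 2, nat_lit 4, nat_lit 4, nat_lit 11, nat_lit 1, nat_lit 0, nat_lit 1, nat_lit 0, nat_lit 1, nat_lit 0, nat_lit 1, nat_lit 0, nat_lit 2, nat_lit 0, nat_lit 1, nat_lit 0, nat_lit 1, nat_lit 0, nat_lit 2, nat_lit 0, nat_lit 2, nat_lit 0, nat_lit 2, nat_lit 0, nat_lit 2, nat_lit 11, nat_lit 1, nat_lit 0, nat_lit 1, nat_lit 0, nat_lit 1, nat_lit 0, nat_lit 1, nat_lit 0, nat_lit 2, nat_lit 0, nat_lit 1, nat_lit 0, nat_lit 1, nat_lit 0, nat_lit 2, nat_lit 0, nat_lit 2, nat_lit 0, nat_lit 2, nat_lit 0, nat_lit 2, nat_lit 11])) (.leaf ([nat_lit 11, nat_lit 5, nat_lit 11]))) (.leaf ([nat_lit 11, nat_lit 1, nat_lit 0, nat_lit 9, nat_lit 1, nat_lit 5, nat_lit 2, nat_lit 2, nat_lit 3, nat_lit 11, nat_lit 1, nat_lit 0, nat_lit 1, nat_lit 0, nat_lit 1, nat_lit 0, nat_lit 1, nat_lit 0, nat_lit 2, nat_lit 0, nat_lit 1, nat_lit 0, nat_lit 1, nat_lit 0, nat_lit 2, nat_lit 0, nat_lit 2, nat_lit 0, nat_lit 2, nat_lit 0, nat_lit 2, nat_lit 11, nat_lit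 1, nat_lit 0, nat_lit 1, nat_lit 0, nat_lit 1, nat_lit 0, nat_lit 1, nat_lit 0, nat_lit 2, nat_lit 0, nat_lit 1, nat_lit 0, nat_lit 1, nat_lit 0, nat_lit 2, nat_lit 0, nat_lit 2, nat_lit 0, nat_lit 2, nat_lit 0, nat_lit 2, nat_lit 11])))))

noncomputable def W : GT (List ℕ) := (.node W0 W1)

/-- the relators with the new generator -/
def R : List (List ℕ × List ℕ × List ℕ) := [([nat_lit 11, nat_lit 11], [], []),
  ([nat_lit 12, nat_lit 4, nat_lit 11, nat_lit 3], [], []),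
  ([nat_lit 12, nat_lit 0, nat_lit 11, nat_lit 0], [], []),
  ([nat_lit 1, nat_lit 6, nat_lit 11, nat_lit 5, nat_lit 1, nat_lit 6, nat_lit 11, nat_lit 5, nat_lit 1, nat_lit 6, nat_lit 11, nat_lit 5], [], []),
  ([nat_lit 9, nat_lit 11, nat_lit 8, nat_lit 11, nat_lit 7, nat_lit 9, nat_lit 11, nat_lit 8, nat_lit 11, nat_lit 7], [], [])]

/-- the data -/
noncomputable def P : Par := ⟨J4Act0.T, nat_lit 11, fun y => Nat.land (Nat.shiftRight (nat_lit 0xb62547414c320440) (Nat.mul (nat_lit 5) y)) (nat_lit 31), [nat_lit 0, nat_lit 1, nat_lit 2, nat_lit 3, nat_lit 4, nat_lit 5, nat_lit 6], nat_lit 0, nat_lit 0, [], [], F.get, W.get, R⟩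

def D0 : List De := [⟨nat_lit 2, nat_lit 0, nat_lit 0, nat_lit 0, false, nat_lit 0⟩,
  ⟨nat_lit 3, nat_lit 0, nat_lit 0, nat_lit 1, false, nat_lit 0⟩,
  ⟨nat_lit 1, nat_lit 0, nat_lit 0, nat_lit 0, false, nat_lit 0⟩,
  ⟨nat_lit 0, nat_lit 4, nat_lit 0x2000000000020000000000013000000000004, nat_lit 0, false, nat_lit 0⟩,
  ⟨nat_lit 3, nat_lit 0, nat_lit 0, nat_lit 2, false, nat_lit 0⟩,
  ⟨nat_lit 1, nat_lit 0, nat_lit 0, nat_lit 0, false, nat_lit 0⟩,
  ⟨nat_lit 0, nat_lit 4, nat_lit 0x2000000000050000000000043000000000004, nat_lit 0, false, nat_lit 0⟩,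
  ⟨nat_lit 3, nat_lit 0, nat_lit 0, nat_lit 3, false, nat_lit 2⟩,
  ⟨nat_lit 3, nat_lit 0, nat_lit 0, nat_lit 3, false, nat_lit 6⟩,
  ⟨nat_lit 3, nat_lit 0, nat_lit 0, nat_lit 3, false, nat_lit 10⟩,
  ⟨nat_lit 3, nat_lit 0, nat_lit 0, nat_lit 3, true, nat_lit 1⟩,
  ⟨nat_lit 3, nat_lit 0, nat_lit 0, nat_lit 3, true, nat_lit 5⟩,
  ⟨nat_lit 3, nat_lit 0, nat_lit 0, nat_lit 3, true, nat_lit 9⟩,
  ⟨nat_lit 3, nat_lit 0, nat_lit 0, nat_lit 4, false, nat_lit 1⟩,
  ⟨nat_lit 3, nat_lit 0, nat_lit 0, nat_lit 4, false, nat_lit 3⟩,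
  ⟨nat_lit 3, nat_lit 0, nat_lit 0, nat_lit 4, false, nat_lit 6⟩,
  ⟨nat_lit 3, nat_lit 0, nat_lit 0, nat_lit 4, false, nat_lit 8⟩,
  ⟨nat_lit 3, nat_lit 0, nat_lit 0, nat_lit 4, true, nat_lit 8⟩,
  ⟨nat_lit 0, nat_lit 12, nat_lit 0x68000000000038000000000068000000000038000000000060000000000038000000000068000000000038000000000068000000000038000000000068000000000030, nat_lit 0, false, nat_lit 0⟩,
  ⟨nat_lit 0, nat_lit 11, nat_lit 0x128000000000128000000000060000000000120000000000030000000000128000000000038000000000128000000000068000000000128000000000128, nat_lit 0, false, nat_lit 0⟩,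
  ⟨nat_lit 0, nat_lit 17, nat_lit 0x30000000000138000000000138000000000120000000000120000000000120000000000068000000000038000000000068000000000038000000000138000000000128000000000128000000000038000000000068000000000038000000000068, nat_lit 0, false, nat_lit 0⟩,
  ⟨nat_lit 0, nat_lit 14, nat_lit 0x120000000000140000000000038000000000138000000000038000000000038000000000120000000000030000000000138000000000120000000000120000000000120000000000030000000000138, nat_lit 0, false, nat_lit 0⟩,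
  ⟨nat_lit 0, nat_lit 16, nat_lit 0x158000000000158000000000138000000000148000000000068000000000148000000000158000000000120000000000158000000000068000000000138000000000038000000000158000000000138000000000068000000000138, nat_lit 0, false, nat_lit 0⟩,
  ⟨nat_lit 0, nat_lit 17, nat_lit 0x168000000000158000000000128000000000128000000000068000000000140000000000068000000000138000000000120000000000148000000000068000000000038000000000068000000000160000000000128000000000068000000000158, nat_lit 0, false, nat_lit 0⟩,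
  ⟨nat_lit 0, nat_lit 8, nat_lit 0x30000000000068000000000038000000000068000000000060000000000038000000000068000000000038, nat_lit 0, false, nat_lit 0⟩,
  ⟨nat_lit 0, nat_lit 9, nat_lit 0x30000000000188000000000068000000000188000000000060000000000030000000000188000000000038000000000038, nat_lit 0, false, nat_lit 0⟩,
  ⟨nat_lit 0, nat_lit 10, nat_lit 0x68000000000188000000000030000000000188000000000198000000000030000000000068000000000038000000000030000000000188, nat_lit 0, false, nat_lit 0⟩,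
  ⟨nat_lit 0, nat_lit 16, nat_lit 0x1880000000001980000000000380000000000680000000000380000000000300000000001980000000001a80000000000680000000000380000000001880000000000380000000001980000000001a8000000000038000000000198, nat_lit 0, false, nat_lit 0⟩,
  ⟨nat_lit 0, nat_lit 17, nat_lit 0x680000000000380000000000380000000001b80000000001880000000001980000000001880000000000380000000000380000000000300000000001980000000001b80000000001980000000001b8000000000068000000000038000000000068, nat_lit 0, false, nat_lit 0⟩,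
  ⟨nat_lit 0, nat_lit 20, nat_lit 0x1980000000001b80000000001980000000001a80000000001c00000000000380000000000380000000000680000000001b80000000001880000000000380000000000300000000001b80000000001980000000001b80000000001c80000000001a80000000000300000000000680000000001c0, nat_lit 0, false, nat_lit 0⟩,
  ⟨nat_lit 0, nat_lit 21, nat_lit 0x1b80000000001d80000000001880000000001d00000000000380000000000680000000001c80000000000380000000001d00000000001b80000000001c80000000001a80000000000680000000000300000000001b80000000001d80000000001880000000001980000000001c8000000000030000000000068, nat_lit 0, false, nat_lit 0⟩,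
  ⟨nat_lit 0, nat_lit 20, nat_lit 0x1d80000000001e00000000001a80000000001d00000000000380000000001d80000000001d80000000001e00000000001b80000000001d80000000001880000000001d00000000000680000000000380000000000680000000001980000000001d00000000001a8000000000038000000000068, nat_lit 0, false, nat_lit 0⟩,
  ⟨nat_lit 2, nat_lit 0, nat_lit 0, nat_lit 0, false, nat_lit 0⟩,
  ⟨nat_lit 0, nat_lit 2, nat_lit 0x60000000000030, nat_lit 0, false, nat_lit 0⟩,
  ⟨nat_lit 0, nat_lit 2, nat_lit 0x1c0000000000210, nat_lit 0, false, nat_lit 0⟩,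
  ⟨nat_lit 0, nat_lit 2, nat_lit 0x1d8000000000180, nat_lit 0, false, nat_lit 0⟩,
  ⟨nat_lit 0, nat_lit 2, nat_lit 0x1d8000000000190, nat_lit 0, false, nat_lit 0⟩,
  ⟨nat_lit 0, nat_lit 2, nat_lit 0x1f80000000001d8, nat_lit 0, false, nat_lit 0⟩,
  ⟨nat_lit 0, nat_lit 16, nat_lit 0x2020000000002210000000002310000000002410000000002510000000001f9000000000140000000000120000000000160000000000178000000000158000000000160000000000140000000000120000000000038000000000204, nat_lit 0, false, nat_lit 0⟩,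
  ⟨nat_lit 0, nat_lit 2, nat_lit 0x1c0000000000060, nat_lit 0, false, nat_lit 0⟩,
  ⟨nat_lit 0, nat_lit 2, nat_lit 0x1b0000000000190, nat_lit 0, false, nat_lit 0⟩,
  ⟨nat_lit 0, nat_lit 2, nat_lit 0x1e80000000001d0, nat_lit 0, false, nat_lit 0⟩,
  ⟨nat_lit 0, nat_lit 16, nat_lit 0x202000000000271000000000231000000000281000000000291000000000148000000000158000000000178000000000160000000000170000000000138000000000150000000000128000000000138000000000068000000000204, nat_lit 0, false, nat_lit 0⟩,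
  ⟨nat_lit 0, nat_lit 8, nat_lit 0x2680000000002a00000000002680000000002a80000000002680000000002a80000000002680000000002a0, nat_lit 0, false, nat_lit 0⟩,
  ⟨nat_lit 0, nat_lit 10, nat_lit 0x2b80000000002a80000000002680000000002a80000000002a80000000002a80000000002680000000002680000000002a8000000000268, nat_lit 0, false, nat_lit 0⟩,
  ⟨nat_lit 0, nat_lit 2, nat_lit 0x1a0000000000180, nat_lit 0, false, nat_lit 0⟩,
  ⟨nat_lit 0, nat_lit 2, nat_lit 0x1e00000000001d0, nat_lit 0, false, nat_lit 0⟩,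
  ⟨nat_lit 0, nat_lit 16, nat_lit 0x2020000000002210000000002d10000000001910000000002e10000000001f9000000000030000000000148000000000178000000000160000000000170000000000138000000000120000000000120000000000030000000000204, nat_lit 0, false, nat_lit 0⟩,
  ⟨nat_lit 0, nat_lit 2, nat_lit 0x2680000000002f0, nat_lit 0, false, nat_lit 0⟩,
  ⟨nat_lit 0, nat_lit 10, nat_lit 0x3080000000002680000000002a00000000002600000000002a80000000002680000000002a00000000003080000000002600000000002c8, nat_lit 0, false, nat_lit 0⟩,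
  ⟨nat_lit 0, nat_lit 2, nat_lit 0x60000000000038, nat_lit 0, false, nat_lit 0⟩,
  ⟨nat_lit 0, nat_lit 2, nat_lit 0x1c8000000000320, nat_lit 0, false, nat_lit 0⟩,
  ⟨nat_lit 0, nat_lit 2, nat_lit 0x1d0000000000060, nat_lit 0, false, nat_lit 0⟩,
  ⟨nat_lit 0, nat_lit 2, nat_lit 0x1c80000000001a0, nat_lit 0, false, nat_lit 0⟩,
  ⟨nat_lit 0, nat_lit 16, nat_lit 0x202000000000341000000000351000000000241000000000291000000000068000000000128000000000168000000000178000000000158000000000160000000000120000000000140000000000038000000000038000000000204, nat_lit 0, false, nat_lit 0⟩,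
  ⟨nat_lit 0, nat_lit 7, nat_lit 0x2c80000000003180000000002b80000000003080000000002a80000000002a8000000000360, nat_lit 0, false, nat_lit 0⟩,
  ⟨nat_lit 2, nat_lit 0, nat_lit 0, nat_lit 0, false, nat_lit 0⟩,
  ⟨nat_lit 0, nat_lit 2, nat_lit 0x1d0000000000030, nat_lit 0, false, nat_lit 0⟩,
  ⟨nat_lit 0, nat_lit 2, nat_lit 0x1d80000000001b0, nat_lit 0, false, nat_lit 0⟩,
  ⟨nat_lit 0, nat_lit 13, nat_lit 0x3820000000003910000000001a10000000003a10000000002910000000001f10000000003700000000002c80000000003180000000003080000000002680000000002a8000000000384, nat_lit 0, false, nat_lit 0⟩,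
  ⟨nat_lit 0, nat_lit 2, nat_lit 0x1c00000000001a0, nat_lit 0, false, nat_lit 0⟩,
  ⟨nat_lit 0, nat_lit 2, nat_lit 0x1e80000000001b0, nat_lit 0, false, nat_lit 0⟩,
  ⟨nat_lit 0, nat_lit 13, nat_lit 0x3820000000002110000000003c10000000003d10000000002510000000003700000000002c80000000003180000000002b80000000003080000000002680000000002c8000000000384, nat_lit 0, false, nat_lit 0⟩,
  ⟨nat_lit 0, nat_lit 2, nat_lit 0x190000000000060, nat_lit 0, false, nat_lit 0⟩,
  ⟨nat_lit 0, nat_lit 2, nat_lit 0x1f0000000000190, nat_lit 0, false, nat_lit 0⟩,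
  ⟨nat_lit 0, nat_lit 12, nat_lit 0x3820000000003f10000000003510000000004010000000002910000000002c80000000003180000000002b80000000003080000000002a80000000002b8000000000384, nat_lit 0, false, nat_lit 0⟩,
  ⟨nat_lit 0, nat_lit 3, nat_lit 0x3b80000000003e8000000000410, nat_lit 0, false, nat_lit 0⟩,
  ⟨nat_lit 0, nat_lit 11, nat_lit 0x3e80000000003b80000000003b00000000004280000000003b80000000003e80000000003b00000000003b00000000003b80000000003e80000000003b8, nat_lit 0, false, nat_lit 0⟩,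
  ⟨nat_lit 0, nat_lit 12, nat_lit 0x3b80000000003e80000000003b00000000004380000000004280000000003b80000000003e00000000003b00000000003e80000000004380000000004280000000003e8, nat_lit 0, false, nat_lit 0⟩,
  ⟨nat_lit 0, nat_lit 11, nat_lit 0x3820000000003410000000003510000000004010000000001d90000000003700000000003180000000002680000000002a0000000000268000000000384, nat_lit 0, false, nat_lit 0⟩,
  ⟨nat_lit 0, nat_lit 5, nat_lit 0x4280000000004480000000003b00000000003e0000000000450, nat_lit 0, false, nat_lit 0⟩,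
  ⟨nat_lit 2, nat_lit 0, nat_lit 0, nat_lit 0, false, nat_lit 0⟩,
  ⟨nat_lit 0, nat_lit 2, nat_lit 0x1c8000000000060, nat_lit 0, false, nat_lit 0⟩,
  ⟨nat_lit 0, nat_lit 2, nat_lit 0x1e80000000001c0, nat_lit 0, false, nat_lit 0⟩,
  ⟨nat_lit 0, nat_lit 2, nat_lit 0x1a00000000001c0, nat_lit 0, false, nat_lit 0⟩,
  ⟨nat_lit 0, nat_lit 2, nat_lit 0x1900000000001c0, nat_lit 0, false, nat_lit 0⟩,
  ⟨nat_lit 0, nat_lit 2, nat_lit 0x30000000000030, nat_lit 0, false, nat_lit 0⟩,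
  ⟨nat_lit 0, nat_lit 2, nat_lit 0x1f8000000000180, nat_lit 0, false, nat_lit 0⟩,
  ⟨nat_lit 0, nat_lit 2, nat_lit 0x1b0000000000030, nat_lit 0, false, nat_lit 0⟩,
  ⟨nat_lit 2, nat_lit 0, nat_lit 0, nat_lit 0, false, nat_lit 0⟩,
  ⟨nat_lit 2, nat_lit 0, nat_lit 0, nat_lit 0, false, nat_lit 0⟩,
  ⟨nat_lit 0, nat_lit 2, nat_lit 0x1c0000000000030, nat_lit 0, false, nat_lit 0⟩,
  ⟨nat_lit 0, nat_lit 2, nat_lit 0x30000000000060, nat_lit 0, false, nat_lit 0⟩,
  ⟨nat_lit 0, nat_lit 2, nat_lit 0x190000000000030, nat_lit 0, false, nat_lit 0⟩,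
  ⟨nat_lit 2, nat_lit 0, nat_lit 0, nat_lit 0, false, nat_lit 0⟩,
  ⟨nat_lit 0, nat_lit 14, nat_lit 0x5420000000005210000000001a10000000003a10000000001d10000000003b80000000003e00000000004480000000004380000000004680000000004280000000003b00000000003e8000000000544, nat_lit 0, false, nat_lit 0⟩,
  ⟨nat_lit 0, nat_lit 14, nat_lit 0x5420000000004c10000000001810000000002810000000001f90000000003b80000000004600000000004600000000004380000000004600000000004480000000003b8000000000438000000000544, nat_lit 0, false, nat_lit 0⟩,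
  ⟨nat_lit 0, nat_lit 5, nat_lit 0x558000000000568000000000558000000000558000000000568, nat_lit 0, false, nat_lit 0⟩,
  ⟨nat_lit 0, nat_lit 2, nat_lit 0x1b0000000000060, nat_lit 0, false, nat_lit 0⟩,
  ⟨nat_lit 0, nat_lit 14, nat_lit 0x5420000000005810000000002810000000002e10000000001f90000000003b00000000004380000000004380000000004600000000004280000000004480000000003b00000000003e8000000000544, nat_lit 0, false, nat_lit 0⟩,
  ⟨nat_lit 2, nat_lit 0, nat_lit 0, nat_lit 0, false, nat_lit 0⟩,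
  ⟨nat_lit 0, nat_lit 2, nat_lit 0x30000000000210, nat_lit 0, false, nat_lit 0⟩,
  ⟨nat_lit 0, nat_lit 2, nat_lit 0x190000000000180, nat_lit 0, false, nat_lit 0⟩,
  ⟨nat_lit 0, nat_lit 8, nat_lit 0x5a20000000005b10000000005c10000000002810000000001f90000000005500000000005980000000005a4, nat_lit 0, false, nat_lit 0⟩,
  ⟨nat_lit 0, nat_lit 7, nat_lit 0x5a20000000005110000000001910000000002e10000000001f90000000005780000000005a4, nat_lit 0, false, nat_lit 0⟩,
  ⟨nat_lit 0, nat_lit 6, nat_lit 0x5d80000000005e80000000005e80000000005e00000000005d80000000005e8, nat_lit 0, false, nat_lit 0⟩,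
  ⟨nat_lit 0, nat_lit 8, nat_lit 0x5a20000000003210000000005c10000000002410000000001f10000000005580000000005680000000005a4, nat_lit 0, false, nat_lit 0⟩,
  ⟨nat_lit 2, nat_lit 0, nat_lit 0, nat_lit 0, false, nat_lit 0⟩,
  ⟨nat_lit 0, nat_lit 2, nat_lit 0x30000000000580, nat_lit 0, false, nat_lit 0⟩,
  ⟨nat_lit 2, nat_lit 0, nat_lit 0, nat_lit 0, false, nat_lit 0⟩,
  ⟨nat_lit 0, nat_lit 8, nat_lit 0x5420000000000610000000003c10000000001b10000000001e10000000003b80000000003e8000000000634, nat_lit 0, false, nat_lit 0⟩,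
  ⟨nat_lit 2, nat_lit 0, nat_lit 0, nat_lit 0, false, nat_lit 0⟩,
  ⟨nat_lit 0, nat_lit 2, nat_lit 0x652000000000648, nat_lit 0, false, nat_lit 0⟩,
  ⟨nat_lit 0, nat_lit 6, nat_lit 0x5a20000000003210000000001a10000000001b10000000001e1000000000664, nat_lit 0, false, nat_lit 0⟩,
  ⟨nat_lit 2, nat_lit 0, nat_lit 0, nat_lit 0, false, nat_lit 0⟩,
  ⟨nat_lit 0, nat_lit 2, nat_lit 0x682000000000678, nat_lit 0, false, nat_lit 0⟩,
  ⟨nat_lit 0, nat_lit 7, nat_lit 0x6120000000000610000000003510000000001b10000000002910000000001f1000000000694, nat_lit 0, false, nat_lit 0⟩,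
  ⟨nat_lit 2, nat_lit 0, nat_lit 0, nat_lit 0, false, nat_lit 0⟩,
  ⟨nat_lit 0, nat_lit 10, nat_lit 0x5420000000000390000000004a10000000003a10000000001e10000000001f10000000003b00000000004600000000004280000000006b4, nat_lit 0, false, nat_lit 0⟩,
  ⟨nat_lit 2, nat_lit 0, nat_lit 0, nat_lit 0, false, nat_lit 0⟩,
  ⟨nat_lit 0, nat_lit 2, nat_lit 0x6d20000000006c8, nat_lit 0, false, nat_lit 0⟩,
  ⟨nat_lit 0, nat_lit 5, nat_lit 0x5a20000000004c10000000001b10000000001e10000000006e4, nat_lit 0, false, nat_lit 0⟩,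
  ⟨nat_lit 2, nat_lit 0, nat_lit 0, nat_lit 0, false, nat_lit 0⟩,
  ⟨nat_lit 0, nat_lit 2, nat_lit 0x7020000000006f8, nat_lit 0, false, nat_lit 0⟩,
  ⟨nat_lit 0, nat_lit 6, nat_lit 0x6120000000002d10000000003d10000000001d90000000001f1000000000714, nat_lit 0, false, nat_lit 0⟩,
  ⟨nat_lit 2, nat_lit 0, nat_lit 0, nat_lit 0, false, nat_lit 0⟩,
  ⟨nat_lit 0, nat_lit 2, nat_lit 0x1c0000000000180, nat_lit 0, false, nat_lit 0⟩,
  ⟨nat_lit 0, nat_lit 8, nat_lit 0x5420000000003410000000007410000000001d90000000001f90000000003e8000000000448000000000734, nat_lit 0, false, nat_lit 0⟩,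
  ⟨nat_lit 2, nat_lit 0, nat_lit 0, nat_lit 0, false, nat_lit 0⟩,
  ⟨nat_lit 0, nat_lit 2, nat_lit 0x762000000000758, nat_lit 0, false, nat_lit 0⟩,
  ⟨nat_lit 0, nat_lit 6, nat_lit 0x5a20000000003210000000001a10000000002810000000001f9000000000774, nat_lit 0, false, nat_lit 0⟩,
  ⟨nat_lit 2, nat_lit 0, nat_lit 0, nat_lit 0, false, nat_lit 0⟩,
  ⟨nat_lit 0, nat_lit 2, nat_lit 0x792000000000788, nat_lit 0, false, nat_lit 0⟩,
  ⟨nat_lit 0, nat_lit 6, nat_lit 0x6120000000003410000000001c10000000003a10000000002e10000000007a4, nat_lit 0, false, nat_lit 0⟩,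
  ⟨nat_lit 2, nat_lit 0, nat_lit 0, nat_lit 0, false, nat_lit 0⟩,
  ⟨nat_lit 0, nat_lit 2, nat_lit 0x300000000003f0, nat_lit 0, false, nat_lit 0⟩,
  ⟨nat_lit 0, nat_lit 7, nat_lit 0x5420000000007d10000000002510000000001f10000000004380000000004600000000007c4, nat_lit 0, false, nat_lit 0⟩,
  ⟨nat_lit 2, nat_lit 0, nat_lit 0, nat_lit 0, false, nat_lit 0⟩,
  ⟨nat_lit 0, nat_lit 2, nat_lit 0x7f20000000007e8, nat_lit 0, false, nat_lit 0⟩,
  ⟨nat_lit 0, nat_lit 6, nat_lit 0x5a20000000002710000000002310000000002810000000001f1000000000804, nat_lit 0, false, nat_lit 0⟩,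
  ⟨nat_lit 2, nat_lit 0, nat_lit 0, nat_lit 0, false, nat_lit 0⟩,
  ⟨nat_lit 0, nat_lit 2, nat_lit 0x822000000000818, nat_lit 0, false, nat_lit 0⟩,
  ⟨nat_lit 0, nat_lit 7, nat_lit 0x6120000000002710000000001810000000003a10000000001e10000000001f1000000000834, nat_lit 0, false, nat_lit 0⟩,
  ⟨nat_lit 2, nat_lit 0, nat_lit 0, nat_lit 0, false, nat_lit 0⟩,
  ⟨nat_lit 0, nat_lit 9, nat_lit 0x5420000000002210000000001810000000002810000000002e10000000001f90000000003e8000000000428000000000854, nat_lit 0, false, nat_lit 0⟩,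
  ⟨nat_lit 2, nat_lit 0, nat_lit 0, nat_lit 0, false, nat_lit 0⟩,
  ⟨nat_lit 0, nat_lit 2, nat_lit 0x872000000000868, nat_lit 0, false, nat_lit 0⟩,
  ⟨nat_lit 0, nat_lit 7, nat_lit 0x5a20000000002110000000007410000000001910000000001d90000000001f1000000000884, nat_lit 0, false, nat_lit 0⟩,
  ⟨nat_lit 2, nat_lit 0, nat_lit 0, nat_lit 0, false, nat_lit 0⟩,
  ⟨nat_lit 0, nat_lit 2, nat_lit 0x8a2000000000898, nat_lit 0, false, nat_lit 0⟩,
  ⟨nat_lit 0, nat_lit 7, nat_lit 0x6120000000003910000000001a10000000001b10000000001d10000000001f10000000008b4, nat_lit 0, false, nat_lit 0⟩,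
  ⟨nat_lit 2, nat_lit 0, nat_lit 0, nat_lit 0, false, nat_lit 0⟩,
  ⟨nat_lit 0, nat_lit 13, nat_lit 0x8d20000000003410000000001810000000003d10000000001e10000000004680000000004480000000004680000000004380000000003b80000000003e00000000003b00000000008d4, nat_lit 0, false, nat_lit 0⟩,
  ⟨nat_lit 2, nat_lit 0, nat_lit 0, nat_lit 0, false, nat_lit 0⟩,
  ⟨nat_lit 2, nat_lit 0, nat_lit 0, nat_lit 0, false, nat_lit 0⟩,
  ⟨nat_lit 2, nat_lit 0, nat_lit 0, nat_lit 0, false, nat_lit 0⟩,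
  ⟨nat_lit 0, nat_lit 12, nat_lit 0x9120000000006210000000004a10000000001d10000000004600000000004280000000004380000000004280000000004480000000003e0000000000468000000000914, nat_lit 0, false, nat_lit 0⟩,
  ⟨nat_lit 0, nat_lit 13, nat_lit 0x9120000000004810000000003c10000000004010000000001e10000000001f10000000003b00000000004600000000004380000000004480000000003b00000000003e0000000000914, nat_lit 0, false, nat_lit 0⟩,
  ⟨nat_lit 0, nat_lit 4, nat_lit 0x930000000000928000000000930000000000938, nat_lit 0, false, nat_lit 0⟩,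
  ⟨nat_lit 2, nat_lit 0, nat_lit 0, nat_lit 0, false, nat_lit 0⟩,
  ⟨nat_lit 2, nat_lit 0, nat_lit 0, nat_lit 0, false, nat_lit 0⟩,
  ⟨nat_lit 2, nat_lit 0, nat_lit 0, nat_lit 0, false, nat_lit 0⟩,
  ⟨nat_lit 0, nat_lit 13, nat_lit 0x9720000000002310000000001f90000000003e80000000003b00000000004680000000004380000000004600000000004280000000004480000000003b00000000003e0000000000974, nat_lit 0, false, nat_lit 0⟩,
  ⟨nat_lit 0, nat_lit 14, nat_lit 0x9720000000005110000000002310000000002410000000001d90000000001f10000000004480000000003e80000000004380000000004600000000004480000000003b00000000003e0000000000974, nat_lit 0, false, nat_lit 0⟩]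

theorem c0 : P.chkL D0 0 = true := by decide +kernel

def D1 : List De := [⟨nat_lit 0, nat_lit 11, nat_lit 0x9720000000000390000000004a10000000001b10000000004600000000003b80000000004600000000004380000000003b8000000000448000000000974, nat_lit 0, false, nat_lit 0⟩,
  ⟨nat_lit 2, nat_lit 0, nat_lit 0, nat_lit 0, false, nat_lit 0⟩,
  ⟨nat_lit 0, nat_lit 8, nat_lit 0x9b20000000002310000000002410000000002910000000001f90000000009880000000009a80000000009b4, nat_lit 0, false, nat_lit 0⟩,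
  ⟨nat_lit 0, nat_lit 8, nat_lit 0x9b20000000000390000000001c10000000002410000000001d10000000001f90000000009880000000009b4, nat_lit 0, false, nat_lit 0⟩,
  ⟨nat_lit 0, nat_lit 8, nat_lit 0x9b20000000005110000000002d10000000001b10000000002e10000000009980000000009a80000000009b4, nat_lit 0, false, nat_lit 0⟩,
  ⟨nat_lit 2, nat_lit 0, nat_lit 0, nat_lit 0, false, nat_lit 0⟩,
  ⟨nat_lit 2, nat_lit 0, nat_lit 0, nat_lit 0, false, nat_lit 0⟩,
  ⟨nat_lit 0, nat_lit 12, nat_lit 0xa020000000002310000000001f90000000003b80000000004380000000003b8000000000468000000000438000000000460000000000428000000000448000000000a04, nat_lit 0, false, nat_lit 0⟩,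
  ⟨nat_lit 0, nat_lit 14, nat_lit 0xa020000000002110000000001c10000000003d10000000002510000000003e00000000004380000000004480000000004380000000004680000000004280000000003b80000000003e0000000000a04, nat_lit 0, false, nat_lit 0⟩,
  ⟨nat_lit 2, nat_lit 0, nat_lit 0, nat_lit 0, false, nat_lit 0⟩,
  ⟨nat_lit 0, nat_lit 8, nat_lit 0xa320000000003910000000002310000000004010000000001e1000000000a18000000000a28000000000a34, nat_lit 0, false, nat_lit 0⟩,
  ⟨nat_lit 2, nat_lit 0, nat_lit 0, nat_lit 0, false, nat_lit 0⟩,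
  ⟨nat_lit 2, nat_lit 0, nat_lit 0, nat_lit 0, false, nat_lit 0⟩,
  ⟨nat_lit 0, nat_lit 9, nat_lit 0x9120000000005810000000001810000000003d10000000001d10000000001f90000000003e0000000000438000000000a64, nat_lit 0, false, nat_lit 0⟩,
  ⟨nat_lit 2, nat_lit 0, nat_lit 0, nat_lit 0, false, nat_lit 0⟩,
  ⟨nat_lit 0, nat_lit 2, nat_lit 0xa82000000000a78, nat_lit 0, false, nat_lit 0⟩,
  ⟨nat_lit 0, nat_lit 7, nat_lit 0x9520000000005310000000002d10000000001b10000000001f9000000000948000000000a94, nat_lit 0, false, nat_lit 0⟩,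
  ⟨nat_lit 2, nat_lit 0, nat_lit 0, nat_lit 0, false, nat_lit 0⟩,
  ⟨nat_lit 0, nat_lit 2, nat_lit 0xab2000000000aa8, nat_lit 0, false, nat_lit 0⟩,
  ⟨nat_lit 0, nat_lit 5, nat_lit 0x962000000000221000000000181000000000281000000000ac4, nat_lit 0, false, nat_lit 0⟩,
  ⟨nat_lit 2, nat_lit 0, nat_lit 0, nat_lit 0, false, nat_lit 0⟩,
  ⟨nat_lit 0, nat_lit 2, nat_lit 0x1c8000000000180, nat_lit 0, false, nat_lit 0⟩,
  ⟨nat_lit 0, nat_lit 11, nat_lit 0x8d2000000000391000000000af10000000003d10000000001d10000000001f10000000003e80000000003e8000000000448000000000460000000000ae4, nat_lit 0, false, nat_lit 0⟩,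
  ⟨nat_lit 2, nat_lit 0, nat_lit 0, nat_lit 0, false, nat_lit 0⟩,
  ⟨nat_lit 0, nat_lit 2, nat_lit 0xb12000000000b08, nat_lit 0, false, nat_lit 0⟩,
  ⟨nat_lit 2, nat_lit 0, nat_lit 0, nat_lit 0, false, nat_lit 0⟩,
  ⟨nat_lit 2, nat_lit 0, nat_lit 0, nat_lit 0, false, nat_lit 0⟩,
  ⟨nat_lit 0, nat_lit 15, nat_lit 0xb420000000005310000000001810000000002e1000000000140000000000150000000000068000000000168000000000138000000000160000000000120000000000150000000000038000000000150000000000b44, nat_lit 0, false, nat_lit 0⟩,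
  ⟨nat_lit 0, nat_lit 4, nat_lit 0xb58000000000b58000000000b50000000000b58, nat_lit 0, false, nat_lit 0⟩,
  ⟨nat_lit 0, nat_lit 15, nat_lit 0xb420000000004c1000000000291000000000068000000000140000000000158000000000128000000000170000000000168000000000178000000000138000000000128000000000148000000000068000000000b44, nat_lit 0, false, nat_lit 0⟩,
  ⟨nat_lit 0, nat_lit 15, nat_lit 0xb420000000005310000000002d10000000002410000000001e10000000001f1000000000068000000000120000000000160000000000138000000000150000000000148000000000068000000000128000000000b44, nat_lit 0, false, nat_lit 0⟩,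
  ⟨nat_lit 0, nat_lit 2, nat_lit 0xb58000000000b80, nat_lit 0, false, nat_lit 0⟩,
  ⟨nat_lit 0, nat_lit 19, nat_lit 0xb420000000005110000000003a10000000002e10000000001f1000000000148000000000128000000000178000000000170000000000160000000000170000000000138000000000178000000000120000000000140000000000030000000000068000000000148000000000b44, nat_lit 0, false, nat_lit 0⟩,
  ⟨nat_lit 0, nat_lit 5, nat_lit 0xb58000000000b78000000000b98000000000b78000000000ba0, nat_lit 0, false, nat_lit 0⟩,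
  ⟨nat_lit 2, nat_lit 0, nat_lit 0, nat_lit 0, false, nat_lit 0⟩,
  ⟨nat_lit 0, nat_lit 6, nat_lit 0xbc20000000004c10000000002810000000001f9000000000b68000000000bc4, nat_lit 0, false, nat_lit 0⟩,
  ⟨nat_lit 0, nat_lit 14, nat_lit 0xbc20000000003310000000001810000000003a10000000002910000000001f1000000000b58000000000b98000000000bb8000000000b58000000000b78000000000b98000000000b78000000000bc4, nat_lit 0, false, nat_lit 0⟩,
  ⟨nat_lit 2, nat_lit 0, nat_lit 0, nat_lit 0, false, nat_lit 0⟩,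
  ⟨nat_lit 2, nat_lit 0, nat_lit 0, nat_lit 0, false, nat_lit 0⟩,
  ⟨nat_lit 0, nat_lit 2, nat_lit 0x1d0000000000180, nat_lit 0, false, nat_lit 0⟩,
  ⟨nat_lit 0, nat_lit 15, nat_lit 0xb420000000004810000000001a10000000003d10000000001d900000000003800000000012800000000017000000000020a0000000003210000000004b10000000003a10000000002910000000001f9000000000083, nat_lit 0, false, nat_lit 0⟩,
  ⟨nat_lit 0, nat_lit 2, nat_lit 0x1a0000000000210, nat_lit 0, false, nat_lit 0⟩,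
  ⟨nat_lit 0, nat_lit 2, nat_lit 0x180000000000060, nat_lit 0, false, nat_lit 0⟩,
  ⟨nat_lit 0, nat_lit 12, nat_lit 0x5420000000003f10000000004a10000000002910000000001f900000000044800000000054a000000000039000000000c11000000000281000000000291000000000093, nat_lit 0, false, nat_lit 0⟩,
  ⟨nat_lit 1, nat_lit 0, nat_lit 0, nat_lit 0, false, nat_lit 0⟩,
  ⟨nat_lit 0, nat_lit 8, nat_lit 0x2000000000c6000000000000a0000000003210000000002d10000000002410000000001d9000000000083, nat_lit 0, false, nat_lit 0⟩,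
  ⟨nat_lit 4, nat_lit 0, nat_lit 0, nat_lit 199, false, nat_lit 0⟩,
  ⟨nat_lit 4, nat_lit 0, nat_lit 0, nat_lit 199, false, nat_lit 9⟩,
  ⟨nat_lit 4, nat_lit 0, nat_lit 0, nat_lit 199, false, nat_lit 18⟩,
  ⟨nat_lit 4, nat_lit 0, nat_lit 0, nat_lit 199, true, nat_lit 12⟩,
  ⟨nat_lit 4, nat_lit 0, nat_lit 0, nat_lit 199, true, nat_lit 21⟩,
  ⟨nat_lit 0, nat_lit 16, nat_lit 0x8d20000000003410000000001c10000000001910000000001e10000000003b00000000004600000000003b8000000000460000000000a0a0000000000610000000001810000000001b10000000001e10000000001f9000000000ca3, nat_lit 0, false, nat_lit 0⟩,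
  ⟨nat_lit 0, nat_lit 15, nat_lit 0x972000000000521000000000c110000000004010000000001e10000000001f10000000003b00000000004600000000003b000000000054a000000000481000000000c110000000003d10000000001d9000000000c83, nat_lit 0, false, nat_lit 0⟩,
  ⟨nat_lit 0, nat_lit 17, nat_lit 0x8d20000000003410000000004a10000000003d10000000002e10000000001f90000000003b80000000003e800000000042800000000046000000000054a000000000211000000000c110000000001910000000002e10000000001f10000000000a3, nat_lit 0, false, nat_lit 0⟩,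
  ⟨nat_lit 0, nat_lit 11, nat_lit 0xc52000000000271000000000c110000000002810000000001d90000000005500000000005aa0000000007d10000000002810000000001d9000000000cc3, nat_lit 0, false, nat_lit 0⟩,
  ⟨nat_lit 0, nat_lit 7, nat_lit 0x5a20000000004810000000001a10000000003d10000000001e10000000001f1000000000d0c, nat_lit 0, false, nat_lit 0⟩,
  ⟨nat_lit 0, nat_lit 8, nat_lit 0xd180000000005d80000000005f80000000005d8000000000600000000000d100000000005e0000000000d10, nat_lit 0, false, nat_lit 0⟩,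
  ⟨nat_lit 0, nat_lit 7, nat_lit 0x5e0000000000d280000000005f8000000000608000000000608000000000d28000000000608, nat_lit 0, false, nat_lit 0⟩,
  ⟨nat_lit 0, nat_lit 13, nat_lit 0xcda0000000005210000000007410000000002410000000002910000000001f90000000008e8000000000cf20000000002210000000001a10000000001910000000002910000000000a3, nat_lit 0, false, nat_lit 0⟩,
  ⟨nat_lit 0, nat_lit 25, nat_lit 0xb420000000003310000000003c10000000003d10000000001e10000000001f9000000000038000000000038000000000168000000000150000000000c720000000000610000000002310000000002410000000001d90000000001f10000000000b30000000005810000000002310000000001b10000000002e10000000001f1000000000148000000000130000000000b44, nat_lit 0, false, nat_lit 0⟩,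
  ⟨nat_lit 0, nat_lit 5, nat_lit 0xb68000000000b98000000000b78000000000b98000000000d50, nat_lit 0, false, nat_lit 0⟩,
  ⟨nat_lit 4, nat_lit 0, nat_lit 0, nat_lit 213, false, nat_lit 0⟩,
  ⟨nat_lit 4, nat_lit 0, nat_lit 0, nat_lit 213, false, nat_lit 9⟩,
  ⟨nat_lit 4, nat_lit 0, nat_lit 0, nat_lit 213, false, nat_lit 28⟩,
  ⟨nat_lit 4, nat_lit 0, nat_lit 0, nat_lit 213, true, nat_lit 9⟩,
  ⟨nat_lit 4, nat_lit 0, nat_lit 0, nat_lit 213, true, nat_lit 28⟩,
  ⟨nat_lit 4, nat_lit 0, nat_lit 0, nat_lit 213, true, nat_lit 37⟩,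
  ⟨nat_lit 0, nat_lit 10, nat_lit 0xc2a0000000004e10000000007410000000002410000000002910000000001f1000000000d68000000000b58000000000b78000000000c2c, nat_lit 0, false, nat_lit 0⟩,
  ⟨nat_lit 0, nat_lit 3, nat_lit 0x2600000000002a0000000000dd0, nat_lit 0, false, nat_lit 0⟩,
  ⟨nat_lit 0, nat_lit 13, nat_lit 0x2680000000002680000000002a80000000003780000000002680000000002a00000000002680000000002f80000000003700000000003180000000002b8000000000de80000000002a0, nat_lit 0, false, nat_lit 0⟩,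
  ⟨nat_lit 0, nat_lit 15, nat_lit 0x2c8000000000318000000000df80000000002680000000002c8000000000370000000000df80000000002600000000002a00000000002a00000000003780000000002c8000000000df80000000002a8000000000268, nat_lit 0, false, nat_lit 0⟩,
  ⟨nat_lit 4, nat_lit 0, nat_lit 0, nat_lit 221, false, nat_lit 0⟩,
  ⟨nat_lit 4, nat_lit 0, nat_lit 0, nat_lit 221, false, nat_lit 22⟩,
  ⟨nat_lit 4, nat_lit 0, nat_lit 0, nat_lit 221, false, nat_lit 32⟩,
  ⟨nat_lit 4, nat_lit 0, nat_lit 0, nat_lit 221, false, nat_lit 54⟩,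
  ⟨nat_lit 4, nat_lit 0, nat_lit 0, nat_lit 221, true, nat_lit 8⟩,
  ⟨nat_lit 4, nat_lit 0, nat_lit 0, nat_lit 221, true, nat_lit 30⟩,
  ⟨nat_lit 4, nat_lit 0, nat_lit 0, nat_lit 221, true, nat_lit 40⟩,
  ⟨nat_lit 4, nat_lit 0, nat_lit 0, nat_lit 221, true, nat_lit 62⟩,
  ⟨nat_lit 0, nat_lit 12, nat_lit 0x3820000000004e10000000004910000000004010000000002910000000001f9000000000e080000000002c8000000000de8000000000df0000000000260000000000384, nat_lit 0, false, nat_lit 0⟩,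
  ⟨nat_lit 0, nat_lit 3, nat_lit 0x3b8000000000438000000000e90, nat_lit 0, false, nat_lit 0⟩,
  ⟨nat_lit 0, nat_lit 14, nat_lit 0x3820000000004e10000000002d10000000004010000000001f90000000003700000000003180000000002b8000000000de0000000000df80000000002680000000002a0000000000268000000000384, nat_lit 0, false, nat_lit 0⟩,
  ⟨nat_lit 0, nat_lit 3, nat_lit 0x3b8000000000438000000000eb0, nat_lit 0, false, nat_lit 0⟩,
  ⟨nat_lit 0, nat_lit 17, nat_lit 0xea8000000000ec8000000000458000000000468000000000438000000000468000000000ea8000000000ec00000000003e0000000000ea8000000000450000000000438000000000468000000000ec80000000004280000000003b80000000003b8, nat_lit 0, false, nat_lit 0⟩,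
  ⟨nat_lit 0, nat_lit 9, nat_lit 0x9720000000004810000000001810000000002410000000001f1000000000ec80000000003b80000000003b8000000000a04, nat_lit 0, false, nat_lit 0⟩,
  ⟨nat_lit 0, nat_lit 2, nat_lit 0xa32000000000ee8, nat_lit 0, false, nat_lit 0⟩,
  ⟨nat_lit 0, nat_lit 2, nat_lit 0xd4a000000000ee8, nat_lit 0, false, nat_lit 0⟩,
  ⟨nat_lit 0, nat_lit 7, nat_lit 0xcea0000000005b10000000002310000000003a10000000001d1000000000988000000000f04, nat_lit 0, false, nat_lit 0⟩,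
  ⟨nat_lit 0, nat_lit 7, nat_lit 0x550000000000578000000000f18000000000598000000000598000000000550000000000f18, nat_lit 0, false, nat_lit 0⟩,
  ⟨nat_lit 0, nat_lit 15, nat_lit 0x542000000000391000000000c110000000001910000000001d10000000001f90000000003b80000000003b8000000000438000000000468000000000ea8000000000ec00000000003e00000000003b8000000000544, nat_lit 0, false, nat_lit 0⟩,
  ⟨nat_lit 0, nat_lit 4, nat_lit 0x578000000000f10000000000550000000000f30, nat_lit 0, false, nat_lit 0⟩,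
  ⟨nat_lit 0, nat_lit 14, nat_lit 0x8d2000000000c310000000001c10000000002410000000002510000000001f90000000003b0000000000ea00000000004380000000004680000000004480000000003e80000000003e80000000008d4, nat_lit 0, false, nat_lit 0⟩,
  ⟨nat_lit 0, nat_lit 16, nat_lit 0x8d2000000000c410000000005c10000000002410000000001e10000000001f9000000000ed80000000003e8000000000468000000000ed8000000000438000000000ea8000000000ec00000000003e00000000004680000000008d4, nat_lit 0, false, nat_lit 0⟩,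
  ⟨nat_lit 0, nat_lit 6, nat_lit 0xf680000000008e8000000000f58000000000f68000000000f58000000000f68, nat_lit 0, false, nat_lit 0⟩,
  ⟨nat_lit 0, nat_lit 12, nat_lit 0x9120000000003310000000004b10000000003d10000000003e0000000000ea00000000003e0000000000468000000000ed8000000000ec80000000003b8000000000914, nat_lit 0, false, nat_lit 0⟩,
  ⟨nat_lit 0, nat_lit 11, nat_lit 0x9720000000000390000000004a10000000002410000000001d9000000000ec8000000000460000000000ed8000000000438000000000ec0000000000974, nat_lit 0, false, nat_lit 0⟩,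
  ⟨nat_lit 0, nat_lit 2, nat_lit 0x9a8000000000f90, nat_lit 0, false, nat_lit 0⟩,
  ⟨nat_lit 0, nat_lit 9, nat_lit 0x5a20000000003210000000002d10000000002510000000001f9000000000f480000000005580000000005680000000005a4, nat_lit 0, false, nat_lit 0⟩,
  ⟨nat_lit 0, nat_lit 2, nat_lit 0x608000000000fb0, nat_lit 0, false, nat_lit 0⟩,
  ⟨nat_lit 0, nat_lit 10, nat_lit 0x5d8000000000600000000000d28000000000fc8000000000d38000000000d18000000000600000000000608000000000fc8000000000600, nat_lit 0, false, nat_lit 0⟩,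
  ⟨nat_lit 0, nat_lit 7, nat_lit 0x9b20000000000390000000001c10000000002910000000001f1000000000fa80000000009b4, nat_lit 0, false, nat_lit 0⟩,
  ⟨nat_lit 0, nat_lit 2, nat_lit 0x9d8000000000fe0, nat_lit 0, false, nat_lit 0⟩,
  ⟨nat_lit 0, nat_lit 20, nat_lit 0x9520000000002d10000000001d9000000000938000000000938000000000f880000000009120000000007d10000000001b10000000002510000000003e8000000000ea800000000043800000000097a0000000000610000000002d10000000003d10000000002510000000001f1000000000e43, nat_lit 0, false, nat_lit 0⟩,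
  ⟨nat_lit 1, nat_lit 0, nat_lit 0, nat_lit 0, false, nat_lit 0⟩,
  ⟨nat_lit 0, nat_lit 25, nat_lit 0xb42000000000af10000000001b10000000001d10000000001f900000000003800000000006800000000012800000000013800000000000200000000101000000000000a0000000004c10000000007410000000003a10000000002510000000000e30000000005b10000000003c10000000002910000000001f9000000000060000000000120000000000150000000000b44, nat_lit 0, false, nat_lit 0⟩,
  ⟨nat_lit 4, nat_lit 0, nat_lit 0, nat_lit 258, false, nat_lit 0⟩,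
  ⟨nat_lit 4, nat_lit 0, nat_lit 0, nat_lit 258, false, nat_lit 9⟩,
  ⟨nat_lit 4, nat_lit 0, nat_lit 0, nat_lit 258, false, nat_lit 20⟩,
  ⟨nat_lit 4, nat_lit 0, nat_lit 0, nat_lit 258, false, nat_lit 29⟩,
  ⟨nat_lit 4, nat_lit 0, nat_lit 0, nat_lit 258, true, nat_lit 9⟩,
  ⟨nat_lit 4, nat_lit 0, nat_lit 0, nat_lit 258, true, nat_lit 29⟩,
  ⟨nat_lit 4, nat_lit 0, nat_lit 0, nat_lit 258, true, nat_lit 38⟩,
  ⟨nat_lit 0, nat_lit 12, nat_lit 0xc22000000000221000000000c110000000003a10000000002e1000000000378000000000c2a0000000002710000000004a10000000003a1000000000251000000000073, nat_lit 0, false, nat_lit 0⟩,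
  ⟨nat_lit 0, nat_lit 16, nat_lit 0x10a20000000001a10000000003a10000000002910000000001f9000000000b58000000000b780000000010a20000000002210000000005c10000000001d1000000000bca000000000c41000000000af1000000000251000000000d73, nat_lit 0, false, nat_lit 0⟩,
  ⟨nat_lit 0, nat_lit 7, nat_lit 0xbc2000000000c310000000004b10000000003d10000000001e1000000000b580000000010bc, nat_lit 0, false, nat_lit 0⟩,
  ⟨nat_lit 0, nat_lit 2, nat_lit 0xbd80000000010c0, nat_lit 0, false, nat_lit 0⟩,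
  ⟨nat_lit 0, nat_lit 21, nat_lit 0x8d20000000004810000000003c10000000001910000000002e10000000001f90000000003e80000000004680000000003e800000000097a000000000c310000000001c10000000004010000000001f100000000100a0000000004810000000004d10000000001910000000002e10000000001f9000000000e33, nat_lit 0, false, nat_lit 0⟩,
  ⟨nat_lit 0, nat_lit 10, nat_lit 0x8f20000000002710000000003c10000000001910000000001d90000000001f9000000000f58000000000f60000000000f780000000010ec, nat_lit 0, false, nat_lit 0⟩,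
  ⟨nat_lit 0, nat_lit 2, nat_lit 0x95a0000000010f8, nat_lit 0, false, nat_lit 0⟩,
  ⟨nat_lit 0, nat_lit 2, nat_lit 0x9620000000010f8, nat_lit 0, false, nat_lit 0⟩,
  ⟨nat_lit 0, nat_lit 3, nat_lit 0x902000000000061000000001114, nat_lit 0, false, nat_lit 0⟩,
  ⟨nat_lit 0, nat_lit 20, nat_lit 0xb220000000004c10000000004d10000000003d10000000002e10000000008e80000000008d20000000005810000000003d10000000002e10000000001f100000000043800000000044800000000054a000000000c31000000000c110000000004010000000001e10000000001f9000000000e43, nat_lit 0, false, nat_lit 0⟩]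

theorem c1 : P.chkL D1 154 = true := by decide +kernel

def D2 : List De := [⟨nat_lit 0, nat_lit 20, nat_lit 0xc220000000002110000000005c10000000002410000000002e10000000001f10000000002680000000002a8000000000e08000000000202000000000c410000000003d10000000001d1000000000128000000000140000000000b4a0000000005110000000003d10000000001d9000000000103, nat_lit 0, false, nat_lit 0⟩,
  ⟨nat_lit 0, nat_lit 22, nat_lit 0xbc20000000002110000000001c10000000002810000000001e1000000000b58000000000b98000000000b780000000011420000000002210000000004b10000000001b10000000002910000000001f9000000000b58000000001028000000000c220000000003210000000004910000000001b10000000002510000000000e3, nat_lit 0, false, nat_lit 0⟩,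
  ⟨nat_lit 0, nat_lit 15, nat_lit 0x11520000000003310000000001a10000000004010000000002e10000000001f10000000002680000000003080000000003700000000002c8000000000de8000000000df00000000002a8000000000260000000001154, nat_lit 0, false, nat_lit 0⟩,
  ⟨nat_lit 0, nat_lit 13, nat_lit 0x10a20000000006210000000003c10000000001b10000000002510000000001f9000000000b58000000000b780000000010a20000000002210000000004010000000001f9000000000cb3, nat_lit 0, false, nat_lit 0⟩,
  ⟨nat_lit 0, nat_lit 28, nat_lit 0x11520000000004810000000007410000000003a10000000002510000000001f90000000002c8000000000c2a0000000000310000000001a10000000001910000000002e10000000001f1000000001020000000000c220000000005310000000004a10000000003a10000000001e1000000000e73000000000c410000000004d10000000003d10000000002910000000001f10000000002c00000000002b0000000001154, nat_lit 0, false, nat_lit 0⟩,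
  ⟨nat_lit 0, nat_lit 2, nat_lit 0x1168000000001180, nat_lit 0, false, nat_lit 0⟩,
  ⟨nat_lit 0, nat_lit 20, nat_lit 0x1152000000000c310000000001c10000000003a10000000002910000000001f9000000000260000000000de0000000000df800000000038a0000000005210000000003d10000000001d10000000001f100000000097a000000000c410000000004b1000000000241000000000291000000000103, nat_lit 0, false, nat_lit 0⟩,
  ⟨nat_lit 0, nat_lit 7, nat_lit 0xbf2000000000c310000000004a10000000002410000000002e10000000001f10000000011ac, nat_lit 0, false, nat_lit 0⟩,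
  ⟨nat_lit 0, nat_lit 2, nat_lit 0xc020000000011b0, nat_lit 0, false, nat_lit 0⟩,
  ⟨nat_lit 0, nat_lit 7, nat_lit 0x97a0000000003310000000003c10000000001b10000000002910000000001f90000000011c4, nat_lit 0, false, nat_lit 0⟩,
  ⟨nat_lit 0, nat_lit 20, nat_lit 0x2020000000002710000000003a10000000001f1000000000128000000000128000000000c720000000005210000000003510000000003d100000000029100000000003000000000014800000000020a0000000003910000000001c10000000004010000000001d90000000001f1000000000e63, nat_lit 0, false, nat_lit 0⟩,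
  ⟨nat_lit 0, nat_lit 13, nat_lit 0xbc20000000006210000000001c1000000000251000000001020000000001020000000000bca0000000000310000000003510000000002810000000002910000000001f9000000000c93, nat_lit 0, false, nat_lit 0⟩,
  ⟨nat_lit 0, nat_lit 18, nat_lit 0x11f2000000000c310000000005c10000000002410000000002e10000000011680000000011520000000002d10000000002410000000001f9000000000268000000000268000000000c2a000000000c310000000003510000000001d10000000001f9000000000e83, nat_lit 0, false, nat_lit 0⟩,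
  ⟨nat_lit 0, nat_lit 13, nat_lit 0x11f20000000003910000000001a10000000002410000000002910000000001f90000000011f20000000002110000000001a10000000002810000000001e10000000001f90000000000c3, nat_lit 0, false, nat_lit 0⟩,
  ⟨nat_lit 0, nat_lit 13, nat_lit 0x11e20000000000390000000007410000000001910000000001d90000000001f9000000000de800000000038a0000000004810000000007410000000001b10000000002e1000000000ca3, nat_lit 0, false, nat_lit 0⟩,
  ⟨nat_lit 0, nat_lit 6, nat_lit 0x3820000000005310000000005c10000000002810000000001d900000000122c, nat_lit 0, false, nat_lit 0⟩,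
  ⟨nat_lit 0, nat_lit 8, nat_lit 0x438000000000460000000000428000000000ea8000000000ec00000000003e80000000003b0000000001230, nat_lit 0, false, nat_lit 0⟩,
  ⟨nat_lit 0, nat_lit 16, nat_lit 0x3e8000000000ea80000000004600000000012480000000004280000000003e80000000003b0000000000eb8000000000468000000001248000000000438000000000460000000000ea8000000000ed80000000003b8000000000448, nat_lit 0, false, nat_lit 0⟩,
  ⟨nat_lit 0, nat_lit 18, nat_lit 0xec80000000012500000000003e8000000001258000000001230000000000468000000000428000000000ea00000000003b80000000003e0000000000450000000001248000000000438000000000468000000000ea8000000000ec00000000003b8000000000448, nat_lit 0, false, nat_lit 0⟩,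
  ⟨nat_lit 0, nat_lit 18, nat_lit 0x1260000000000428000000000ea00000000003b8000000000e900000000012480000000012680000000012500000000003b00000000003e0000000000eb0000000000460000000001248000000000438000000000468000000000ea8000000000ec00000000003e0, nat_lit 0, false, nat_lit 0⟩,
  ⟨nat_lit 0, nat_lit 16, nat_lit 0x1270000000000428000000001270000000000ed80000000004380000000012500000000003b80000000012780000000003e0000000001248000000000438000000000460000000000ed80000000004280000000003b00000000003e8, nat_lit 0, false, nat_lit 0⟩,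
  ⟨nat_lit 0, nat_lit 8, nat_lit 0x38a0000000005b10000000002d10000000003d1000000000251000000001258000000000ec8000000000474, nat_lit 0, false, nat_lit 0⟩,
  ⟨nat_lit 0, nat_lit 9, nat_lit 0x5420000000003310000000005c10000000001910000000002910000000001f1000000000ea0000000001268000000000914, nat_lit 0, false, nat_lit 0⟩,
  ⟨nat_lit 0, nat_lit 8, nat_lit 0x5420000000002710000000001b10000000001f90000000003b80000000003b8000000001288000000000974, nat_lit 0, false, nat_lit 0⟩,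
  ⟨nat_lit 0, nat_lit 2, nat_lit 0x4f2000000001298, nat_lit 0, false, nat_lit 0⟩,
  ⟨nat_lit 0, nat_lit 9, nat_lit 0x20a0000000004e10000000004b10000000004010000000001e10000000001f9000000000df8000000000de80000000012c4, nat_lit 0, false, nat_lit 0⟩,
  ⟨nat_lit 0, nat_lit 2, nat_lit 0x9520000000012a8, nat_lit 0, false, nat_lit 0⟩,
  ⟨nat_lit 0, nat_lit 8, nat_lit 0x11320000000003210000000004d10000000002810000000001d90000000001f10000000005980000000012e4, nat_lit 0, false, nat_lit 0⟩,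
  ⟨nat_lit 0, nat_lit 2, nat_lit 0x12f00000000010f8, nat_lit 0, false, nat_lit 0⟩,
  ⟨nat_lit 0, nat_lit 2, nat_lit 0x9b20000000012b8, nat_lit 0, false, nat_lit 0⟩,
  ⟨nat_lit 0, nat_lit 2, nat_lit 0xef20000000012b8, nat_lit 0, false, nat_lit 0⟩,
  ⟨nat_lit 0, nat_lit 7, nat_lit 0x13120000000005110000000002310000000001d90000000001f9000000000558000000001324, nat_lit 0, false, nat_lit 0⟩,
  ⟨nat_lit 0, nat_lit 3, nat_lit 0x1330000000000a40000000001338, nat_lit 0, false, nat_lit 0⟩,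
  ⟨nat_lit 0, nat_lit 7, nat_lit 0x13480000000009e8000000000ff80000000009d80000000009d80000000009d8000000001348, nat_lit 0, false, nat_lit 0⟩,
  ⟨nat_lit 0, nat_lit 2, nat_lit 0x11a20000000012b8, nat_lit 0, false, nat_lit 0⟩,
  ⟨nat_lit 0, nat_lit 2, nat_lit 0x5020000000012d8, nat_lit 0, false, nat_lit 0⟩,
  ⟨nat_lit 0, nat_lit 5, nat_lit 0xa0000000005810000000001c10000000001f9000000001374, nat_lit 0, false, nat_lit 0⟩,
  ⟨nat_lit 0, nat_lit 2, nat_lit 0xb32000000001300, nat_lit 0, false, nat_lit 0⟩,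
  ⟨nat_lit 0, nat_lit 2, nat_lit 0xa52000000001338, nat_lit 0, false, nat_lit 0⟩,
  ⟨nat_lit 0, nat_lit 7, nat_lit 0x9020000000005310000000003c10000000001b10000000002510000000001f1000000001394, nat_lit 0, false, nat_lit 0⟩,
  ⟨nat_lit 0, nat_lit 7, nat_lit 0x9f20000000000390000000004b10000000001910000000002510000000001f10000000013a4, nat_lit 0, false, nat_lit 0⟩,
  ⟨nat_lit 0, nat_lit 15, nat_lit 0x11520000000004e10000000003510000000001b10000000001d90000000001f1000000000268000000000378000000000df000000000115a0000000002210000000003510000000002410000000002e1000000000cc3, nat_lit 0, false, nat_lit 0⟩,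
  ⟨nat_lit 0, nat_lit 23, nat_lit 0x1152000000000c410000000004b10000000003a10000000002910000000001f90000000002c80000000002a000000000038a0000000002210000000003510000000003a10000000001d90000000001f900000000124800000000126800000000054a0000000000310000000004d10000000001910000000002510000000001f9000000001083, nat_lit 0, false, nat_lit 0⟩,
  ⟨nat_lit 0, nat_lit 19, nat_lit 0x13120000000003910000000004d10000000002810000000001d9000000000c520000000005210000000003510000000004010000000001d90000000001f10000000005500000000005aa0000000005110000000004b10000000001b10000000001d10000000001f1000000000e43, nat_lit 0, false, nat_lit 0⟩,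
  ⟨nat_lit 0, nat_lit 12, nat_lit 0x13f20000000003310000000001810000000001b10000000002e10000000001f1000000000d28000000000d38000000000fd0000000000608000000000d280000000013f4, nat_lit 0, false, nat_lit 0⟩,
  ⟨nat_lit 0, nat_lit 13, nat_lit 0x13f20000000000390000000001810000000001910000000001d90000000005d800000000061a0000000000610000000005c10000000003a10000000001d90000000001f1000000000c83, nat_lit 0, false, nat_lit 0⟩,
  ⟨nat_lit 0, nat_lit 5, nat_lit 0x9f20000000004c10000000002410000000001d900000000141c, nat_lit 0, false, nat_lit 0⟩,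
  ⟨nat_lit 0, nat_lit 12, nat_lit 0x12020000000003210000000001810000000002e1000000000b5800000000102800000000120a0000000005310000000005c10000000004010000000001d1000000000cb3, nat_lit 0, false, nat_lit 0⟩,
  ⟨nat_lit 0, nat_lit 25, nat_lit 0x13ea0000000003f10000000004b10000000001910000000001d10000000001f90000000011980000000011520000000005b10000000001a10000000002810000000002e10000000001f1000000000268000000000df80000000002a00000000011e20000000007d10000000007410000000003a10000000002e10000000001f10000000002a8000000000de8000000001063, nat_lit 0, false, nat_lit 0⟩,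
  ⟨nat_lit 0, nat_lit 6, nat_lit 0x5a200000000003100000000074100000000028100000000025100000000144c, nat_lit 0, false, nat_lit 0⟩,
  ⟨nat_lit 0, nat_lit 2, nat_lit 0x612000000001450, nat_lit 0, false, nat_lit 0⟩,
  ⟨nat_lit 0, nat_lit 6, nat_lit 0x3820000000003210000000001910000000002510000000001f1000000001464, nat_lit 0, false, nat_lit 0⟩,
  ⟨nat_lit 0, nat_lit 2, nat_lit 0x13f2000000001450, nat_lit 0, false, nat_lit 0⟩,
  ⟨nat_lit 0, nat_lit 2, nat_lit 0x1412000000001478, nat_lit 0, false, nat_lit 0⟩,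
  ⟨nat_lit 0, nat_lit 15, nat_lit 0x14920000000002210000000002310000000002810000000002910000000003b80000000012580000000003b00000000012880000000012480000000012600000000012580000000003b00000000003e8000000001494, nat_lit 0, false, nat_lit 0⟩,
  ⟨nat_lit 0, nat_lit 5, nat_lit 0xff80000000009c80000000013480000000014000000000014a0, nat_lit 0, false, nat_lit 0⟩,
  ⟨nat_lit 0, nat_lit 23, nat_lit 0xc22000000000221000000000af10000000002510000000001f90000000002a8000000000df00000000002a000000000038a0000000003310000000004a10000000003d10000000001f10000000012700000000014700000000014280000000009f20000000004c10000000004910000000001b10000000002910000000001f10000000000d3, nat_lit 0, false, nat_lit 0⟩,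
  ⟨nat_lit 0, nat_lit 18, nat_lit 0x5420000000004c10000000002310000000002810000000002510000000001f10000000003e0000000000ec80000000012880000000014700000000014280000000009f20000000000390000000003c10000000003d10000000001e10000000001f9000000000cc3, nat_lit 0, false, nat_lit 0⟩,
  ⟨nat_lit 0, nat_lit 13, nat_lit 0x14da0000000000310000000004910000000003d10000000002510000000005500000000012b00000000009ba0000000001810000000003a10000000001d90000000001f1000000000c83, nat_lit 0, false, nat_lit 0⟩,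
  ⟨nat_lit 0, nat_lit 12, nat_lit 0x12120000000003310000000003510000000004010000000001f10000000014320000000007d1000000000af10000000001b10000000001d10000000001f9000000000093, nat_lit 0, false, nat_lit 0⟩,
  ⟨nat_lit 0, nat_lit 20, nat_lit 0x14420000000005310000000003510000000002910000000001f100000000026800000000030800000000115a0000000003310000000003c10000000002410000000001d90000000001f90000000011f2000000000581000000000af10000000001b1000000000251000000001198000000000d83, nat_lit 0, false, nat_lit 0⟩,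
  ⟨nat_lit 2, nat_lit 0, nat_lit 0, nat_lit 0, false, nat_lit 0⟩,
  ⟨nat_lit 0, nat_lit 17, nat_lit 0x15120000000006210000000004a10000000001b10000000001d10000000001f9000000000030000000000140000000000160000000000030000000000160000000000138000000000148000000000030000000000068000000000148000000001514, nat_lit 0, false, nat_lit 0⟩,
  ⟨nat_lit 0, nat_lit 2, nat_lit 0x1528000000001528, nat_lit 0, false, nat_lit 0⟩,
  ⟨nat_lit 0, nat_lit 18, nat_lit 0x1512000000000061000000000af10000000001b10000000002e1000000000128000000000038000000000138000000000178000000000168000000000178000000000158000000000160000000000128000000000148000000000068000000000038000000001514, nat_lit 0, false, nat_lit 0⟩,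
  ⟨nat_lit 0, nat_lit 25, nat_lit 0x15120000000004c10000000007410000000003d10000000002e10000000001f9000000000168000000000148000000000038000000000140000000000c72000000000c31000000000c110000000004010000000002e10000000001f100000000014800000000006800000000151a000000000531000000000c110000000004010000000001d10000000001f1000000001033, nat_lit 0, false, nat_lit 0⟩,
  ⟨nat_lit 0, nat_lit 19, nat_lit 0x11720000000003f10000000001810000000003a10000000001e1000000000b42000000000c410000000007410000000004010000000001d90000000001f100000000012000000000017000000000151a000000000c310000000003510000000002410000000001e1000000000e13, nat_lit 0, false, nat_lit 0⟩,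
  ⟨nat_lit 0, nat_lit 25, nat_lit 0xb420000000003910000000001a10000000002e10000000001f1000000000038000000000038000000000160000000000170000000000c720000000005310000000002d10000000001910000000001d10000000001f900000000003800000000006800000000012800000000151a0000000002110000000001c10000000002410000000001d10000000001f1000000000db3, nat_lit 0, false, nat_lit 0⟩,
  ⟨nat_lit 0, nat_lit 17, nat_lit 0x156a0000000007d1000000000281000000000251000000000b580000000011720000000002710000000005c10000000002810000000001e1000000000bca0000000000310000000004d10000000003d10000000002910000000001f9000000000e83, nat_lit 0, false, nat_lit 0⟩]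

theorem c2 : P.chkL D2 276 = true := by decide +kernel

def D3 : List De := [⟨nat_lit 0, nat_lit 18, nat_lit 0x15820000000006210000000003c10000000002810000000001f10000000010d80000000014f20000000007d10000000001c10000000003a10000000002510000000013620000000003910000000004d10000000003a10000000001d10000000001f1000000000dc3, nat_lit 0, false, nat_lit 0⟩,
  ⟨nat_lit 0, nat_lit 16, nat_lit 0x15120000000005210000000002310000000001910000000001e100000000006800000000012000000000014800000000012000000000151a0000000005810000000001c10000000001910000000001e10000000001f10000000000b3, nat_lit 0, false, nat_lit 0⟩,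
  ⟨nat_lit 0, nat_lit 22, nat_lit 0x157a0000000003410000000002310000000001b10000000001e10000000001f1000000000b50000000000b98000000000b420000000005110000000007410000000003d10000000002e10000000001f900000000013800000000012000000000014000000000151a000000000341000000000741000000000251000000001083, nat_lit 0, false, nat_lit 0⟩,
  ⟨nat_lit 0, nat_lit 17, nat_lit 0x15b20000000006210000000004910000000002410000000002e10000000015200000000015120000000004e100000000003800000000013800000000012800000000016000000000151a0000000004e1000000000741000000000291000000000d83, nat_lit 0, false, nat_lit 0⟩,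
  ⟨nat_lit 0, nat_lit 21, nat_lit 0x1592000000000c410000000004a10000000001910000000002e10000000001f1000000000558000000000f48000000000c520000000005b10000000002d10000000001b10000000002e10000000001f900000000159a0000000005210000000002310000000004010000000001d10000000001f90000000000d3, nat_lit 0, false, nat_lit 0⟩,
  ⟨nat_lit 0, nat_lit 19, nat_lit 0x15b20000000000390000000003510000000004010000000002910000000001f10000000015280000000015480000000015520000000004c10000000001a10000000003d10000000001e10000000015280000000015b20000000004810000000003d1000000000291000000001093, nat_lit 0, false, nat_lit 0⟩,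
  ⟨nat_lit 0, nat_lit 16, nat_lit 0x15c20000000004a10000000002410000000001e10000000015480000000015d2000000000c310000000001910000000002910000000001f10000000015c20000000007d10000000001a10000000002810000000001f9000000001083, nat_lit 0, false, nat_lit 0⟩,
  ⟨nat_lit 2, nat_lit 0, nat_lit 0, nat_lit 0, false, nat_lit 0⟩,
  ⟨nat_lit 0, nat_lit 13, nat_lit 0x16020000000007d10000000001c10000000004010000000002e10000000001f90000000003780000000003180000000002b80000000003080000000002680000000002c8000000001604, nat_lit 0, false, nat_lit 0⟩,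
  ⟨nat_lit 0, nat_lit 15, nat_lit 0x16020000000003410000000004910000000003d10000000002510000000001f90000000002b8000000000de8000000000df00000000003700000000002c80000000003180000000002a8000000000260000000001604, nat_lit 0, false, nat_lit 0⟩,
  ⟨nat_lit 0, nat_lit 20, nat_lit 0x150a0000000005b10000000001810000000001b10000000002510000000001f1000000000558000000000f100000000014420000000000310000000003c10000000001910000000001d900000000030800000000160a0000000000310000000001c10000000004010000000001d9000000000da3, nat_lit 0, false, nat_lit 0⟩,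
  ⟨nat_lit 0, nat_lit 21, nat_lit 0x16020000000005310000000001c10000000002810000000002e10000000002600000000002a8000000000de80000000002020000000005810000000004910000000001910000000001d90000000001f9000000000068000000000120000000000b4a0000000000310000000001b10000000001f1000000000e63, nat_lit 0, false, nat_lit 0⟩,
  ⟨nat_lit 0, nat_lit 20, nat_lit 0x16420000000000390000000001810000000004010000000001d9000000000b98000000000bb800000000120a0000000000310000000004d10000000002810000000001d90000000001f90000000011680000000016320000000002310000000001b10000000002910000000001f9000000001043, nat_lit 0, false, nat_lit 0⟩,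
  ⟨nat_lit 0, nat_lit 13, nat_lit 0x16420000000004810000000001a10000000001910000000002510000000001f9000000000b980000000015620000000004e1000000000c11000000000191000000000251000000000083, nat_lit 0, false, nat_lit 0⟩,
  ⟨nat_lit 0, nat_lit 12, nat_lit 0x16020000000005310000000003c10000000001910000000001e10000000001f900000000030800000000160a0000000004c10000000004d10000000001f9000000000cb3, nat_lit 0, false, nat_lit 0⟩,
  ⟨nat_lit 0, nat_lit 10, nat_lit 0x15520000000006210000000002310000000002410000000001f100000000152800000000166a0000000005210000000002310000000000c3, nat_lit 0, false, nat_lit 0⟩,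
  ⟨nat_lit 0, nat_lit 21, nat_lit 0x163a0000000003910000000005c10000000004010000000002510000000010d80000000011680000000011520000000005310000000002d10000000004010000000001e10000000001f9000000000de800000000160a000000000c310000000003510000000001910000000002e10000000001f9000000000db3, nat_lit 0, false, nat_lit 0⟩,
  ⟨nat_lit 0, nat_lit 17, nat_lit 0x16520000000000390000000001a10000000001b10000000001d10000000001f10000000016100000000016200000000016920000000003410000000002310000000004010000000002510000000001f1000000001610000000001620000000000c83, nat_lit 0, false, nat_lit 0⟩,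
  ⟨nat_lit 0, nat_lit 19, nat_lit 0x15e20000000002710000000002d10000000001910000000002e10000000016820000000005310000000003c10000000001910000000002e10000000001f90000000016280000000016720000000005210000000003c10000000004010000000002e10000000001f1000000000d93, nat_lit 0, false, nat_lit 0⟩,
  ⟨nat_lit 0, nat_lit 18, nat_lit 0x15f20000000003310000000004a10000000001910000000001f10000000015400000000016820000000005810000000001c10000000003a10000000001d90000000001f10000000016a2000000000481000000000231000000000241000000000291000000000d73, nat_lit 0, false, nat_lit 0⟩,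
  ⟨nat_lit 0, nat_lit 12, nat_lit 0x16ba0000000007d10000000001a10000000002810000000015280000000015b2000000000c31000000000491000000000401000000000291000000001520000000000c83, nat_lit 0, false, nat_lit 0⟩,
  ⟨nat_lit 2, nat_lit 0, nat_lit 0, nat_lit 0, false, nat_lit 0⟩,
  ⟨nat_lit 0, nat_lit 17, nat_lit 0x16e20000000000390000000007410000000001b10000000002510000000002680000000002a00000000003700000000002a00000000003780000000003180000000002b8000000000de0000000000df80000000002a80000000002680000000016e4, nat_lit 0, false, nat_lit 0⟩,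
  ⟨nat_lit 0, nat_lit 19, nat_lit 0x16e20000000005b10000000001910000000001d90000000002a80000000003700000000002c800000000038a0000000003210000000004910000000002410000000001f90000000014700000000014280000000009f20000000003210000000003d10000000001d1000000000d83, nat_lit 0, false, nat_lit 0⟩,
  ⟨nat_lit 0, nat_lit 15, nat_lit 0x16e20000000007d10000000004a10000000001b10000000001d90000000001f10000000002680000000003180000000002a800000000115a0000000004810000000004b10000000004010000000001d1000000000073, nat_lit 0, false, nat_lit 0⟩,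
  ⟨nat_lit 0, nat_lit 20, nat_lit 0x8d20000000005110000000003a10000000001f10000000003b80000000004280000000004600000000003820000000006210000000004a10000000003a10000000002510000000001f90000000016ea0000000002710000000004d10000000004010000000001d90000000001f90000000000f3, nat_lit 0, false, nat_lit 0⟩,
  ⟨nat_lit 0, nat_lit 14, nat_lit 0x17120000000005b10000000001810000000004010000000002910000000001f9000000000be800000000150a0000000006210000000005c10000000003a10000000001e10000000001f1000000000cc3, nat_lit 0, false, nat_lit 0⟩,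
  ⟨nat_lit 2, nat_lit 0, nat_lit 0, nat_lit 0, false, nat_lit 0⟩,
  ⟨nat_lit 0, nat_lit 12, nat_lit 0x1742000000000031000000000c110000000002410000000001e1000000001020000000000d68000000000bb8000000000b58000000000d68000000000b58000000001744, nat_lit 0, false, nat_lit 0⟩,
  ⟨nat_lit 0, nat_lit 15, nat_lit 0x13d20000000004c10000000007410000000001b10000000001f90000000012020000000003910000000007410000000001e100000000174a0000000003310000000005c10000000001910000000002910000000000f3, nat_lit 0, false, nat_lit 0⟩,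
  ⟨nat_lit 0, nat_lit 20, nat_lit 0x14820000000002710000000004b10000000002410000000001d90000000002a8000000000df800000000115a0000000005b10000000003c10000000003a10000000001d10000000011980000000017620000000005b10000000004910000000001b10000000001d10000000001f1000000000103, nat_lit 0, false, nat_lit 0⟩,
  ⟨nat_lit 0, nat_lit 19, nat_lit 0x176a0000000005110000000005c10000000001910000000001e10000000001f1000000000bd80000000011980000000013d20000000005810000000002810000000001f90000000011980000000017620000000003c10000000003d10000000002e10000000001f1000000000e53, nat_lit 0, false, nat_lit 0⟩,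
  ⟨nat_lit 0, nat_lit 22, nat_lit 0x12b0000000000ce20000000004e1000000000c110000000001d90000000001f9000000000f280000000014d20000000000610000000001a10000000001e10000000001f90000000009c80000000013480000000014b80000000017720000000000310000000001c10000000001b10000000002e10000000001f10000000000d3, nat_lit 0, false, nat_lit 0⟩,
  ⟨nat_lit 0, nat_lit 14, nat_lit 0x179a0000000002710000000004d10000000003d10000000001d90000000001f1000000000f280000000012a00000000011020000000002110000000001c1000000000191000000000251000000000093, nat_lit 0, false, nat_lit 0⟩,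
  ⟨nat_lit 2, nat_lit 0, nat_lit 0, nat_lit 0, false, nat_lit 0⟩,
  ⟨nat_lit 0, nat_lit 23, nat_lit 0x17b20000000004810000000004910000000001b10000000001e10000000001f9000000000b680000000014c20000000005110000000001810000000001b10000000002510000000001f1000000000ff80000000013580000000014e20000000006210000000005c10000000002810000000002e10000000001f10000000014b8000000000e63, nat_lit 0, false, nat_lit 0⟩,
  ⟨nat_lit 0, nat_lit 13, nat_lit 0x17c2000000000511000000000af10000000003d10000000009c80000000009d8000000000ff80000000017ca0000000004c10000000007410000000001d10000000001f1000000000c93, nat_lit 0, false, nat_lit 0⟩,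
  ⟨nat_lit 0, nat_lit 13, nat_lit 0x17d20000000002110000000002d10000000001910000000002510000000001f10000000017b2000000000c310000000003c10000000003a10000000001d10000000001f9000000000093, nat_lit 0, false, nat_lit 0⟩,
  ⟨nat_lit 0, nat_lit 18, nat_lit 0x17e2000000000af10000000002910000000001f90000000010200000000011420000000000310000000003c10000000004010000000002e10000000001f90000000010200000000015620000000004810000000007410000000001d10000000001f90000000000f3, nat_lit 0, false, nat_lit 0⟩,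
  ⟨nat_lit 0, nat_lit 22, nat_lit 0x15d20000000002110000000003510000000002810000000001d10000000001f10000000015280000000015a20000000004e10000000002d10000000004010000000001e10000000001f10000000015280000000015480000000017fa0000000004c10000000001810000000001910000000001e10000000001f9000000000e23, nat_lit 0, false, nat_lit 0⟩,
  ⟨nat_lit 0, nat_lit 20, nat_lit 0x16a20000000004810000000001a10000000004010000000002e10000000016180000000016200000000016ba0000000005110000000001c10000000002910000000015280000000015400000000018020000000002110000000003c10000000004010000000002510000000001f9000000001073, nat_lit 0, false, nat_lit 0⟩,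
  ⟨nat_lit 2, nat_lit 0, nat_lit 0, nat_lit 0, false, nat_lit 0⟩,
  ⟨nat_lit 0, nat_lit 7, nat_lit 0x18220000000002310000000001f9000000001028000000000b78000000001020000000001824, nat_lit 0, false, nat_lit 0⟩,
  ⟨nat_lit 0, nat_lit 25, nat_lit 0x18220000000005310000000001a10000000001910000000002910000000001f1000000000b58000000001020000000000b50000000000bb8000000000c220000000004e10000000001810000000003d10000000002510000000001f90000000002a000000000031800000000160a000000000341000000000af10000000003a10000000002e10000000001f9000000000d83, nat_lit 0, false, nat_lit 0⟩,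
  ⟨nat_lit 0, nat_lit 14, nat_lit 0x1842000000000c41000000000af10000000004010000000001d90000000001f10000000016200000000016ca0000000004c10000000007410000000002410000000001d10000000001f9000000000ca3, nat_lit 0, false, nat_lit 0⟩,
  ⟨nat_lit 0, nat_lit 18, nat_lit 0x1842000000000581000000000c110000000002410000000001d10000000016180000000016200000000016420000000001c10000000001910000000002e10000000001f10000000015620000000003210000000004b10000000001b1000000000291000000001083, nat_lit 0, false, nat_lit 0⟩,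
  ⟨nat_lit 0, nat_lit 21, nat_lit 0x1512000000000c410000000002310000000003d10000000001d10000000001f9000000000138000000000160000000000178000000000b4a0000000005210000000001c10000000001e10000000001f900000000182a0000000002210000000004b10000000002810000000001e10000000001f1000000000113, nat_lit 0, false, nat_lit 0⟩,
  ⟨nat_lit 0, nat_lit 6, nat_lit 0x18520000000002210000000001810000000001b10000000001f100000000187c, nat_lit 0, false, nat_lit 0⟩,
  ⟨nat_lit 0, nat_lit 20, nat_lit 0x181a0000000006210000000004d10000000003d10000000001d90000000001f90000000016100000000016d20000000002210000000001810000000004010000000001f100000000153800000000186a0000000005210000000002d10000000001b10000000001d90000000001f9000000001073, nat_lit 0, false, nat_lit 0⟩,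
  ⟨nat_lit 0, nat_lit 21, nat_lit 0x189a0000000007d10000000002310000000001d10000000001f10000000017c20000000004e10000000002310000000001910000000001e10000000001f10000000009c80000000014b800000000140800000000170a0000000006210000000003c10000000003a10000000002510000000001f1000000000113, nat_lit 0, false, nat_lit 0⟩,
  ⟨nat_lit 0, nat_lit 13, nat_lit 0x18aa0000000006210000000002d10000000001b10000000001d10000000018380000000018880000000018a20000000005810000000001a10000000003d1000000000291000000000083, nat_lit 0, false, nat_lit 0⟩,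
  ⟨nat_lit 0, nat_lit 18, nat_lit 0x150a0000000005310000000003a10000000001f9000000000f1800000000173a0000000002110000000004910000000002810000000002910000000001f10000000016f80000000018b20000000007d10000000003c10000000001b10000000001f9000000000113, nat_lit 0, false, nat_lit 0⟩]

theorem c3 : P.chkL D3 345 = true := by decide +kernel

def D4 : List De := [⟨nat_lit 0, nat_lit 13, nat_lit 0x176a0000000003910000000002310000000002410000000001d10000000001f90000000011980000000018c20000000006210000000007410000000003d10000000001e1000000000cc3, nat_lit 0, false, nat_lit 0⟩,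
  ⟨nat_lit 0, nat_lit 23, nat_lit 0x1722000000000581000000000af10000000001d90000000001f10000000018da0000000003210000000003510000000002810000000001d10000000001f10000000017580000000017820000000005110000000003c10000000004010000000001e10000000010530000000005310000000003c10000000002510000000001f90000000017ac, nat_lit 0, false, nat_lit 0⟩,
  ⟨nat_lit 0, nat_lit 2, nat_lit 0x9020000000018e8, nat_lit 0, false, nat_lit 0⟩,
  ⟨nat_lit 0, nat_lit 6, nat_lit 0x8da0000000002210000000004b10000000001e10000000001f10000000018f4, nat_lit 0, false, nat_lit 0⟩,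
  ⟨nat_lit 0, nat_lit 7, nat_lit 0x460000000000438000000000468000000000ea8000000000ed80000000003b80000000003e0, nat_lit 0, false, nat_lit 0⟩,
  ⟨nat_lit 0, nat_lit 9, nat_lit 0x1288000000000468000000001278000000000ed8000000001270000000000428000000000ea00000000003e80000000003e8, nat_lit 0, false, nat_lit 0⟩,
  ⟨nat_lit 0, nat_lit 8, nat_lit 0x1288000000001248000000001260000000000ea8000000000ec00000000003b80000000003e8000000001270, nat_lit 0, false, nat_lit 0⟩,
  ⟨nat_lit 1, nat_lit 0, nat_lit 0, nat_lit 0, false, nat_lit 0⟩,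
  ⟨nat_lit 0, nat_lit 2, nat_lit 0x1940000000001380, nat_lit 0, false, nat_lit 0⟩,
  ⟨nat_lit 0, nat_lit 7, nat_lit 0x460000000000438000000000ed80000000012500000000003b0000000001258000000001470, nat_lit 0, false, nat_lit 0⟩,
  ⟨nat_lit 0, nat_lit 10, nat_lit 0x460000000001278000000000438000000000ed8000000000ec80000000012500000000003e80000000003e80000000014700000000006a0, nat_lit 0, false, nat_lit 0⟩,
  ⟨nat_lit 0, nat_lit 10, nat_lit 0x460000000001278000000000438000000000460000000000428000000000ea00000000003b8000000001278000000001470000000000720, nat_lit 0, false, nat_lit 0⟩,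
  ⟨nat_lit 0, nat_lit 9, nat_lit 0x12880000000012600000000004280000000012580000000003b80000000003e80000000012700000000014700000000007b0, nat_lit 0, false, nat_lit 0⟩,
  ⟨nat_lit 0, nat_lit 9, nat_lit 0x468000000001278000000000438000000000460000000000ed8000000000ec8000000001250000000001470000000000840, nat_lit 0, false, nat_lit 0⟩,
  ⟨nat_lit 0, nat_lit 9, nat_lit 0x4680000000004380000000004680000000004280000000004480000000003b00000000003e00000000014700000000008c0, nat_lit 0, false, nat_lit 0⟩,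
  ⟨nat_lit 0, nat_lit 11, nat_lit 0x1288000000000468000000001278000000000438000000000460000000000ed8000000000ea8000000000ec80000000003b00000000003e0000000001900, nat_lit 0, false, nat_lit 0⟩,
  ⟨nat_lit 0, nat_lit 8, nat_lit 0x460000000000ed80000000012680000000004480000000003b8000000000448000000001900000000001120, nat_lit 0, false, nat_lit 0⟩,
  ⟨nat_lit 0, nat_lit 10, nat_lit 0x1288000000000468000000001248000000000438000000000ed80000000012500000000003e80000000003e8000000001470000000001428, nat_lit 0, false, nat_lit 0⟩,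
  ⟨nat_lit 0, nat_lit 9, nat_lit 0x12880000000004380000000004600000000004480000000003b80000000003e80000000014700000000014280000000013c0, nat_lit 0, false, nat_lit 0⟩,
  ⟨nat_lit 0, nat_lit 10, nat_lit 0x1270000000000438000000000468000000000448000000000ea00000000003b00000000003e0000000001900000000001120000000000ad0, nat_lit 0, false, nat_lit 0⟩,
  ⟨nat_lit 0, nat_lit 10, nat_lit 0x1288000000000460000000001268000000001288000000000ec80000000003b80000000003e80000000012700000000019000000000013b0, nat_lit 0, false, nat_lit 0⟩,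
  ⟨nat_lit 0, nat_lit 9, nat_lit 0x1288000000000460000000000438000000000468000000000428000000000ea80000000003b80000000003e80000000011d0, nat_lit 0, false, nat_lit 0⟩]

theorem c4 : P.chkL D4 397 = true := by decide +kernel


theorem val {H : Type} [Group H] {N : ℕ} {Γ : Type} [Group Γ] {A : RAct H N} {g : ℕ → H} {φ : H →* Γ} {z : Γ}
    {c : ℕ → Subgroup.center Γ} (h : CtxH P A g) (hG : CtxG P g φ z c) :
    ∀ x < 419, Val P g φ z c (P.F x) := by
  have h0 : ∀ x < 0, Val P g φ z c (P.F x) := forall_lt_zero'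
  have h1 : ∀ x < 154, Val P g φ z c (P.F x) := chkL_spec h hG h0 c0
  have h2 : ∀ x < 276, Val P g φ z c (P.F x) := chkL_spec h hG h1 c1
  have h3 : ∀ x < 345, Val P g φ z c (P.F x) := chkL_spec h hG h2 c2
  have h4 : ∀ x < 397, Val P g φ z c (P.F x) := chkL_spec h hG h3 c3
  have h5 : ∀ x < 419, Val P g φ z c (P.F x) := chkL_spec h hG h4 c4
  exact h5

/-- the facts used -/
def U : List ℕ := [nat_lit 401, nat_lit 402, nat_lit 403, nat_lit 405, nat_lit 406, nat_lit 407, nat_lit 408, nat_lit 409, nat_lit 410, nat_lit 411, nat_lit 412, nat_lit 413, nat_lit 414, nat_lit 415, nat_lit 416, nat_lit 417, nat_lit 418]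

theorem rel {H : Type} [Group H] {N : ℕ} {Γ : Type} [Group Γ] {A : RAct H N} {g : ℕ → H} {φ : H →* Γ} {z : Γ}
    (h : CtxH P A g) (hG : CtxG P g φ z fun _ => 1) :
    ∀ r ∈ U.map fun x => P.raw (P.F x), ev (XX P.k g φ z) r = 1 :=
  raw_all h (val h hG) (by decide +kernel)

end Cfsg.Agent.L0.J4FP
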