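import Cfsg.Agent.L0.J4.V3C0
import Cfsg.Agent.L0.J4.V3C1
import Cfsg.Agent.L0.J4.V3C2

/-! Generated coset table certificate. -/

set_option autoImplicit false
set_option maxRecDepth 100000

namespace Cfsg.Agent.L0.J4V3

noncomputable def T : CT := ⟨row, nat_lit 42527, nat_lit 42504, nat_lit 0xffff, nat_lit 0x1ff0000, nat_lit 25, nat_lit 0x3f, nat_lit 0, nat_lit 0xffff, nat_lit 16, nat_lit 0x1ff, nat_lit 0x1e000000, nat_lit 246, nat_lit 277, nat_lit 1, nat_lit 56, [], cols, erots, gens⟩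

theorem a50 : ∀ j < 50, allR chk 9 j = true := (forall_lt_succ' (forall_lt_succ' (forall_lt_succ' (forall_lt_succ' (forall_lt_succ' (forall_lt_succ' (forall_lt_succ' (forall_lt_succ' (forall_lt_succ' (forall_lt_succ' (forall_lt_succ' (forall_lt_succ' (forall_lt_succ' (forall_lt_succ' (forall_lt_succ' (forall_lt_succ' (forall_lt_succ' (forall_lt_succ' (forall_lt_succ' (forall_lt_succ' (forall_lt_succ' (forall_lt_succ' (forall_lt_succ' (forall_lt_succ' (forall_lt_succ' (forall_lt_succ' (forall_lt_succ' (forall_lt_succ' (forall_lt_succ' (forall_lt_succ' (forall_lt_succ' (forall_lt_succ' (forall_lt_succ' (forall_lt_succ' (forall_lt_succ' (forall_lt_succ' (forall_lt_succ' (forall_lt_succ' (forall_lt_succ' (forall_lt_succ' (forall_lt_succ' (forall_lt_succ' (forall_lt_succ' (forall_lt_succ' (forall_lt_succ' (forall_lt_succ' (forall_lt_succ' (forall_lt_succ' (forall_lt_succ' (forall_lt_succ'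 forall_lt_zero' b0) b1) b2) b3) b4) b5) b6) b7) b8) b9) b10) b11) b12) b13) b14) b15) b16) b17) b18) b19) b20) b21) b22) b23) b24) b25) b26) b27) b28) b29) b30) b31) b32) b33) b34) b35) b36) b37) b38) b39) b40) b41) b42) b43) b44) b45) b46) b47) b48) b49)
theorem all : ∀ c < 42527, chk c = true := fun c hc =>
  allR_glue (d := 9) (n := 84) (forall_lt_succ' (forall_lt_succ' (forall_lt_succ' (forall_lt_succ' (forall_lt_succ' (forall_lt_succ' (forall_lt_succ' (forall_lt_succ' (forall_lt_succ' (forall_lt_succ' (forall_lt_succ' (forall_lt_succ' (forall_lt_succ' (forall_lt_succ' (forall_lt_succ' (forall_lt_succ' (forall_lt_succ' (forall_lt_succ' (forall_lt_succ' (forall_lt_succ' (forall_lt_succ' (forall_lt_succ' (forall_lt_succ' (forall_lt_succ' (forall_lt_succ' (forall_lt_succ' (forall_lt_succ' (forall_lt_succ' (forall_lt_succ' (forall_lt_succ' (forall_lt_succ' (forall_lt_succ' (forall_lt_succ'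 (forall_lt_succ' a50 b50) b51) b52) b53) b54) b55) b56) b57) b58) b59) b60) b61) b62) b63) b64) b65) b66) b67) b68) b69) b70) b71) b72) b73) b74) b75) b76) b77) b78) b79) b80) b81) b82) b83) c (lt_of_lt_of_le hc (by norm_num))

/-- the relators used -/
def R : List (List ℕ) := [[nat_lit 0, nat_lit 0],
  [nat_lit 1, nat_lit 2],
  [nat_lit 3, nat_lit 4],
  [nat_lit 5, nat_lit 6],
  [nat_lit 1, nat_lit 1, nat_lit 1],
  [nat_lit 0, nat_lit 1, nat_lit 0, nat_lit 1, nat_lit 0, nat_lit 1, nat_lit 0, nat_lit 1, nat_lit 0, nat_lit 1, nat_lit 0, nat_lit 1, nat_lit 0, nat_lit 1, nat_lit 0, nat_lit 1, nat_lit 0, nat_lit 1, nat_lit 0, nat_lit 1, nat_lit 0, nat_lit 1, nat_lit 0, nat_lit 1, nat_lit 0, nat_lit 1, nat_lit 0, nat_lit 1, nat_lit 0, nat_lit 1, nat_lit 0, nat_lit 1, nat_lit 0, nat_lit 1, nat_lit 0, nat_lit 1, nat_lit 0, nat_lit 1, nat_lit 0, nat_lit 1, nat_lit 0, nat_lit 1, nat_lit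 0, nat_lit 1, nat_lit 0, nat_lit 1],
  [nat_lit 0, nat_lit 2, nat_lit 0, nat_lit 1, nat_lit 0, nat_lit 2, nat_lit 0, nat_lit 1, nat_lit 0, nat_lit 2, nat_lit 0, nat_lit 1, nat_lit 0, nat_lit 2, nat_lit 0, nat_lit 1, nat_lit 0, nat_lit 2, nat_lit 0, nat_lit 1, nat_lit 0, nat_lit 2, nat_lit 0, nat_lit 1, nat_lit 0, nat_lit 2, nat_lit 0, nat_lit 1, nat_lit 0, nat_lit 2, nat_lit 0, nat_lit 1, nat_lit 0, nat_lit 2, nat_lit 0, nat_lit 1, nat_lit 0, nat_lit 2, nat_lit 0, nat_lit 1, nat_lit 0, nat_lit 2, nat_lit 0, nat_lit 1, nat_lit 0, nat_lit 2, nat_lit 0, nat_lit 1],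
  [nat_lit 0, nat_lit 2, nat_lit 0, nat_lit 2, nat_lit 0, nat_lit 1, nat_lit 0, nat_lit 1, nat_lit 0, nat_lit 2, nat_lit 0, nat_lit 2, nat_lit 0, nat_lit 1, nat_lit 0, nat_lit 1, nat_lit 0, nat_lit 2, nat_lit 0, nat_lit 2, nat_lit 0, nat_lit 1, nat_lit 0, nat_lit 1, nat_lit 0, nat_lit 2, nat_lit 0, nat_lit 2, nat_lit 0, nat_lit 1, nat_lit 0, nat_lit 1, nat_lit 0, nat_lit 2, nat_lit 0, nat_lit 2, nat_lit 0, nat_lit 1, nat_lit 0, nat_lit 1],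
  [nat_lit 0, nat_lit 1, nat_lit 0, nat_lit 1, nat_lit 0, nat_lit 2, nat_lit 0, nat_lit 1, nat_lit 0, nat_lit 2, nat_lit 0, nat_lit 1, nat_lit 0, nat_lit 2, nat_lit 0, nat_lit 1, nat_lit 0, nat_lit 1, nat_lit 0, nat_lit 2, nat_lit 0, nat_lit 1, nat_lit 0, nat_lit 2, nat_lit 0, nat_lit 1, nat_lit 0, nat_lit 2, nat_lit 0, nat_lit 1, nat_lit 0, nat_lit 1, nat_lit 0, nat_lit 2, nat_lit 0, nat_lit 1, nat_lit 0, nat_lit 2, nat_lit 0, nat_lit 1, nat_lit 0, nat_lit 2, nat_lit 0, nat_lit 1, nat_lit 0, nat_lit 1, nat_lit 0, nat_lit 2, nat_lit 0, nat_lit 1, nat_lit 0, nat_lit 2, nat_lit 0, nat_lit 1, nat_lit 0, nat_lit 2],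
  [nat_lit 0, nat_lit 1, nat_lit 0, nat_lit 1, nat_lit 0, nat_lit 2, nat_lit 0, nat_lit 1, nat_lit 0, nat_lit 1, nat_lit 0, nat_lit 2, nat_lit 0, nat_lit 1, nat_lit 0, nat_lit 1, nat_lit 0, nat_lit 2, nat_lit 0, nat_lit 1, nat_lit 0, nat_lit 2, nat_lit 0, nat_lit 2, nat_lit 0, nat_lit 1, nat_lit 0, nat_lit 2, nat_lit 0, nat_lit 2, nat_lit 0, nat_lit 1, nat_lit 0, nat_lit 2, nat_lit 0, nat_lit 2],
  [nat_lit 4, nat_lit 2, nat_lit 0, nat_lit 2, nat_lit 0, nat_lit 1],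
  [nat_lit 6, nat_lit 0, nat_lit 2, nat_lit 0],
  [nat_lit 3, nat_lit 3, nat_lit 3],
  [nat_lit 5, nat_lit 5, nat_lit 5],
  [nat_lit 4, nat_lit 4, nat_lit 6, nat_lit 4, nat_lit 6, nat_lit 3, nat_lit 6, nat_lit 4, nat_lit 5, nat_lit 4, nat_lit 4, nat_lit 6, nat_lit 4, nat_lit 6, nat_lit 3, nat_lit 6, nat_lit 4, nat_lit 5],
  [nat_lit 4, nat_lit 6, nat_lit 4, nat_lit 5, nat_lit 4, nat_lit 6, nat_lit 3, nat_lit 6, nat_lit 3, nat_lit 6, nat_lit 4, nat_lit 6, nat_lit 4, nat_lit 5, nat_lit 4, nat_lit 6, nat_lit 3, nat_lit 6, nat_lit 3, nat_lit 6],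
  [nat_lit 4, nat_lit 4, nat_lit 6, nat_lit 3, nat_lit 6, nat_lit 3, nat_lit 6, nat_lit 3, nat_lit 6, nat_lit 3, nat_lit 6]]

theorem cert : Cert T (R.map fun r => (r, 0)) ([3, 4, 5, 6].map fun y => (y, 0)) 29 31 [0, 1, 2, 3, 4, 5, 6] :=
  ⟨by decide +kernel, ⟨[[(0, 0), (11, 1), (11, 3), (10, 2), (9, 20), (9, 4), (10, 4), (9, 26), (9, 2), (9, 10), (5, 0), (9, 16), (9, 32), (9, 8), (9, 14), (6, 0), (8, 4), (8, 8), (7, 0), (9, 22), (7, 6), (8, 12), (9, 0), (9, 6), (9, 18), (9, 28), (9, 34), (8, 2), (9, 12), (7, 4), (9, 24), (6, 2), (7, 2), (8, 0), (9, 30), (8, 10), (8, 6)], [(1, 0), (4, 0), (10, 5), (5, 1), (9, 3), (9, 19), (9, 7), (7, 7), (9, 1), (9, 9), (9, 13), (9, 15), (9, 25), (8, 7), (6, 3), (8, 1), (8, 3), (8, 11), (9, 31), (7, 5)], [(1, 1), (10, 1), (11, 2), (10, 3), (9, 23), (9, 17), (9, 21), (9, 5), (9, 29), (9, 11), (7, 1), (9, 27), (9, 33), (8, 5), (8, 9), (6, 1),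 (9, 35), (7, 3), (8, 13)], [(2, 0), (12, 0), (16, 3), (14, 5), (16, 5), (15, 6), (15, 8), (16, 9), (16, 7)], [(2, 1), (10, 0), (16, 0), (16, 1), (14, 3), (14, 7), (15, 2), (14, 1), (15, 0), (14, 0), (15, 4)], [(3, 0), (13, 0), (14, 8), (15, 3)], [(3, 1), (11, 0), (16, 2), (14, 2), (14, 4), (14, 6), (16, 4), (15, 1), (15, 5), (15, 9), (16, 10), (15, 7), (16, 6), (16, 8)]], [(10, 1), (9, 4), (14, 0), (11, 0), (10, 2), (9, 10), (9, 24), (8, 2), (7, 7), (6, 1), (10, 0), (15, 2), (3, 1), (16, 6), (16, 10), (14, 6), (15, 1), (15, 9)], by decide +kernel⟩, by decide +kernel, Or.inr all⟩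

theorem bound {Γ : Type*} [Group Γ] {x : ℕ → Γ} (hR : ∀ r ∈ R, ev x r = 1) {n : ℕ}
    (h : CardLe x [3, 4, 5, 6] n) : CardLe x [0, 1, 2, 3, 4, 5, 6] (42504 * n) :=
  cert.cardLe rfl hR h

end Cfsg.Agent.L0.J4V3
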