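import Cfsg.Agent.L0.J4.U1
import Cfsg.Agent.L0.J4.V1
import Cfsg.Agent.L0.J4.V2
import Cfsg.Agent.L0.J4.V3
import Cfsg.Agent.L0.J4.Tc
import Cfsg.Agent.L0.J4.Ch
import Cfsg.Agent.L0.J4.Ch0
import Cfsg.Agent.L0.J4.FA
import Cfsg.Agent.L0.J4.FP
import Cfsg.Agent.L0.J4.Clo
import Cfsg.Agent.L0.Mu.J4P2
import Cfsg.Agent.L0.Mu.J4P3
import Cfsg.Agent.L0.DceZ
import Cfsg.Prelude.Def_Spor_J4

/-! The presented group J4: finiteness and the multiplier. -/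

set_option autoImplicit false
set_option maxRecDepth 100000
set_option linter.style.haveILetI false

namespace Cfsg.Agent.L0.J4G

open Cfsg.Spor Dce

/-- letter of a generator -/
def idx : J4.Gen → ℕ
  | .x => 0
  | .y => 1
  | .t => 2

/-- all generators -/
def all : List J4.Gen := [.x, .y, .t]

/-- the letters -/
def x (i : ℕ) : J4 := if i < 3 then PresentedGroup.of (all.getD i .x)
  else (PresentedGroup.of (all.getD (i - 3) .x))⁻¹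

theorem hall : ∀ q, q ∈ all := by intro q; cases q <;> decide

/-- the defining relators -/
def R : List (List ℕ) := [[0, 0],
    [1, 1, 1],
    [0, 1, 0, 1, 0, 1, 0, 1, 0, 1, 0, 1, 0, 1, 0, 1, 0, 1, 0, 1, 0, 1, 0, 1, 0, 1, 0, 1, 0, 1, 0, 1, 0, 1, 0, 1, 0, 1, 0, 1, 0, 1, 0, 1, 0, 1],
    [3, 4, 0, 1, 3, 4, 0, 1, 3, 4, 0, 1, 3, 4, 0, 1, 3, 4, 0, 1, 3, 4, 0, 1, 3, 4, 0, 1, 3, 4, 0, 1, 3, 4, 0, 1, 3, 4, 0, 1, 3, 4, 0, 1, 3, 4, 0, 1],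
    [3, 4, 3, 4, 0, 1, 0, 1, 3, 4, 3, 4, 0, 1, 0, 1, 3, 4, 3, 4, 0, 1, 0, 1, 3, 4, 3, 4, 0, 1, 0, 1, 3, 4, 3, 4, 0, 1, 0, 1],
    [0, 1, 0, 1, 0, 4, 0, 1, 0, 4, 0, 1, 0, 4, 0, 1, 0, 1, 0, 4, 0, 1, 0, 4, 0, 1, 0, 4, 0, 1, 0, 1, 0, 4, 0, 1, 0, 4, 0, 1, 0, 4, 0, 1, 0, 1, 0, 4, 0, 1, 0, 4, 0, 1, 0, 4],
    [0, 1, 0, 1, 0, 4, 0, 1, 0, 1, 0, 4, 0, 1, 0, 1, 0, 4, 0, 1, 0, 4, 0, 4, 0, 1, 0, 4, 0, 4, 0, 1, 0, 4, 0, 4],
    [2, 2],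
    [5, 4, 3, 4, 3, 4, 3, 1, 3, 1, 3, 4, 3, 4, 2, 1, 0, 1, 0, 4, 0, 4, 0, 1, 0, 1, 0, 1],
    [5, 3, 2, 0],
    [1, 3, 1, 3, 4, 3, 1, 3, 4, 2, 1, 0, 4, 0, 1, 0, 4, 0, 1, 3, 1, 3, 4, 3, 1, 3, 4, 2, 1, 0, 4, 0, 1, 0, 4, 0, 1, 3, 1, 3, 4, 3, 1, 3, 4, 2, 1, 0, 4, 0, 1, 0, 4, 0],
    [1, 0, 1, 0, 1, 0, 1, 1, 0, 1, 0, 1, 0, 1, 1, 0, 1, 0, 1, 0, 1, 2, 4, 4, 3, 4, 3, 4, 3, 4, 3, 4, 3, 4, 3, 4, 4, 3, 4, 3, 4, 3, 2, 0, 1, 0, 1, 0, 1, 1, 0, 1, 0, 1, 0, 1, 0, 1, 0, 1, 0, 1, 1, 1, 0, 1, 0, 1, 0, 1, 1, 0, 1, 0, 1, 0, 1, 1, 0, 1, 0, 1, 0, 1, 2, 4, 4, 3, 4, 3, 4, 3, 4, 3, 4, 3, 4, 3, 4, 4, 3, 4, 3, 4, 3, 2, 0, 1, 0, 1, 0, 1, 1, 0, 1, 0, 1, 0, 1, 0, 1, 0, 1, 0, 1, 1],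
    [0, 3],
    [3, 0],
    [1, 4],
    [4, 1],
    [2, 5],
    [5, 2]]

theorem isPres : IsPres x 6 R :=
  isPres_cox (idx := idx) (iv := fun q => idx q + 3) hall (by intro q; cases q <;> rfl)
    (by intro q; cases q <;> rfl) (by decide +kernel) (by decide +kernel) (by decide +kernel)
    (by decide +kernel) (by decide +kernel)

/-- inverse letters -/
def iv (i : ℕ) : ℕ := if i < 3 then i + 3 else i - 3

/-! ### the group on `x, y` -/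

theorem iv0 : ∀ q < 11, PG.gen 11 J40.R (J4FA.P.iv q) = (PG.gen 11 J40.R q)⁻¹ :=
  iv_of_rel (R := J40.R) (fun _ => PG.rel) (by decide +kernel)

/-- the letters `x, xy, xy⁻¹` -/
def E1 (i : ℕ) : List ℕ := List.getD [[0], [0, 1], [2, 0], [0, 2], [1, 0]] i []

theorem rel1 : ∀ r ∈ J4U1.U.map fun r => r.flatMap E1, ev (PG.gen 11 J40.R) r = 1 := by
  obtain ⟨A, hA⟩ := J4Act0.ex
  refine eq_one_of_cyc hA (a := [0, 1]) (m := 23) (c := 0) ?_ (fun u hu => ?_) (by decide +kernel)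
  · rw [← ev_replicate_flatten]
    exact consB_spec iv0 (fun _ => PG.rel (R := J40.R)) (by decide +kernel)
  · obtain ⟨v, hv, rfl⟩ := List.mem_map.mp hu
    rw [ev_flatMap]
    refine genL_le (fun a ha => ?_) (J4U1.mem (cons_ext iv0 (fun _ => PG.rel (R := J40.R)) E1
      (by decide +kernel)) v hv)
    simp only [List.mem_cons, List.not_mem_nil, or_false] at ha
    rcases ha with rfl | rfl
    · exact Subgroup.mem_zpowers _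
    · rw [← inv_mem_iff, ← ev_inv_word iv0 (by decide)]
      exact Subgroup.mem_zpowers _

/-- further letters -/
def E0 (i : ℕ) : List ℕ := List.getD [[0],
    [1],
    [2],
    [2, 0, 2, 0, 1],
    [2, 0, 1, 0, 1],
    [0, 2, 0],
    [0, 1, 0]] i []

/-- the letters as words in the generators -/
def E (i : ℕ) : List ℕ := List.getD [[0],
    [1],
    [2],
    [1, 0, 1, 0, 2, 0, 2, 0, 1, 0, 1, 0, 1],
    [2, 0, 2, 0, 2, 0, 1, 0, 1, 0, 2, 0, 2],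
    [1, 0, 2, 0, 1, 0, 2, 0],
    [0, 1, 0, 2, 0, 1, 0, 2],
    [0, 1, 0, 1, 0, 1, 1, 0, 1, 0, 1, 0, 1, 0, 1, 0, 1, 0, 1, 1],
    [2, 2, 0, 2, 0, 2, 0, 2, 0, 2, 0, 2, 0, 2, 2, 0, 2, 0, 2, 0],
    [1, 0, 1, 0, 1, 0, 1, 1, 0, 1, 0, 1, 0, 1, 1, 0, 1, 0, 1, 0, 1],
    [2, 0, 2, 0, 2, 0, 2, 2, 0, 2, 0, 2, 0, 2, 2, 0, 2, 0, 2, 0, 2],
    [11],
    [12]] i []

theorem card0 : Finite (PG 11 J40.R) ∧ Nat.card (PG 11 J40.R) ≤ 244823040 := by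
  have h := forall_app (fun _ => PG.rel (R := J40.R)) rel1
  have := (((J4V3.bound (cons_ext iv0 h E0 (by decide +kernel))
    (J4V1.bound (cons_ext iv0 h E0 (by decide +kernel))
    (J4V2.bound (cons_ext iv0 h E0 (by decide +kernel)) (cardLe_nil _)))).ext
      (l' := [0, 1, 2]) (by decide +kernel)).exp iv0 (fun _ => PG.rel (R := J40.R)) E
      (by decide +kernel)).top (PG.genL_range _ _)
  simpa using this

instance : Finite (PG 11 J40.R) := card0.1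

theorem exists_act0 : ∃ A : RAct (PG 11 J40.R) 24, A.Tab (PG.gen 11 J40.R) 11 J4Act0.T ∧
    A.IsBase J4Ch0.B ∧ Nat.card (PG 11 J40.R) = 244823040 := by
  obtain ⟨A, hA⟩ := J4Act0.ex
  exact ⟨A, hA, J4Ch0.ch hA card0.2⟩

theorem perfect0 : commutator (PG 11 J40.R) = ⊤ :=
  PG.perfect (by decide +kernel) (Ls := [[(185, 0), (168, 1), (11, 11), (1, 12), (-14, 15)],
    [(-14, 0), (-12, 1), (-1, 11), (1, 15)],
    [(14, 0), (13, 1), (1, 11), (-1, 15)],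
    [(-39, 0), (-34, 1), (1, 3), (-3, 11), (3, 15), (-1, 17)],
    [(39, 0), (34, 1), (3, 11), (-3, 15), (1, 17)],
    [(2, 0), (2, 1), (1, 5), (-1, 18)],
    [(-2, 0), (-2, 1), (1, 18)],
    [(35, 0), (36, 1), (1, 7), (1, 12), (-3, 15), (-1, 19)],
    [(-35, 0), (-36, 1), (-1, 12), (3, 15), (1, 19)],
    [(21, 0), (24, 1), (1, 9), (-1, 11), (1, 12), (-2, 15), (-1, 20)],
    [(-21, 0), (-24, 1), (1, 11), (-1, 12), (2, 15), (1, 20)]]) (by decide +kernel)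

theorem upper0 : UpperMult (PG 11 J40.R) (Multiplicative (ZMod 1)) := by
  obtain ⟨A, ht, hb, hc⟩ := exists_act0
  exact upper_cyclic (k2 := 0) (k3 := 0) rfl ((J4P2.pm hb ht hc).mono (by norm_num))
    ((J4P3.pm hb ht hc).mono (by norm_num))
    (pmult_rest hc [] (by simp) (by decide +kernel) (by decide +kernel))

/-- the generators in the letters of the first enumeration -/
def s (i : ℕ) : List ℕ := List.getD [[0],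
    [1],
    [11],
    [0],
    [2],
    [12]] i []

/-- the letters of the first enumeration -/
def t (i : ℕ) : List ℕ := List.getD [[0],
    [1],
    [4],
    [1, 0, 1, 0, 4, 0, 4, 0, 1, 0, 1, 0, 1],
    [4, 3, 4, 3, 4, 3, 1, 3, 1, 3, 4, 3, 4],
    [1, 0, 4, 0, 1, 0, 4, 0],
    [3, 1, 3, 4, 3, 1, 3, 4],
    [0, 1, 0, 1, 0, 1, 1, 0, 1, 0, 1, 0, 1, 0, 1, 0, 1, 0, 1, 1],
    [4, 4, 3, 4, 3, 4, 3, 4, 3, 4, 3, 4, 3, 4, 4, 3, 4, 3, 4, 3],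
    [1, 0, 1, 0, 1, 0, 1, 1, 0, 1, 0, 1, 0, 1, 1, 0, 1, 0, 1, 0, 1],
    [4, 3, 4, 3, 4, 3, 4, 4, 3, 4, 3, 4, 3, 4, 4, 3, 4, 3, 4, 3, 4],
    [2],
    [5]] i []

/-- the relators with the third generator -/
def Z : List (List ℕ) := [[11, 11],
    [12, 4, 11, 3],
    [12, 0, 11, 0],
    [1, 6, 11, 5, 1, 6, 11, 5, 1, 6, 11, 5],
    [9, 11, 8, 11, 7, 9, 11, 8, 11, 7]]

theorem br : ∃ (φ : PG 11 J40.R →* J4) (z : J4),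
    (∀ i < 6, x i = ev (XX 11 (PG.gen 11 J40.R) φ z) (s i)) ∧
      ∀ r ∈ J40.R ++ Z, ev (XX 11 (PG.gen 11 J40.R) φ z) r = 1 := by
  obtain ⟨φ, z, h1, h2⟩ := bridge (n := 6) (k := 11) (RH := J40.R) isPres.rel iv J4FA.P.iv s t
    (by decide +kernel) (by decide +kernel) (by decide +kernel) (by decide +kernel)
  obtain ⟨A, ht, hb, -⟩ := exists_act0
  have h : CtxH J4FA.P A (PG.gen 11 J40.R) :=
    ctxH_of (R := J40.R) ht hb (fun _ => PG.rel) (by decide +kernel)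
  have h3 := rel_XX (k := 11) (R := J40.R) (by decide +kernel) (fun _ => PG.rel) φ z
  exact ⟨φ, z, h1, forall_app h3 (cons_exp (h.xiv φ z) (forall_app h3 h2) E (by decide +kernel))⟩

theorem upper : UpperMult J4 (Multiplicative (ZMod 1)) := upper_of_section fun Γ _ σ hs hσ => by
  obtain ⟨A, ht, hb, hc⟩ := exists_act0
  obtain ⟨φ, z, h1, h2⟩ := br
  have h : CtxH J4FA.P A (PG.gen 11 J40.R) :=
    ctxH_of (R := J40.R) ht hb (fun _ => PG.rel) (by decide +kernel)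
  obtain ⟨ψ, hψ⟩ := exists_lift_perfect perfect0 upper0 φ hs hσ
  obtain ⟨y, rfl, hy⟩ := exists_norm hs hσ hψ
    (consB_spec (w := [1, 6, 11, 5, 1, 6, 11, 5, 1, 6, 11, 5]) (h.xiv φ z) h2 (by decide +kernel))
    (consB_spec (w := [12, 12]) (h.xiv φ z) h2 (by decide +kernel)) (by decide +kernel)
  have h3 := labels h hσ hψ (L := [[9, 11, 8, 11, 7, 9, 11, 8, 11, 7],
    [12, 4, 11, 3],
    [12, 0, 11, 0],
    [11, 11]])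
    (cons_all (h.xiv φ _) h2 (by decide +kernel)) hy (by decide +kernel) fun c hc => J4FA.rel h hc
  exact section_of h isPres hψ h1 (exp_cons (h.xiv ψ y)
    (forall_app (rel_XX (R := J40.R) (by decide +kernel) (fun _ => PG.rel) ψ y) h3) E
    (by decide +kernel)) (by decide +kernel)

/-! ### the group on `x, y, v` -/

theorem card_H : Finite (PG 13 J4H.R) ∧ Nat.card (PG 13 J4H.R) ≤ 501397585920 := by
  obtain ⟨A, ht, hb, -⟩ := exists_act0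
  have h : ∀ r ∈ J40.R, ev (PG.gen 13 J4H.R) r = 1 :=
    rel_sub (R := J4H.R) (fun _ => PG.rel) (by decide +kernel)
  have h1 := rel_of_PG (k := 11) (L := J4Tc.R.filter fun r => r.all (· < 11)) (by decide +kernel) h
    (hb.ev_eq_one ht (by decide +kernel) (by decide +kernel))
  have h2 : CardLe (PG.gen 13 J4H.R) (List.range 11) 244823040 :=
    cardLe_of_PG (by decide +kernel) h card0
  have h3 : CardLe (PG.gen 13 J4H.R) (List.range 13) (2048 * 244823040) :=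
    J4Tc.bound (rel_sub (forall_app h1 fun _ => PG.rel (R := J4H.R)) (by decide +kernel)) h2
  simpa using h3.top (PG.genL_range _ _)

instance : Finite (PG 13 J4H.R) := card_H.1

theorem exists_act : ∃ A : RAct (PG 13 J4H.R) 2048, A.Tab (PG.gen 13 J4H.R) 13 J4Act.T ∧
    A.IsBase J4Ch.B ∧ Nat.card (PG 13 J4H.R) = 501397585920 := by
  obtain ⟨A, hA⟩ := J4Act.ex
  exact ⟨A, hA, J4Ch.ch hA card_H.2⟩

/-- the letters of the second enumeration in those of the first -/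
def E2 (i : ℕ) : List ℕ := List.getD [[0],
    [1],
    [2],
    [3],
    [4],
    [5],
    [6],
    [7],
    [8],
    [9],
    [10],
    [11, 1, 0, 1, 0, 1, 0, 1, 0, 2, 0, 1, 0, 1, 0, 2, 0, 2, 0, 2, 0, 2, 11, 1, 0, 1, 0, 1, 0, 1, 0, 2, 0, 1, 0, 1, 0, 2, 0, 2, 0, 2, 0, 2, 11, 1, 0, 9, 1, 5, 2],
    [1, 6, 2, 10, 0, 2, 12, 1, 0, 1, 0, 1, 0, 1, 0, 2, 0, 2, 0, 1, 0, 2, 0, 2, 0, 2, 0, 2, 12, 1, 0, 1, 0, 1, 0, 1, 0, 2, 0, 2, 0, 1, 0, 2, 0, 2, 0, 2, 0, 2, 12],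
    [11],
    [12]] i []

/-- the relators in the letters of the second enumeration -/
def K : List (List ℕ) := [[0, 0],
    [1, 2],
    [2, 1],
    [3, 4],
    [4, 3],
    [5, 6],
    [6, 5],
    [7, 8],
    [8, 7],
    [9, 10],
    [10, 9],
    [11, 12],
    [12, 11],
    [1, 1, 1],
    [0, 1, 0, 1, 0, 1, 0, 1, 0, 1, 0, 1, 0, 1, 0, 1, 0, 1, 0, 1, 0, 1, 0, 1, 0, 1, 0, 1, 0, 1, 0, 1, 0, 1, 0, 1, 0, 1, 0, 1, 0, 1, 0, 1, 0, 1],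
    [0, 2, 0, 1, 0, 2, 0, 1, 0, 2, 0, 1, 0, 2, 0, 1, 0, 2, 0, 1, 0, 2, 0, 1, 0, 2, 0, 1, 0, 2, 0, 1, 0, 2, 0, 1, 0, 2, 0, 1, 0, 2, 0, 1, 0, 2, 0, 1],
    [0, 2, 0, 2, 0, 1, 0, 1, 0, 2, 0, 2, 0, 1, 0, 1, 0, 2, 0, 2, 0, 1, 0, 1, 0, 2, 0, 2, 0, 1, 0, 1, 0, 2, 0, 2, 0, 1, 0, 1],
    [0, 1, 0, 1, 0, 2, 0, 1, 0, 2, 0, 1, 0, 2, 0, 1, 0, 1, 0, 2, 0, 1, 0, 2, 0, 1, 0, 2, 0, 1, 0, 1, 0, 2, 0, 1, 0, 2, 0, 1, 0, 2, 0, 1, 0, 1, 0, 2, 0, 1, 0, 2, 0, 1, 0, 2],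
    [0, 1, 0, 1, 0, 2, 0, 1, 0, 1, 0, 2, 0, 1, 0, 1, 0, 2, 0, 1, 0, 2, 0, 2, 0, 1, 0, 2, 0, 2, 0, 1, 0, 2, 0, 2],
    [4, 1, 0, 1, 0, 2, 0, 2, 0, 1, 0, 1, 0, 1],
    [6, 1, 0, 2, 0, 1, 0, 2, 0],
    [8, 0, 1, 0, 1, 0, 1, 1, 0, 1, 0, 1, 0, 1, 0, 1, 0, 1, 0, 1, 1],
    [10, 1, 0, 1, 0, 1, 0, 1, 1, 0, 1, 0, 1, 0, 1, 1, 0, 1, 0, 1, 0, 1],
    [11, 11],
    [11, 0, 12, 0],
    [11, 2, 0, 1, 12, 2, 0, 1],
    [11, 3, 0, 4, 12, 3, 0, 4],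
    [11, 4, 11, 3, 6, 6, 6, 12, 5, 5, 5],
    [11, 3, 11, 4, 0, 4, 4, 12, 3, 3, 0],
    [11, 4, 4, 11, 3, 3, 0, 3, 12, 4, 0],
    [11, 0, 3, 11, 4, 0, 4, 4, 12, 3, 3],
    [11, 0, 4, 4, 11, 3, 3, 0, 3, 12, 4],
    [11, 6, 6, 6, 11, 5, 5, 5, 4, 12, 3],
    [11, 6, 11, 5, 5, 2, 6, 6, 12, 5, 5, 1, 6],
    [11, 5, 11, 6, 1, 6, 4, 1, 12, 2, 3, 5, 2],
    [11, 2, 3, 11, 4, 1, 5, 2, 6, 12, 5, 1, 6],
    [11, 5, 2, 6, 11, 5, 1, 6, 2, 3, 12, 4, 1],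
    [11, 1, 6, 4, 1, 11, 2, 3, 5, 2, 5, 12, 6],
    [11, 5, 2, 6, 6, 11, 5, 5, 1, 6, 6, 12, 5],
    [13, 14],
    [14, 13],
    [13, 13],
    [14, 4, 13, 3],
    [14, 0, 13, 0],
    [1, 6, 13, 5, 1, 6, 13, 5, 1, 6, 13, 5],
    [9, 13, 8, 13, 7, 9, 13, 8, 13, 7],
    [13, 1, 3, 11, 4, 2, 13, 2, 6, 2, 6, 2, 3, 6, 2, 6, 6, 0, 3, 12, 4, 0, 5],
    [12, 13, 1, 0, 1, 0, 1, 0, 1, 0, 2, 0, 1, 0, 1, 0, 2, 0, 2, 0, 2, 0, 2, 13, 1, 0, 1, 0, 1, 0, 1, 0, 2, 0, 1, 0, 1, 0, 2, 0, 2, 0, 2, 0, 2, 13, 1, 0, 9, 1, 5, 2]]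

/-- the generators in the letters of the second enumeration -/
def s2 (i : ℕ) : List ℕ := [List.getD [0, 1, 13, 0, 2, 14] i 0]

theorem br2 : ∃ (φ : PG 13 J4H.R →* J4) (z : J4),
    (∀ i < 6, x i = ev (XX 13 (PG.gen 13 J4H.R) φ z) (s2 i)) ∧
      ∀ r ∈ K.map fun r => r.flatMap fun i => [i], ev (XX 13 (PG.gen 13 J4H.R) φ z) r = 1 := by
  obtain ⟨A, ht, hb, hc⟩ := exists_act0
  obtain ⟨φ, z, h1, h2⟩ := br
  have h : CtxH J4FP.P A (PG.gen 11 J40.R) :=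
    ctxH_of (R := J40.R) ht hb (fun _ => PG.rel) (by decide +kernel)
  have h3 := forall_app h2 (J4FP.rel h (ctxG_one h h2 (by decide +kernel)))
  obtain ⟨φ', z', h4, h5⟩ := bridge (n := 15) (k := 13) (RH := J4H.R)
    (cons_ext (h.xiv φ z) h3 E2 (L := K) (by decide +kernel)) J4FB.P.iv J4FB.P.iv
    (fun i => [i]) (fun i => [i]) (by decide +kernel) (by decide +kernel) (by decide +kernel)
    (by decide +kernel)
  refine ⟨φ', z', fun i hi => Eq.trans (h1 i hi) (Eq.trans ?_ (h4 _ (by interval_cases i <;> decide))), h5⟩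
  interval_cases i <;> rfl

theorem finite : Finite J4 := by
  obtain ⟨A, ht, hb, hc⟩ := exists_act
  obtain ⟨B, hB⟩ := J4ActN.ex
  obtain ⟨φ, z, h1, h2⟩ := br2
  have h : CtxH J4FB.P A (PG.gen 13 J4H.R) :=
    ctxH_of (R := J4H.R) ht hb (fun _ => PG.rel) (by decide +kernel)
  exact (J4Clo.fin h (ctxG_one h h2 (by decide +kernel)) hB hc.le (gen_of isPres.gen_top h1)).1

end Cfsg.Agent.L0.J4G
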