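import Cfsg.Agent.L0.Word

/-! Relators of a subgroup. -/

set_option autoImplicit false

namespace Cfsg.Agent.L0.J4H

/-- the relators -/
def R : List (List ℕ) := [[nat_lit 0, nat_lit 0],
  [nat_lit 1, nat_lit 2],
  [nat_lit 2, nat_lit 1],
  [nat_lit 3, nat_lit 4],
  [nat_lit 4, nat_lit 3],
  [nat_lit 5, nat_lit 6],
  [nat_lit 6, nat_lit 5],
  [nat_lit 7, nat_lit 8],
  [nat_lit 8, nat_lit 7],
  [nat_lit 9, nat_lit 10],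
  [nat_lit 10, nat_lit 9],
  [nat_lit 11, nat_lit 12],
  [nat_lit 12, nat_lit 11],
  [nat_lit 1, nat_lit 1, nat_lit 1],
  [nat_lit 0, nat_lit 1, nat_lit 0, nat_lit 1, nat_lit 0, nat_lit 1, nat_lit 0, nat_lit 1, nat_lit 0, nat_lit 1, nat_lit 0, nat_lit 1, nat_lit 0, nat_lit 1, nat_lit 0, nat_lit 1, nat_lit 0, nat_lit 1, nat_lit 0, nat_lit 1, nat_lit 0, nat_lit 1, nat_lit 0, nat_lit 1, nat_lit 0, nat_lit 1, nat_lit 0, nat_lit 1, nat_lit 0, nat_lit 1, nat_lit 0, nat_lit 1, nat_lit 0, nat_lit 1, nat_lit 0, nat_lit 1, nat_lit 0, nat_lit 1, nat_lit 0, nat_lit 1, nat_lit 0, nat_lit 1, nat_lit 0, nat_lit 1, nat_lit 0, nat_lit 1],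
  [nat_lit 0, nat_lit 2, nat_lit 0, nat_lit 1, nat_lit 0, nat_lit 2, nat_lit 0, nat_lit 1, nat_lit 0, nat_lit 2, nat_lit 0, nat_lit 1, nat_lit 0, nat_lit 2, nat_lit 0, nat_lit 1, nat_lit 0, nat_lit 2, nat_lit 0, nat_lit 1, nat_lit 0, nat_lit 2, nat_lit 0, nat_lit 1, nat_lit 0, nat_lit 2, nat_lit 0, nat_lit 1, nat_lit 0, nat_lit 2, nat_lit 0, nat_lit 1, nat_lit 0, nat_lit 2, nat_lit 0, nat_lit 1, nat_lit 0, nat_lit 2, nat_lit 0, nat_lit 1, nat_lit 0, nat_lit 2, nat_lit 0, nat_lit 1, nat_lit 0, nat_lit 2, nat_lit 0, nat_lit 1],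
  [nat_lit 0, nat_lit 2, nat_lit 0, nat_lit 2, nat_lit 0, nat_lit 1, nat_lit 0, nat_lit 1, nat_lit 0, nat_lit 2, nat_lit 0, nat_lit 2, nat_lit 0, nat_lit 1, nat_lit 0, nat_lit 1, nat_lit 0, nat_lit 2, nat_lit 0, nat_lit 2, nat_lit 0, nat_lit 1, nat_lit 0, nat_lit 1, nat_lit 0, nat_lit 2, nat_lit 0, nat_lit 2, nat_lit 0, nat_lit 1, nat_lit 0, nat_lit 1, nat_lit 0, nat_lit 2, nat_lit 0, nat_lit 2, nat_lit 0, nat_lit 1, nat_lit 0, nat_lit 1],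
  [nat_lit 0, nat_lit 1, nat_lit 0, nat_lit 1, nat_lit 0, nat_lit 2, nat_lit 0, nat_lit 1, nat_lit 0, nat_lit 2, nat_lit 0, nat_lit 1, nat_lit 0, nat_lit 2, nat_lit 0, nat_lit 1, nat_lit 0, nat_lit 1, nat_lit 0, nat_lit 2, nat_lit 0, nat_lit 1, nat_lit 0, nat_lit 2, nat_lit 0, nat_lit 1, nat_lit 0, nat_lit 2, nat_lit 0, nat_lit 1, nat_lit 0, nat_lit 1, nat_lit 0, nat_lit 2, nat_lit 0, nat_lit 1, nat_lit 0, nat_lit 2, nat_lit 0, nat_lit 1, nat_lit 0, nat_lit 2, nat_lit 0, nat_lit 1, nat_lit 0, nat_lit 1, nat_lit 0, nat_lit 2, nat_lit 0, nat_lit 1, nat_lit 0, nat_lit 2, nat_lit 0, nat_lit 1, nat_lit 0, nat_lit 2],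
  [nat_lit 0, nat_lit 1, nat_lit 0, nat_lit 1, nat_lit 0, nat_lit 2, nat_lit 0, nat_lit 1, nat_lit 0, nat_lit 1, nat_lit 0, nat_lit 2, nat_lit 0, nat_lit 1, nat_lit 0, nat_lit 1, nat_lit 0, nat_lit 2, nat_lit 0, nat_lit 1, nat_lit 0, nat_lit 2, nat_lit 0, nat_lit 2, nat_lit 0, nat_lit 1, nat_lit 0, nat_lit 2, nat_lit 0, nat_lit 2, nat_lit 0, nat_lit 1, nat_lit 0, nat_lit 2, nat_lit 0, nat_lit 2],
  [nat_lit 4, nat_lit 1, nat_lit 0, nat_lit 1, nat_lit 0, nat_lit 2, nat_lit 0, nat_lit 2, nat_lit 0, nat_lit 1, nat_lit 0, nat_lit 1, nat_lit 0, nat_lit 1],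
  [nat_lit 6, nat_lit 1, nat_lit 0, nat_lit 2, nat_lit 0, nat_lit 1, nat_lit 0, nat_lit 2, nat_lit 0],
  [nat_lit 8, nat_lit 0, nat_lit 1, nat_lit 0, nat_lit 1, nat_lit 0, nat_lit 1, nat_lit 1, nat_lit 0, nat_lit 1, nat_lit 0, nat_lit 1, nat_lit 0, nat_lit 1, nat_lit 0, nat_lit 1, nat_lit 0, nat_lit 1, nat_lit 0, nat_lit 1, nat_lit 1],
  [nat_lit 10, nat_lit 1, nat_lit 0, nat_lit 1, nat_lit 0, nat_lit 1, nat_lit 0, nat_lit 1, nat_lit 1, nat_lit 0, nat_lit 1, nat_lit 0, nat_lit 1, nat_lit 0, nat_lit 1, nat_lit 1, nat_lit 0, nat_lit 1, nat_lit 0, nat_lit 1, nat_lit 0, nat_lit 1],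
  [nat_lit 11, nat_lit 11],
  [nat_lit 11, nat_lit 0, nat_lit 12, nat_lit 0],
  [nat_lit 11, nat_lit 2, nat_lit 0, nat_lit 1, nat_lit 12, nat_lit 2, nat_lit 0, nat_lit 1],
  [nat_lit 11, nat_lit 3, nat_lit 0, nat_lit 4, nat_lit 12, nat_lit 3, nat_lit 0, nat_lit 4],
  [nat_lit 11, nat_lit 4, nat_lit 11, nat_lit 3, nat_lit 6, nat_lit 6, nat_lit 6, nat_lit 12, nat_lit 5, nat_lit 5, nat_lit 5],
  [nat_lit 11, nat_lit 3, nat_lit 11, nat_lit 4, nat_lit 0, nat_lit 4, nat_lit 4, nat_lit 12, nat_lit 3, nat_lit 3, nat_lit 0],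
  [nat_lit 11, nat_lit 4, nat_lit 4, nat_lit 11, nat_lit 3, nat_lit 3, nat_lit 0, nat_lit 3, nat_lit 12, nat_lit 4, nat_lit 0],
  [nat_lit 11, nat_lit 0, nat_lit 3, nat_lit 11, nat_lit 4, nat_lit 0, nat_lit 4, nat_lit 4, nat_lit 12, nat_lit 3, nat_lit 3],
  [nat_lit 11, nat_lit 0, nat_lit 4, nat_lit 4, nat_lit 11, nat_lit 3, nat_lit 3, nat_lit 0, nat_lit 3, nat_lit 12, nat_lit 4],
  [nat_lit 11, nat_lit 6, nat_lit 6, nat_lit 6, nat_lit 11, nat_lit 5, nat_lit 5, nat_lit 5, nat_lit 4, nat_lit 12, nat_lit 3],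
  [nat_lit 11, nat_lit 6, nat_lit 11, nat_lit 5, nat_lit 5, nat_lit 2, nat_lit 6, nat_lit 6, nat_lit 12, nat_lit 5, nat_lit 5, nat_lit 1, nat_lit 6],
  [nat_lit 11, nat_lit 5, nat_lit 11, nat_lit 6, nat_lit 1, nat_lit 6, nat_lit 4, nat_lit 1, nat_lit 12, nat_lit 2, nat_lit 3, nat_lit 5, nat_lit 2],
  [nat_lit 11, nat_lit 2, nat_lit 3, nat_lit 11, nat_lit 4, nat_lit 1, nat_lit 5, nat_lit 2, nat_lit 6, nat_lit 12, nat_lit 5, nat_lit 1, nat_lit 6],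
  [nat_lit 11, nat_lit 5, nat_lit 2, nat_lit 6, nat_lit 11, nat_lit 5, nat_lit 1, nat_lit 6, nat_lit 2, nat_lit 3, nat_lit 12, nat_lit 4, nat_lit 1],
  [nat_lit 11, nat_lit 1, nat_lit 6, nat_lit 4, nat_lit 1, nat_lit 11, nat_lit 2, nat_lit 3, nat_lit 5, nat_lit 2, nat_lit 5, nat_lit 12, nat_lit 6],
  [nat_lit 11, nat_lit 5, nat_lit 2, nat_lit 6, nat_lit 6, nat_lit 11, nat_lit 5, nat_lit 5, nat_lit 1, nat_lit 6, nat_lit 6, nat_lit 12, nat_lit 5]]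

end Cfsg.Agent.L0.J4H
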